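import Mathlib
import Cfsg.Agent.Inv.StrongEmb
import Cfsg.Agent.Inv.NFour
import Cfsg.Agent.Inv.Inverted
import Cfsg.Agent.Core.Coprime

/-! Groups in which all involution centralizers are elementary abelian 2-groups. -/

namespace Cfsg.Agent.Inv

open Subgroup
open scoped Pointwise

variable {G : Type*} [Group G]

structure EC (T : Sylow 2 G) : Prop where
  nc : ¬ IsCyclic (T : Subgroup G)
  nn : ¬ (T : Subgroup G).Normal
  C : ∀ t : G, orderOf t = 2 → IsMulCommutative (centralizer ({t} : Set G)) ∧ ∀ c ∈ centralizer ({t} : Set G), c ^ 2 = 1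

/-- The two point stabilizer. -/
abbrev twoStab (H : Subgroup G) (u : G) : Subgroup G := H ⊓ H.map (MulAut.conj u).toMonoidHom

theorem mem_twoStab {H : Subgroup G} {u d : G} : d ∈ twoStab H u ↔ d ∈ H ∧ u⁻¹ * d * u ∈ H := by
  rw [mem_inf, mem_map_conj]



namespace EC

variable [Finite G] {T : Sylow 2 G}

local notation "H" => normalizer ((T : Subgroup G) : Set G)

omit [Finite G] in
theorem eq_one (h : EC T) {t x : G} (ht : orderOf t = 2) (hx : Odd (orderOf x)) (hc : Commute x t) : x = 1 := by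
  have := (h.C t ht).2 x (mem_centralizer_single.mpr hc)
  exact eq_one_of_odd_of_mul_self hx (by rwa [← pow_two])

omit [Finite G] in
theorem ne_bot (h : EC T) : (T : Subgroup G) ≠ ⊥ := fun e => h.nc (by rw [e]; infer_instance)

theorem exists_le (h : EC T) : ∃ z : G, orderOf z = 2 ∧ (T : Subgroup G) ≤ centralizer ({z} : Set G) := by
  obtain ⟨z, hz, hz1, hz2, hz3⟩ := exists_central_invol T.isPGroup' h.ne_bot
  exact ⟨z, orderOf_two' hz2 hz3, fun t ht => mem_centralizer_single.mpr (hz1 t ht)⟩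

theorem sq (h : EC T) {t : G} (ht : t ∈ (T : Subgroup G)) : t * t = 1 := by
  obtain ⟨z, hz, hle⟩ := h.exists_le
  rw [← pow_two]; exact (h.C z hz).2 t (hle ht)

theorem two (h : EC T) {t : G} (ht : t ∈ (T : Subgroup G)) (h1 : t ≠ 1) : orderOf t = 2 := orderOf_two' h1 (h.sq ht)

theorem comm (h : EC T) {s t : G} (hs : s ∈ (T : Subgroup G)) (ht : t ∈ (T : Subgroup G)) : Commute s t :=
  commute_of_mul_self (h.sq hs) (h.sq ht) (h.sq ((T : Subgroup G).mul_mem hs ht))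

theorem cent (h : EC T) {t : G} (ht : t ∈ (T : Subgroup G)) (h1 : t ≠ 1) : centralizer ({t} : Set G) = T := by
  refine T.is_maximal' (fun c => ⟨1, Subtype.ext ?_⟩) (fun s hs => mem_centralizer_single.mpr (h.comm hs ht))
  simpa using (h.C t (h.two ht h1)).2 c c.2

theorem four_le (h : EC T) : 4 ≤ Nat.card T := by
  haveI : Fact (Nat.Prime 2) := ⟨Nat.prime_two⟩
  obtain ⟨n, hn⟩ := IsPGroup.iff_card.mp T.isPGroup'
  rcases n with _ | _ | n
  · exact absurd (card_eq_one.mp (by simpa using hn)) h.ne_bot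
  · exact absurd (isCyclic_of_prime_card (p := 2) (by simpa using hn)) h.nc
  · have : Nat.card T = 2 ^ (n + 1 + 1) := hn
    rw [this, pow_add, pow_add]
    have : 0 < 2 ^ n := by positivity
    omega

omit [Finite G] in
theorem mem_T {t : G} (ht : t ∈ H) (h2 : t * t = 1) : t ∈ (T : Subgroup G) := by
  have := (isPGroup_zpowers_of_mul_self h2).inf_normalizer_sylow T
  exact (this.le ⟨mem_zpowers t, ht⟩).2

omit [Finite G] in

theorem exists_mem (h : EC T) : ∃ s ∈ (T : Subgroup G), s ≠ 1 := by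
  obtain ⟨s, hs⟩ := (T : Subgroup G).ne_bot_iff_exists_ne_one.mp h.ne_bot
  exact ⟨s, s.2, fun e => hs (Subtype.ext e)⟩

theorem se (h : EC T) : IsStronglyEmbedded H := by
  obtain ⟨s, hs, hs1⟩ := h.exists_mem
  refine se_of (fun e => h.nn (normalizer_eq_top_iff.mp e)) (le_normalizer hs) (h.two hs hs1) (fun t ht ht2 g hg => ?_)
  have htT := mem_T ht (mul_self_of_two ht2)
  have ht1 : t ≠ 1 := by rintro rfl; simp at ht2
  have hgT := mem_T hg (by
    calc g * t * g⁻¹ * (g * t * g⁻¹) = g * (t * t) * g⁻¹ := by group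
      _ = 1 := by rw [mul_self_of_two ht2]; group)
  have e1 := h.cent htT ht1
  have e2 := h.cent hgT (conj_ne_one' ht1)
  rw [mem_normalizer_iff]
  intro x
  constructor
  · intro hx
    rw [← e2, mem_centralizer_single]
    rw [← e1, mem_centralizer_single] at hx
    show g * x * g⁻¹ * (g * t * g⁻¹) = g * t * g⁻¹ * (g * x * g⁻¹)
    calc g * x * g⁻¹ * (g * t * g⁻¹) = g * (x * t) * g⁻¹ := by group
      _ = _ := by rw [hx.eq]; group
  · intro hx
    rw [← e1, mem_centralizer_single]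
    rw [← e2, mem_centralizer_single] at hx
    show x * t = t * x
    calc x * t = g⁻¹ * (g * x * g⁻¹ * (g * t * g⁻¹)) * g := by group
      _ = _ := by rw [hx.eq]; group

variable {u : G}

theorem odd (h : EC T) (huH : u ∉ H) : Odd (Nat.card (twoStab H u)) := by
  rw [odd_card_iff]
  intro t ht ht2
  rw [mem_twoStab] at ht
  exact huH (se_mem h.se ht.1 ht2 ht.2)

theorem odd_mem (h : EC T) (huH : u ∉ H) {d : G} (hd : d ∈ twoStab H u) : Odd (orderOf d) :=
  odd_orderOf_of_mem (h.odd huH) hd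

theorem eq_one_of_mem (h : EC T) (huH : u ∉ H) {d : G} (hd : d ∈ twoStab H u) (hT : d ∈ (T : Subgroup G)) : d = 1 :=
  eq_one_of_odd_of_mul_self (h.odd_mem huH hd) (h.sq hT)

theorem inverts (h : EC T) (hu : orderOf u = 2) (huH : u ∉ H) {d : G} (hd : d ∈ twoStab H u) :
    u * d * u⁻¹ = d⁻¹ := by
  obtain ⟨c, hc, i, -, h1, h2, h3⟩ := exists_fixed_mul_inverted (P := twoStab H u) (fun y hy => h.odd_mem huH hy)
    (mul_self_of_two hu) (fun y hy => by
      rw [mem_twoStab] at hy ⊢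
      refine ⟨?_, by simpa [mul_assoc] using hy.1⟩
      have := hy.2
      rwa [inv_eq_of_two hu] at this ⊢) hd
  rw [h3, h.eq_one hu (h.odd_mem huH hc) h1, one_mul, h2]

theorem trans (h : EC T) (hu : orderOf u = 2) (huH : u ∉ H) {s t : G} (hs : s ∈ (T : Subgroup G)) (hs1 : s ≠ 1)
    (ht : t ∈ (T : Subgroup G)) (ht1 : t ≠ 1) : ∃ d ∈ twoStab H u, d * s * d⁻¹ = t := by
  obtain ⟨d, hd, h1, h2⟩ := se_exists_conj_inverted h.se huH hu (le_normalizer hs) (h.two hs hs1)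
    (le_normalizer ht) (h.two ht ht1)
  refine ⟨d, mem_twoStab.mpr ⟨hd, ?_⟩, h2⟩
  rw [inv_eq_of_two hu] at h1 ⊢
  rw [h1]; exact inv_mem hd

theorem decomp (h : EC T) (hu : orderOf u = 2) (huH : u ∉ H) {g : G} (hg : g ∈ H) :
    ∃ d ∈ twoStab H u, ∃ t ∈ (T : Subgroup G), g = d * t := by
  obtain ⟨s, hs, hs1⟩ := h.exists_mem
  obtain ⟨d, hd, e⟩ := h.trans hu huH hs hs1 ((mem_normalizer_iff.mp hg s).mp hs) (conj_ne_one' hs1)
  refine ⟨d, hd, d⁻¹ * g, ?_, by group⟩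
  rw [← h.cent hs hs1, mem_centralizer_single, commute_iff_conj]
  calc d⁻¹ * g * s * (d⁻¹ * g)⁻¹ = d⁻¹ * (g * s * g⁻¹) * d := by group
    _ = s := by rw [← e]; group

theorem card_D (h : EC T) (hu : orderOf u = 2) (huH : u ∉ H) : Nat.card (twoStab H u) = Nat.card T - 1 := by
  obtain ⟨s, hs, hs1⟩ := h.exists_mem
  have e : Nat.card (twoStab H u) = Nat.card {t : (T : Subgroup G) // t ≠ 1} := by
    refine Nat.card_eq_of_bijective (fun d => ⟨⟨d * s * (d : G)⁻¹, (mem_normalizer_iff.mp d.2.1 s).mp hs⟩,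
      fun e => conj_ne_one' hs1 (congrArg Subtype.val e)⟩) ⟨fun d d' e => ?_, fun t => ?_⟩
    · have e' : (d : G) * s * (d : G)⁻¹ = d' * s * (d' : G)⁻¹ := congrArg (fun x => x.1.1) e
      have h1 : (d' : G)⁻¹ * d ∈ (T : Subgroup G) := by
        refine (h.cent hs hs1).le ?_
        rw [mem_centralizer_single, commute_iff_conj]
        calc (d' : G)⁻¹ * d * s * ((d' : G)⁻¹ * d)⁻¹ = (d' : G)⁻¹ * (d * s * (d : G)⁻¹) * d' := by group
          _ = s := by rw [e']; group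
      have := h.eq_one_of_mem huH (mul_mem (inv_mem d'.2) d.2) h1
      exact Subtype.ext (inv_mul_eq_one.mp this).symm
    · obtain ⟨d, hd, e⟩ := h.trans hu huH hs hs1 t.1.2 (fun e => t.2 (Subtype.ext e))
      exact ⟨⟨d, hd⟩, Subtype.ext (Subtype.ext e)⟩
  rw [e]
  classical
  haveI := Fintype.ofFinite (T : Subgroup G)
  simp only [Nat.card_eq_fintype_card, Fintype.card_subtype_compl, Fintype.card_unique]

theorem compl (h : EC T) (hu : orderOf u = 2) (huH : u ∉ H) :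
    IsComplement' ((twoStab H u).subgroupOf H) ((T : Subgroup G).subgroupOf H) := by
  refine isComplement'_of_disjoint_and_mul_eq_univ (disjoint_def.mpr fun {x} h1 h2 =>
    Subtype.ext (h.eq_one_of_mem huH h1 h2)) (Set.eq_univ_of_forall fun g => ?_)
  obtain ⟨d, hd, t, ht, e⟩ := h.decomp hu huH g.2
  exact ⟨⟨d, hd.1⟩, hd, ⟨t, le_normalizer ht⟩, ht, Subtype.ext e.symm⟩

theorem card_H (h : EC T) (hu : orderOf u = 2) (huH : u ∉ H) : Nat.card H = Nat.card T * (Nat.card T - 1) := by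
  have := (h.compl hu huH).card_mul_card
  rw [Core.card_subgroupOf_of_le inf_le_left, Core.card_subgroupOf_of_le le_normalizer, h.card_D hu huH] at this
  rw [← this, mul_comm]

theorem exists_D (h : EC T) (hu : orderOf u = 2) (huH : u ∉ H) : ∃ d ∈ twoStab H u, d ≠ 1 := by
  have : twoStab H u ≠ ⊥ := fun e => by
    have h1 := h.card_D hu huH
    have h2 := h.four_le
    rw [e, card_bot] at h1; omega
  obtain ⟨s, hs⟩ := (twoStab H u).ne_bot_iff_exists_ne_one.mp this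
  exact ⟨s, s.2, fun e => hs (Subtype.ext e)⟩

theorem eq_one_of_conj (h : EC T) (huH : u ∉ H) {t d : G} (ht : t ∈ (T : Subgroup G)) (hd : d ∈ twoStab H u)
    (hd1 : d ≠ 1) (htd : t * d * t⁻¹ ∈ twoStab H u) : t = 1 := by
  by_contra ht1
  have h1 : t * d * t⁻¹ * d⁻¹ ∈ (T : Subgroup G) := by
    have := (T : Subgroup G).mul_mem ht ((mem_normalizer_iff.mp hd.1 _).mp (inv_mem ht))
    simpa [mul_assoc] using this
  have h2 := h.eq_one_of_mem huH (mul_mem htd (inv_mem hd)) h1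
  exact hd1 (h.eq_one (h.two ht ht1) (h.odd_mem huH hd) (commute_iff_conj.mpr (mul_inv_eq_one.mp h2)).symm)

theorem mem_of_norm (h : EC T) (hu : orderOf u = 2) (huH : u ∉ H) {g : G} (hg : g ∈ H)
    (hn : ∀ d ∈ twoStab H u, g * d * g⁻¹ ∈ twoStab H u) : g ∈ twoStab H u := by
  obtain ⟨d, hd, t, ht, rfl⟩ := h.decomp hu huH hg
  obtain ⟨d0, hd0, hd1⟩ := h.exists_D hu huH
  have := h.eq_one_of_conj huH ht hd0 hd1 (by
    have := mul_mem (mul_mem (inv_mem hd) (hn d0 hd0)) hd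
    simpa [mul_assoc] using this)
  rw [this, mul_one]; exact hd

theorem exists_invol (h : EC T) {g : G} (hg : g ∉ H) : ∃ i : G, orderOf i = 2 ∧ g⁻¹ * i ∈ H ∧ i ∉ H := by
  obtain ⟨s, hs, hs1⟩ := h.exists_mem
  obtain ⟨i, h1, h2, -⟩ := se_exists_swap h.se hg (le_normalizer hs) (h.two hs hs1) (le_normalizer hs) (h.two hs hs1)
  refine ⟨i, h1, h2, fun hi => hg ?_⟩
  have := mul_mem hi (inv_mem h2)
  simpa using this

theorem key (h : EC T) (hu : orderOf u = 2) (huH : u ∉ H) {g : G} (hg : g ∉ H)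
    (hf : ∀ d ∈ twoStab H u, g⁻¹ * d * g ∈ H) :
    ∃ i : G, orderOf i = 2 ∧ g⁻¹ * i ∈ H ∧ ∀ d ∈ twoStab H u, i * d * i⁻¹ = d⁻¹ := by
  obtain ⟨i, h1, h2, h3⟩ := h.exists_invol hg
  refine ⟨i, h1, h2, fun d hd => h.inverts h1 h3 (mem_twoStab.mpr ⟨hd.1, ?_⟩)⟩
  have := mul_mem (mul_mem (inv_mem h2) (hf d hd)) h2
  simpa [mul_assoc] using this

theorem fix (h : EC T) (hu : orderOf u = 2) (huH : u ∉ H) {g : G}
    (hf : ∀ d ∈ twoStab H u, g⁻¹ * d * g ∈ H) : g ∈ H ∨ u⁻¹ * g ∈ H := by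
  by_cases hg : g ∈ H
  · exact Or.inl hg
  right
  obtain ⟨i, h1, h2, h3⟩ := h.key hu huH hg hf
  have hc : ∀ d ∈ twoStab H u, (u⁻¹ * i)⁻¹ * d * (u⁻¹ * i) = d := by
    intro d hd
    have e1 := h.inverts hu huH hd
    have e2 := h3 _ (inv_mem hd)
    rw [inv_eq_of_two h1] at e2
    calc (u⁻¹ * i)⁻¹ * d * (u⁻¹ * i) = i⁻¹ * (u * d * u⁻¹) * i := by group
      _ = d := by rw [e1, inv_eq_of_two h1, e2, inv_inv]
  by_cases hcH : u⁻¹ * i ∈ H
  · have := mul_mem hcH (inv_mem h2)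
    simpa [mul_assoc] using this
  exfalso
  obtain ⟨j, -, j2, j3⟩ := h.key hu huH hcH (fun d hd => by rw [hc d hd]; exact hd.1)
  have hinv : ∀ d ∈ twoStab H u, (u⁻¹ * i)⁻¹ * j * d * ((u⁻¹ * i)⁻¹ * j)⁻¹ = d⁻¹ := by
    intro d hd
    calc (u⁻¹ * i)⁻¹ * j * d * ((u⁻¹ * i)⁻¹ * j)⁻¹ = (u⁻¹ * i)⁻¹ * (j * d * j⁻¹) * (u⁻¹ * i) := by group
      _ = d⁻¹ := by rw [j3 d hd, hc _ (inv_mem hd)]
  have hm := h.mem_of_norm hu huH j2 (fun d hd => by rw [hinv d hd]; exact inv_mem hd)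
  obtain ⟨d0, hd0, hd1⟩ := h.exists_D hu huH
  exact hd1 (eq_one_of_odd_of_mul_self (h.odd_mem huH hd0)
    (mul_self_of_odd_inverts (hinv d0 hd0) (h.odd_mem huH hm)))

theorem reg (h : EC T) (hu : orderOf u = 2) (huH : u ∉ H) {g : G} (hg : g ∉ H) :
    ∃ t ∈ (T : Subgroup G), (t * u)⁻¹ * g ∈ H := by
  haveI : Fact (Nat.Prime 2) := ⟨Nat.prime_two⟩
  obtain ⟨i, h1, h2, h3⟩ := h.exists_invol hg
  haveI : ((T : Subgroup G).subgroupOf H).Normal := normal_in_normalizer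
  have hc := h.compl hu huH
  obtain ⟨t, ht, e⟩ := Core.isComplement'_conj ((T : Subgroup G).subgroupOf H) (by
      rw [hc.index_eq_card, Core.card_subgroupOf_of_le inf_le_left, Core.card_subgroupOf_of_le le_normalizer]
      obtain ⟨n, hn⟩ := IsPGroup.iff_card.mp T.isPGroup'
      rw [hn]
      exact Nat.Coprime.pow_left _ ((Nat.coprime_two_left).mpr (h.odd huH))) (Or.inl (Core.solvable_of_isPGroup T.isPGroup'.comap_subtype)) _ _ hc.symm (h.compl h1 h3).symm
  refine ⟨t, ht, ?_⟩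
  have := h.fix hu huH (g := (t : G)⁻¹ * i) (fun d hd => by
    have h4 : MulAut.conj t • (⟨d, hd.1⟩ : H) ∈ (twoStab H i).subgroupOf H := by
      rw [← e]; exact smul_mem_pointwise_smul _ _ _ hd
    have h5 := (mem_twoStab.mp h4).2
    simpa [mul_assoc] using h5)
  rcases this with h4 | h4
  · exact absurd (by simpa using mul_mem t.2 h4) h3
  · have := mul_mem h4 (inv_mem h2)
    simpa [mul_assoc] using this

local notation "X" => G ⧸ normalizer ((T : Subgroup G) : Set G)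

omit [Finite G] in
theorem smul_mk_eq {K : Subgroup G} {d g k : G} :
    d • (QuotientGroup.mk g : G ⧸ K) = QuotientGroup.mk k ↔ k⁻¹ * d * g ∈ K := by
  rw [MulAction.Quotient.smul_mk, eq_comm, QuotientGroup.eq, smul_eq_mul, mul_assoc]

theorem fix_iff (h : EC T) (hu : orderOf u = 2) (huH : u ∉ H) (g : G) :
    (∀ d ∈ twoStab H u, d • (QuotientGroup.mk g : X) = QuotientGroup.mk g) ↔
      (QuotientGroup.mk g : X) = QuotientGroup.mk 1 ∨ (QuotientGroup.mk g : X) = QuotientGroup.mk u := by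
  simp only [smul_mk_eq]
  rw [eq_comm, QuotientGroup.eq, eq_comm, QuotientGroup.eq, inv_one, one_mul]
  refine ⟨fun hf => h.fix hu huH hf, ?_⟩
  rintro (hg | hg) d hd
  · exact mul_mem (mul_mem (inv_mem hg) hd.1) hg
  · have := mul_mem (mul_mem (inv_mem hg) (mem_twoStab.mp hd).2) hg
    simpa [mul_assoc] using this

theorem norm_D (h : EC T) (hu : orderOf u = 2) (huH : u ∉ H) :
    normalizer ((twoStab H u : Subgroup G) : Set G) = twoStab H u ⊔ zpowers u := by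
  have hun : u ∈ normalizer ((twoStab H u : Subgroup G) : Set G) :=
    mem_normalizer_fintype (fun d hd => by rw [h.inverts hu huH hd]; exact inv_mem hd)
  refine le_antisymm (fun g hg => ?_) (sup_le le_normalizer (zpowers_le.mpr hun))
  rcases h.fix hu huH (g := g) (fun d hd => ((mem_normalizer_iff''.mp hg d).mp hd).1) with h1 | h1
  · exact mem_sup_left (h.mem_of_norm hu huH h1 (fun d hd => (mem_normalizer_iff.mp hg d).mp hd))
  · have := h.mem_of_norm hu huH h1 (fun d hd => (mem_normalizer_iff.mp (mul_mem (inv_mem hun) hg) d).mp hd)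
    have h2 := mul_mem (mem_sup_right (S := twoStab H u) (mem_zpowers u)) (mem_sup_left this)
    simpa using h2

theorem exists_u (h : EC T) : ∃ u : G, orderOf u = 2 ∧ u ∉ H := by
  obtain ⟨u, h1, h2⟩ := se_exists_two_not_mem h.se
  exact ⟨u, h2, h1⟩

theorem reg' (h : EC T) (hu : orderOf u = 2) (huH : u ∉ H) {x : X} (hx : x ≠ QuotientGroup.mk 1) :
    ∃ t ∈ (T : Subgroup G), t • (QuotientGroup.mk u : X) = x := by
  induction x using QuotientGroup.induction_on with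
  | _ g =>
    obtain ⟨t, ht, h1⟩ := h.reg hu huH (g := g) (fun hg => hx (QuotientGroup.eq.mpr (by simpa using hg)))
    refine ⟨t, ht, smul_mk_eq.mpr ?_⟩
    simpa [mul_assoc] using inv_mem h1

theorem semireg (h : EC T) {x : X} (hx : x ≠ QuotientGroup.mk 1) {t : G} (ht : t ∈ (T : Subgroup G))
    (e : t • x = x) : t = 1 := by
  induction x using QuotientGroup.induction_on with
  | _ g =>
    by_contra h1
    exact hx (QuotientGroup.eq.mpr (by simpa using se_mem h.se (le_normalizer ht) (h.two ht h1) (smul_mk_eq.mp e)))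

omit [Finite G] in
theorem smul_one_iff {K : Subgroup G} {g : G} : g • (QuotientGroup.mk 1 : G ⧸ K) = QuotientGroup.mk 1 ↔ g ∈ K := by
  rw [smul_mk_eq]; simp

theorem regular (h : EC T) {x y : X} (hx : x ≠ QuotientGroup.mk 1) (hy : y ≠ QuotientGroup.mk 1) :
    ∃! t : G, t ∈ T ∧ t • x = y := by
  obtain ⟨u, hu, huH⟩ := h.exists_u
  obtain ⟨s, hs, rfl⟩ := h.reg' hu huH hx
  obtain ⟨t, ht, rfl⟩ := h.reg' hu huH hy
  refine ⟨t * s⁻¹, ⟨mul_mem ht (inv_mem hs), by simp [mul_smul]⟩, fun r hr => ?_⟩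
  have := h.semireg hx (t := s * t⁻¹ * r) (mul_mem (mul_mem hs (inv_mem ht)) hr.1) (by
    rw [mul_smul, hr.2]; simp [mul_smul])
  calc r = t * s⁻¹ * (s * t⁻¹ * r) := by group
    _ = _ := by rw [this, mul_one]

theorem two_std (h : EC T) (hu : orderOf u = 2) (huH : u ∉ H) {x y : X} (hxy : x ≠ y) :
    ∃ g : G, g • x = QuotientGroup.mk 1 ∧ g • y = QuotientGroup.mk u := by
  obtain ⟨g, hg⟩ := MulAction.exists_smul_eq G x (QuotientGroup.mk 1 : X)
  obtain ⟨t, ht, e⟩ := h.reg' hu huH (x := g • y) (fun e => hxy (MulAction.injective g (hg.trans e.symm)))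
  refine ⟨t⁻¹ * g, ?_, ?_⟩
  · rw [mul_smul, hg]; exact smul_one_iff.mpr (le_normalizer (inv_mem ht))
  · rw [mul_smul, ← e, inv_smul_smul]

theorem three_std (h : EC T) (hu : orderOf u = 2) (huH : u ∉ H) {s : G} (hs : s ∈ (T : Subgroup G)) (hs1 : s ≠ 1)
    {x y z : X} (hxy : x ≠ y) (hxz : x ≠ z) (hyz : y ≠ z) :
    ∃ g : G, g • x = QuotientGroup.mk 1 ∧ g • y = QuotientGroup.mk u ∧ g • z = s • QuotientGroup.mk u := by
  obtain ⟨g, h1, h2⟩ := h.two_std hu huH hxy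
  obtain ⟨t, ht, e⟩ := h.reg' hu huH (x := g • z) (fun e => hxz (MulAction.injective g (h1.trans e.symm)))
  have ht1 : t ≠ 1 := by
    rintro rfl
    rw [one_smul, ← h2] at e
    exact hyz (MulAction.injective g e)
  obtain ⟨d, hd, e'⟩ := h.trans hu huH ht ht1 hs hs1
  have hdu : d • (QuotientGroup.mk u : X) = QuotientGroup.mk u := smul_mk_eq.mpr (mem_twoStab.mp hd).2
  refine ⟨d * g, by rw [mul_smul, h1]; exact smul_one_iff.mpr hd.1, by rw [mul_smul, h2, hdu], ?_⟩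
  rw [mul_smul, ← e, ← e', mul_smul, mul_smul, inv_smul_eq_iff.mpr hdu.symm]

theorem three_trans (h : EC T) (x₁ x₂ x₃ y₁ y₂ y₃ : X) (a1 : x₁ ≠ x₂) (a2 : x₁ ≠ x₃) (a3 : x₂ ≠ x₃)
    (b1 : y₁ ≠ y₂) (b2 : y₁ ≠ y₃) (b3 : y₂ ≠ y₃) : ∃ g : G, g • x₁ = y₁ ∧ g • x₂ = y₂ ∧ g • x₃ = y₃ := by
  obtain ⟨u, hu, huH⟩ := h.exists_u
  obtain ⟨s, hs, hs1⟩ := h.exists_mem
  obtain ⟨g, g1, g2, g3⟩ := h.three_std hu huH hs hs1 a1 a2 a3
  obtain ⟨k, k1, k2, k3⟩ := h.three_std hu huH hs hs1 b1 b2 b3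
  refine ⟨k⁻¹ * g, ?_, ?_, ?_⟩ <;> rw [mul_smul, inv_smul_eq_iff]
  · rw [g1, k1]
  · rw [g2, k2]
  · rw [g3, k3]

theorem sharp (h : EC T) (g : G) (x₁ x₂ x₃ : X) (a1 : x₁ ≠ x₂) (a2 : x₁ ≠ x₃) (a3 : x₂ ≠ x₃)
    (b1 : g • x₁ = x₁) (b2 : g • x₂ = x₂) (b3 : g • x₃ = x₃) : g = 1 := by
  obtain ⟨u, hu, huH⟩ := h.exists_u
  obtain ⟨s, hs, hs1⟩ := h.exists_mem
  obtain ⟨k, k1, k2, k3⟩ := h.three_std hu huH hs hs1 a1 a2 a3
  have c : ∀ x : X, g • x = x → (k * g * k⁻¹) • k • x = k • x := fun x hx => by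
    rw [mul_smul, inv_smul_smul, mul_smul, hx]
  have c1 := c _ b1
  have c2 := c _ b2
  have c3 := c _ b3
  rw [k1, smul_one_iff] at c1
  rw [k2, smul_mk_eq] at c2
  rw [k3, ← mul_smul, ← inv_smul_eq_iff, ← mul_smul, smul_mk_eq] at c3
  by_contra hg
  have hd : k * g * k⁻¹ ∈ twoStab H u := mem_twoStab.mpr ⟨c1, c2⟩
  have := h.eq_one_of_conj huH (inv_mem hs) hd (conj_ne_one' hg) (mem_twoStab.mpr
    ⟨mul_mem (mul_mem (le_normalizer (inv_mem hs)) c1) (le_normalizer (inv_mem (inv_mem hs))), by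
      simpa [mul_assoc] using c3⟩)
  exact hs1 (inv_eq_one.mp this)

theorem card_X (h : EC T) : Nat.card X = Nat.card T + 1 := by
  obtain ⟨u, hu, huH⟩ := h.exists_u
  have hu1 : (QuotientGroup.mk u : X) ≠ QuotientGroup.mk 1 := fun e => huH (by simpa using QuotientGroup.eq.mp e.symm)
  have e : Nat.card (T : Subgroup G) = Nat.card {x : X // x ≠ QuotientGroup.mk 1} := by
    refine Nat.card_eq_of_bijective (fun t => ⟨(t : G) • QuotientGroup.mk u, fun e => hu1 ?_⟩) ⟨fun s t e => ?_, fun x => ?_⟩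
    · rw [← inv_smul_eq_iff.mpr e.symm]; exact smul_one_iff.mpr (le_normalizer (inv_mem t.2))
    · have e' : (s : G) • (QuotientGroup.mk u : X) = (t : G) • QuotientGroup.mk u := congrArg Subtype.val e
      have := h.semireg hu1 (mul_mem (inv_mem t.2) s.2) (by rw [mul_smul, e', inv_smul_smul])
      exact Subtype.ext (inv_mul_eq_one.mp this).symm
    · obtain ⟨t, ht, e⟩ := h.reg' hu huH x.2
      exact ⟨⟨t, ht⟩, Subtype.ext e⟩
  have e' : Nat.card T = Nat.card {x : X // x ≠ QuotientGroup.mk 1} := e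
  rw [e']
  classical
  haveI := Fintype.ofFinite X
  simp only [Nat.card_eq_fintype_card, Fintype.card_subtype_compl, Fintype.card_unique]
  have : 0 < Fintype.card X := Fintype.card_pos
  omega

end EC

end Cfsg.Agent.Inv
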