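import Mathlib
import Cfsg.Agent.Transfer.Abelian
import Cfsg.Agent.FGS.SylowNum

/-! Thompson's transfer lemma with control of the centraliser. -/

set_option autoImplicit false

namespace Cfsg.Agent.Inv

open Subgroup

variable {G : Type*} [Group G] [Finite G]

/-- The cosets `gH` with `g⁻¹ x g ∈ K` are odd in number. -/
theorem odd_ncard_into (hG : ∀ M : Subgroup G, M.index ≠ 2) {H K : Subgroup G} (hH : Odd H.index)
    (hKH : K ≤ H) (hi : K.relIndex H = 2) {x : G} {n : ℕ} (hx : x ^ 2 ^ n = 1)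
    (h2 : ∀ (g : G) (k : ℕ), g⁻¹ * x ^ (2 * k) * g ∈ H → g⁻¹ * x ^ (2 * k) * g ∈ K) :
    Odd {q : G ⧸ H | ∃ g : G, (g : G ⧸ H) = q ∧ g⁻¹ * x * g ∈ K}.ncard := by
  classical
  have hn : (K.subgroupOf H).Normal := normal_of_index_eq_two hi
  have hcard : Nat.card (H ⧸ K.subgroupOf H) = 2 := hi
  have hcyc : IsCyclic (H ⧸ K.subgroupOf H) := isCyclic_of_prime_card hcard
  let _ : CommGroup (H ⧸ K.subgroupOf H) := hcyc.commGroup
  obtain ⟨c, hc, hc'⟩ := (Nat.card_eq_two_iff' (1 : H ⧸ K.subgroupOf H)).mp hcard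
  have hc2 : c ^ 2 = 1 := by rw [← hcard, pow_card_eq_one']
  set V := MonoidHom.transfer (QuotientGroup.mk' (K.subgroupOf H)) with hV
  have hVx : V x = 1 := by
    by_contra h
    refine hG V.ker ?_
    suffices hr : V.range = ⊤ by rw [index_ker, hr, card_top, hcard]
    rw [eq_top_iff]
    intro y _
    by_cases hy : y = 1
    · exact hy ▸ one_mem _
    · exact ⟨x, by rw [hc' _ h, hc' y hy]⟩
  haveI : Fintype (Quotient (MulAction.orbitRel (zpowers x) (G ⧸ H))) := Fintype.ofFinite _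
  have fix : ∀ (g : G) (k : ℕ), g⁻¹ * x ^ k * g ∈ H ↔ x ^ k • (g : G ⧸ H) = g := by
    intro g k
    rw [MulAction.Quotient.smul_mk, smul_eq_mul, eq_comm, QuotientGroup.eq, mul_assoc]
  let P : Quotient (MulAction.orbitRel (zpowers x) (G ⧸ H)) → Prop :=
    fun o => o.out.out⁻¹ * x * o.out.out ∈ K
  have key : V x * c ^ (Finset.univ.filter P).card = c ^ H.index := by
    rw [index_eq_sum_minimalPeriod H x, ← Finset.prod_pow_eq_pow_sum,
      MonoidHom.transfer_eq_prod_quotient_orbitRel_zpowers_quot, ← Finset.prod_const,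
      Finset.prod_filter, ← Finset.prod_mul_distrib]
    refine Finset.prod_congr rfl fun o _ => ?_
    generalize QuotientGroup.out_conj_pow_minimalPeriod_mem H x o.out = hm
    have hd : Function.minimalPeriod (x • ·) o.out ∣ 2 ^ n :=
      Function.IsPeriodicPt.minimalPeriod_dvd (by
        rw [MulAction.isPeriodicPt_smul_iff, hx, one_smul])
    have h1 : P o → Function.minimalPeriod (x • ·) o.out = 1 := fun h => by
      rw [Function.minimalPeriod_eq_one_iff_isFixedPt]
      have := (fix _ 1).1 (by simpa using hKH h)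
      simpa [Function.IsFixedPt] using this
    revert hm hd h1
    generalize Function.minimalPeriod (x • ·) o.out = m
    intro hm hd h1
    obtain ⟨j, -, rfl⟩ := (Nat.dvd_prime_pow Nat.prime_two).1 hd
    by_cases hP : P o
    · have e : c ^ 2 ^ j = c := by rw [h1 hP, pow_one]
      rw [if_pos hP, e, mul_eq_right, QuotientGroup.mk'_apply,
        QuotientGroup.eq_one_iff, mem_subgroupOf]
      simpa [h1 hP] using hP
    rw [if_neg hP, mul_one]
    rcases j with _ | j
    · simp only [pow_zero, pow_one c]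
      refine hc' _ fun h => hP ?_
      rw [QuotientGroup.mk'_apply, QuotientGroup.eq_one_iff, mem_subgroupOf] at h
      simpa using h
    · have e : c ^ 2 ^ (j + 1) = 1 := by rw [pow_succ', pow_mul c, hc2, one_pow]
      rw [e, QuotientGroup.mk'_apply, QuotientGroup.eq_one_iff, mem_subgroupOf]
      have := h2 _ (2 ^ j) (by rw [← pow_succ']; exact hm)
      rwa [← pow_succ'] at this
  have hodd : Odd (Finset.univ.filter P).card := by
    by_contra h
    obtain ⟨a, ha⟩ := Nat.not_odd_iff_even.1 h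
    obtain ⟨b, hb⟩ := hH
    rw [hVx, one_mul, ha, hb, ← two_mul, pow_succ, pow_mul, pow_mul, hc2, one_pow, one_pow,
      one_mul] at key
    exact hc key.symm
  have well : ∀ g g' : G, (g : G ⧸ H) = g' → g⁻¹ * x * g ∈ K → g'⁻¹ * x * g' ∈ K := by
    intro g g' e h
    have := hn.conj_mem' ⟨_, hKH h⟩ h ⟨_, QuotientGroup.eq.1 e⟩
    rw [mem_subgroupOf] at this
    convert this using 1
    simp only [coe_mul, coe_inv]; group
  rw [← Set.ncard_coe_finset] at hodd
  convert hodd using 1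
  refine (Set.ncard_congr (fun o _ => o.out) (fun o ho => ?_) (fun o o' _ _ h => ?_) ?_).symm
  · exact ⟨o.out.out, QuotientGroup.out_eq' _, by simpa using ho⟩
  · exact Quotient.out_injective h
  · rintro _ ⟨g, rfl, hg⟩
    have h1 : x • (g : G ⧸ H) = g := by simpa using (fix g 1).1 (by simpa using hKH hg)
    have h3 : (Quotient.mk (MulAction.orbitRel (zpowers x) (G ⧸ H)) (g : G ⧸ H)).out = g := by
      obtain ⟨⟨y, hy⟩, e⟩ := Quotient.mk_out (s := MulAction.orbitRel (zpowers x) (G ⧸ H))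
        (g : G ⧸ H)
      rw [← e]
      exact (zpowers_le.2 (MulAction.mem_stabilizer_iff.2 h1)) hy
    refine ⟨_, ?_, h3⟩
    simp only [Finset.coe_filter, Finset.mem_univ, true_and, Set.mem_ofPred_eq, P]
    rw [h3]
    exact well _ _ (QuotientGroup.out_eq' _).symm hg

/-- Thompson's transfer lemma, carrying a `2`-subgroup of the centraliser along. -/
theorem strong_transfer (hG : ∀ M : Subgroup G, M.index ≠ 2) {H K : Subgroup G} (hH : Odd H.index)
    (hKH : K ≤ H) (hi : K.relIndex H = 2) {x : G} {n : ℕ} (hx : x ^ 2 ^ n = 1)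
    (h2 : ∀ (g : G) (k : ℕ), g⁻¹ * x ^ (2 * k) * g ∈ H → g⁻¹ * x ^ (2 * k) * g ∈ K)
    {R : Subgroup G} (hR : IsPGroup 2 R) (hc : ∀ r ∈ R, x * r = r * x) :
    ∃ g : G, g⁻¹ * x * g ∈ K ∧ ∀ r ∈ R, g⁻¹ * r * g ∈ H := by
  have h1 := odd_ncard_into hG hH hKH hi hx h2
  have h3 := FGS.ncard_modEq_of_invariant hR
    {q : G ⧸ H | ∃ g : G, (g : G ⧸ H) = q ∧ g⁻¹ * x * g ∈ K} (by
      rintro r hr _ ⟨g, rfl, hg⟩
      refine ⟨r * g, rfl, ?_⟩
      rwa [mul_inv_rev, mul_assoc, ← mul_assoc x, hc r hr, mul_assoc g⁻¹, mul_assoc r,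
        inv_mul_cancel_left, ← mul_assoc])
  obtain ⟨_, ⟨g, rfl, hg⟩, h⟩ := Set.nonempty_of_ncard_ne_zero fun h =>
    Nat.not_even_iff_odd.2 h1 (even_iff_two_dvd.2 (Nat.modEq_zero_iff_dvd.1 (h3.trans (by rw [h]))))
  refine ⟨g, hg, fun r hr => ?_⟩
  have := h r hr
  rwa [MulAction.Quotient.smul_mk, smul_eq_mul, eq_comm, QuotientGroup.eq, ← mul_assoc] at this

end Cfsg.Agent.Inv
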