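import Mathlib
import Cfsg.Agent.Inv.ElemC
import Cfsg.Agent.Inv.FourSylow
import Cfsg.Agent.Perm.Small2
import Cfsg.Agent.Block.Height
import Cfsg.Agent.Block.Omega
import Cfsg.Agent.Char.Kernel
import Cfsg.Agent.Char.Expand
import Cfsg.Agent.Classical.SmallRecog
import Cfsg.Agent.S0948

/-! Involutions whose centralizer has a normal four-group as Sylow 2-subgroup. -/

namespace Cfsg.Agent.Inv

open Subgroup Cfsg.Agent.Char Cfsg.Agent.Block

variable {G : Type*} [Group G]

theorem conj_mul_self {g a : G} (h : a * a = 1) : g * a * g⁻¹ * (g * a * g⁻¹) = 1 := by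
  calc g * a * g⁻¹ * (g * a * g⁻¹) = g * (a * a) * g⁻¹ := by group
    _ = 1 := by rw [h]; group

/-- If the four-group `V` is Sylow in `C(x)`, contains all involutions of `C(x)` and is not Sylow in `G`, then there
is an involution `z ≠ x` in `V` commuting with all its conjugates. -/
theorem exists_commute_conj [Finite G] {x : G} (hx : orderOf x = 2) {V : Subgroup G} (hV : IsKleinFour V)
    (hxV : x ∈ V) (hA : ∀ P : Subgroup G, IsPGroup 2 P → P ≤ centralizer ({x} : Set G) → P ≤ V)
    (S : Sylow 2 G) (hVS : V < S) :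
    ∃ z ∈ V, z ≠ 1 ∧ z ≠ x ∧ ∀ g : G, Commute (g * z * g⁻¹) z := by
  haveI : Fact (Nat.Prime 2) := ⟨Nat.prime_two⟩
  have hx1 : x ≠ 1 := by rintro rfl; simp at hx
  have hA' : ∀ v : G, v * v = 1 → Commute v x → v ∈ V := fun v hv hc =>
    hA _ (isPGroup_zpowers_of_mul_self hv) (zpowers_le.mpr (mem_centralizer_single.mpr hc)) (mem_zpowers v)
  obtain ⟨z, hzS, hzc, hz1, hz2⟩ := exists_central_invol S.isPGroup' (ne_bot_of_gt hVS)
  have hzV : z ∈ V := hA' z hz2 (Commute.symm (hzc x (hVS.le hxV)))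
  have hnS : ¬ (S : Subgroup G) ≤ centralizer ({x} : Set G) := fun h => hVS.not_ge (hA _ S.isPGroup' h)
  have hzx : z ≠ x := by
    rintro rfl
    exact hnS (fun s hs => mem_centralizer_single.mpr (hzc s hs))
  obtain ⟨s, hs, hsV⟩ := SetLike.exists_of_lt (Perm.lt_normalizer_inf S.isPGroup' hVS)
  have hsx : s * x * s⁻¹ ≠ x := fun e => hsV (hA ((S : Subgroup G) ⊓ centralizer ({x} : Set G))
    S.isPGroup'.to_inf_left inf_le_right ⟨hs.1, mem_centralizer_single.mpr (commute_iff_conj.mpr e)⟩)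
  have hsz : s * z * s⁻¹ = z := commute_iff_conj.mp (hzc s hs.1)
  have hsx' : s * x * s⁻¹ = z * x := by
    rcases four_cases hV hzV hxV hz1 hx1 hzx ((mem_normalizer_iff.mp hs.2 x).mp hxV) with h | h | h | h
    · exact absurd h (conj_ne_one' hx1)
    · exact absurd (conj_inj' (h.trans hsz.symm)).symm hzx
    · exact absurd h hsx
    · exact h
  have hnc : ∀ g : G, g * z * g⁻¹ ≠ x := by
    intro g e
    have h1 := hA ((S : Subgroup G).map (MulAut.conj g).toMonoidHom) (S.isPGroup'.map _) (by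
      rintro _ ⟨t, ht, rfl⟩
      rw [mem_centralizer_single, ← e]
      exact (Commute.map (hzc t ht) (MulAut.conj g)))
    have h2 := card_le_of_le h1
    rw [card_map_of_injective (MulAut.conj g).injective] at h2
    exact absurd (Core.card_lt_of_lt hVS) (not_lt.mpr h2)
  refine ⟨z, hzV, hz1, hzx, fun g => ?_⟩
  rcases isConj_or_exists_central (conj_mul_self (g := g) hz2) (mul_self_of_two hx) with ⟨d, -, hd⟩ | ⟨w, -, hw, h1, h2⟩
  · exact absurd (by rw [← hd]; group) (hnc (d * g))
  · have hw1 : w ≠ 1 := by rintro rfl; simp at hw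
    rcases four_cases hV hzV hxV hz1 hx1 hzx (hA' w (mul_self_of_two hw) h2) with h | h | h | h
    · exact absurd h hw1
    · rw [h] at h1; exact h1.symm
    · rw [h] at h1
      exact four_commute hV (hA' _ (conj_mul_self hz2) h1.symm) hzV
    · have h3 : s⁻¹ * (g * z * g⁻¹) * s⁻¹⁻¹ ∈ V := hA' _ (conj_mul_self (conj_mul_self hz2)) (by
        have := Commute.map h1.symm (MulAut.conj s⁻¹)
        rw [h, ← hsx'] at this
        simpa [mul_assoc] using this)
      exact four_commute hV ((mem_normalizer_iff.mp (inv_mem hs.2) _).mpr h3) hzV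

theorem normalClosure_sq {z : G} (hz : z * z = 1) (h : ∀ g : G, Commute (g * z * g⁻¹) z) :
    ∀ a ∈ normalClosure ({z} : Set G), a * a = 1 := by
  refine sq_of_closure (fun a ha b hb => ?_) (fun a ha => ?_)
  · obtain ⟨_, rfl, ha'⟩ := Group.mem_conjugatesOfSet_iff.mp ha
    obtain ⟨_, rfl, hb'⟩ := Group.mem_conjugatesOfSet_iff.mp hb
    obtain ⟨g, rfl⟩ := isConj_iff.mp ha'
    obtain ⟨k, rfl⟩ := isConj_iff.mp hb'
    have := Commute.map (h (k⁻¹ * g)) (MulAut.conj k)
    simpa [mul_assoc] using this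
  · obtain ⟨_, rfl, ha'⟩ := Group.mem_conjugatesOfSet_iff.mp ha
    obtain ⟨g, rfl⟩ := isConj_iff.mp ha'
    exact conj_mul_self hz

theorem klein_int {a b N : ℤ} (ha : (4 : ℤ) ∣ a - 1) (hb : (4 : ℤ) ∣ b - 1) (ha1 : 1 < a) (hb1 : b ≠ 1)
    (hc : 0 < 1 + a + b) (h : N * ((a + 1) * (b + 1) * (a + b)) = 8 * (a * b * (1 + a + b))) : N < 18 := by
  have ha5 : 5 ≤ a := by omega
  have hab : 2 ≤ a + b := by omega
  by_contra hN
  push Not at hN
  rcases (by omega : 5 ≤ b ∨ b ≤ -3) with hb5 | hb3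
  · have h1 : 0 < (a + 1) * (b + 1) * (a + b) := by positivity
    have h2 : a * b * (1 + a + b) ≤ 2 * ((a + 1) * (b + 1) * (a + b)) := by
      have : a * b ≤ (a + 1) * (b + 1) := by nlinarith
      have h3 : 1 + a + b ≤ 2 * (a + b) := by omega
      calc a * b * (1 + a + b) ≤ (a + 1) * (b + 1) * (2 * (a + b)) :=
            mul_le_mul this h3 (by omega) (by positivity)
        _ = _ := by ring
    nlinarith
  · obtain ⟨c, rfl⟩ : ∃ c, b = -c := ⟨-b, by ring⟩
    have hc3 : 3 ≤ c := by omega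
    have e : N * ((a + 1) * (c - 1) * (a - c)) = 8 * (a * c * (1 + a - c)) := by linear_combination -h
    have h1 : 0 < (a + 1) * (c - 1) * (a - c) := by
      have : 0 < c - 1 := by omega
      have : 0 < a - c := by omega
      positivity
    have h2 : 4 * (a * c * (1 + a - c)) < 9 * ((a + 1) * (c - 1) * (a - c)) := by
      have i1 : 2 * c ≤ 3 * (c - 1) := by omega
      have i2 : 2 * (1 + a - c) ≤ 3 * (a - c) := by omega
      have i3 : (2 * c) * (2 * (1 + a - c)) ≤ (3 * (c - 1)) * (3 * (a - c)) :=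
        mul_le_mul i1 i2 (by omega) (by omega)
      have i4 : 0 < (3 * (c - 1)) * (3 * (a - c)) := mul_pos (by omega) (by omega)
      nlinarith
    nlinarith

theorem index_lt_of_klein [Finite G] [IsSimpleGroup G] (P : Sylow 2 G) (hP : IsKleinFour (P : Subgroup G))
    (hone : ∀ s t : G, orderOf s = 2 → orderOf t = 2 → IsConj s t) {t : G} (ht : t ∈ (P : Subgroup G)) (ht1 : t ≠ 1)
    (hA : ∀ v : G, v * v = 1 → Commute v t → v ∈ (P : Subgroup G)) : (centralizer ({t} : Set G)).index < 18 := by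
  classical
  haveI := Fintype.ofFinite G
  have ht2 := four_two hP ht ht1
  have htt := mul_self_of_two ht2
  obtain ⟨M, hM⟩ := exists_isPModular Nat.prime_two
  obtain ⟨ζ₂, ζ₃, ζ₄, ε, hε, n2, n3, -, -, -, -, hv, d2, d3, -, hreg⟩ := S0948.result M hM P hP hone
  have cε : (ε : ℂ) ^ 2 = 1 := by rcases hε with rfl | rfl <;> simp
  obtain ⟨b, hb, hb1, hbt⟩ := four_exists_ne hP t
  set θ : G → ℂ := fun y => 1 + (ζ₂ : G → ℂ) y + (ε : ℂ) * (ζ₃ : G → ℂ) y - (ζ₄ : G → ℂ) y with hθ
  have hθ2 : ∀ y, orderOf y = 2 → θ y = 4 := fun y hy => by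
    simp only [hθ, (hv y hy).1, (hv y hy).2.1, (hv y hy).2.2]; linear_combination cε
  have hval : ∀ x : G, θ (x * t * x⁻¹ * t) = (if x * t * x⁻¹ = b then 4 else 0) + (if x * t * x⁻¹ = t * b then 4 else 0) := by
    intro x
    have hbtb : b ≠ t * b := fun e => ht1 (by simpa using e.symm)
    by_cases h1 : x * t * x⁻¹ = b
    · rw [if_pos h1, if_neg (h1 ▸ hbtb), add_zero, h1]
      exact hθ2 _ (four_two hP (mul_mem hb ht) (fun e => hbt (by
        rw [eq_inv_of_mul_eq_one_left e, inv_eq_of_two ht2])))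
    by_cases h2 : x * t * x⁻¹ = t * b
    · rw [if_neg h1, if_pos h2, zero_add, h2]
      refine hθ2 _ (four_two hP (mul_mem (mul_mem ht hb) ht) (fun e => hb1 ?_))
      calc b = t * (t * b * t) * t := by rw [show t * (t * b * t) * t = (t * t) * b * (t * t) by group, htt]; group
        _ = 1 := by rw [e, mul_one, htt]
    rw [if_neg h1, if_neg h2, add_zero]
    refine hreg _ (Nat.not_even_iff_odd.mp fun he => ?_)
    obtain ⟨w2, w3, w4⟩ := half_power (conj_mul_self (g := x) htt) htt he
    obtain ⟨g, hg⟩ := isConj_iff.mp (hone _ _ w2 ht2)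
    have c1 := Commute.map w3 (MulAut.conj g)
    have c2 := Commute.map w4 (MulAut.conj g)
    simp only [MulAut.conj_apply, hg] at c1 c2
    have c3 := four_commute hP (hA _ (conj_mul_self (conj_mul_self htt)) c1.symm) (hA _ (conj_mul_self htt) c2.symm)
    have c4 : Commute (x * t * x⁻¹) t := by
      have := Commute.map c3 (MulAut.conj g⁻¹)
      simpa [mul_assoc] using this
    rcases four_cases hP ht hb ht1 hb1 hbt.symm (hA _ (conj_mul_self htt) c4) with h | h | h | h
    · exact conj_ne_one' ht1 h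
    · rw [h, htt] at he; simp at he
    · exact h1 h
    · exact h2 h
  have hcount : ∀ c : G, orderOf c = 2 → ∑ x : G, (if x * t * x⁻¹ = c then (4 : ℂ) else 0) =
      4 * Nat.card (centralizer ({t} : Set G)) := by
    intro c hc
    obtain ⟨g, hg⟩ := isConj_iff.mp (hone _ _ ht2 hc)
    rw [← Finset.sum_filter, Finset.sum_const, nsmul_eq_mul, mul_comm]
    congr 2
    rw [← Fintype.card_subtype, ← Nat.card_eq_fintype_card]
    refine Nat.card_congr ⟨fun x => ⟨g⁻¹ * x.1, mem_centralizer_single.mpr (commute_iff_conj.mpr ?_)⟩,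
      fun y => ⟨g * y.1, ?_⟩, fun x => by simp, fun y => by simp⟩
    · calc g⁻¹ * x.1 * t * (g⁻¹ * x.1)⁻¹ = g⁻¹ * (x.1 * t * x.1⁻¹) * g := by group
        _ = t := by rw [x.2, ← hg]; group
    · calc g * y.1 * t * (g * y.1)⁻¹ = g * (y.1 * t * y.1⁻¹) * g⁻¹ := by group
        _ = c := by rw [commute_iff_conj.mp (mem_centralizer_single.mp y.2), hg]
  have hsum := Finset.sum_congr (s₁ := Finset.univ) rfl fun x _ => hval x
  rw [Finset.sum_add_distrib, hcount b (four_two hP hb hb1), hcount _ (four_two hP (mul_mem ht hb) (fun e => hbt (by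
    rw [eq_inv_of_mul_eq_one_right e, inv_eq_of_two ht2])))] at hsum
  simp only [hθ, Finset.sum_sub_distrib, Finset.sum_add_distrib, ← Finset.mul_sum, isIrr_sum_conj_mul ζ₂.2,
    isIrr_sum_conj_mul ζ₃.2, isIrr_sum_conj_mul ζ₄.2, Finset.sum_const, Finset.card_univ, nsmul_eq_mul,
    mul_one, ← Nat.card_eq_fintype_card, (hv t ht2).1, (hv t ht2).2.1, (hv t ht2).2.2] at hsum
  have h1 := hreg 1 (by simp)
  rw [← irr_degree_cast, ← irr_degree_cast, ← irr_degree_cast] at h1 hsum
  have m2 : (charDegree (ζ₂ : G → ℂ) : ℂ) ≠ 0 := by exact_mod_cast irr_degree_ne_zero ζ₂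
  have m3 : (charDegree (ζ₃ : G → ℂ) : ℂ) ≠ 0 := by exact_mod_cast irr_degree_ne_zero ζ₃
  have m4 : (charDegree (ζ₄ : G → ℂ) : ℂ) ≠ 0 := by exact_mod_cast irr_degree_ne_zero ζ₄
  have nC : (Nat.card (centralizer ({t} : Set G)) : ℂ) ≠ 0 := by exact_mod_cast Nat.card_pos.ne'
  have hker : ∀ χ : IrrCharacter G, (χ : G → ℂ) ≠ (fun _ => 1) → (χ : G → ℂ) t ≠ (χ : G → ℂ) 1 := by
    intro χ hχ e
    rcases (charKer_normal (irr_classFun χ)).eq_bot_or_eq_top with h | h
    · have := (mem_charKer_iff (isIrr_isChar χ.2)).mpr e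
      rw [h] at this; exact ht1 this
    · exact hχ (isIrr_eq_one_of_charKer_eq_top χ.2 h)
  have k2 := hker ζ₂ n2
  have k3 := hker ζ₃ n3
  rw [← irr_degree_cast, (hv t ht2).1] at k2
  rw [← irr_degree_cast, (hv t ht2).2.1] at k3
  have p2 := Nat.pos_of_ne_zero (irr_degree_ne_zero ζ₂)
  have p4 := Nat.pos_of_ne_zero (irr_degree_ne_zero ζ₄)
  have h1' : 1 + (charDegree (ζ₂ : G → ℂ) : ℤ) + ε * charDegree (ζ₃ : G → ℂ) = charDegree (ζ₄ : G → ℂ) := by
    exact_mod_cast sub_eq_zero.mp h1
  have ε2 : ε * ε = 1 := by rcases hε with rfl | rfl <;> simp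
  have key := klein_int (a := charDegree (ζ₂ : G → ℂ)) (b := ε * charDegree (ζ₃ : G → ℂ))
    (N := (centralizer ({t} : Set G)).index) d2
    (by have := d3.mul_left ε; rwa [mul_sub, ε2] at this)
    (by
      have : charDegree (ζ₂ : G → ℂ) ≠ 1 := fun e => k2 (by rw [e]; simp)
      omega)
    (fun e => k3 (by
      have : (charDegree (ζ₃ : G → ℂ) : ℤ) = ε := by
        calc (charDegree (ζ₃ : G → ℂ) : ℤ) = ε * (ε * charDegree (ζ₃ : G → ℂ)) := by rw [← mul_assoc, ε2, one_mul]
          _ = ε := by rw [e, mul_one]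
      exact_mod_cast this.symm))
    (by omega)
    (by
      have : ((centralizer ({t} : Set G)).index : ℂ) * (((charDegree (ζ₂ : G → ℂ) : ℂ) + 1) *
          (ε * charDegree (ζ₃ : G → ℂ) + 1) * (charDegree (ζ₂ : G → ℂ) + ε * charDegree (ζ₃ : G → ℂ))) =
          8 * (charDegree (ζ₂ : G → ℂ) * (ε * charDegree (ζ₃ : G → ℂ)) *
            (1 + charDegree (ζ₂ : G → ℂ) + ε * charDegree (ζ₃ : G → ℂ))) := by
        rw [← card_mul_index (centralizer ({t} : Set G))] at hsum
        push_cast at hsum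
        have h4 := sub_eq_zero.mp h1
        field_simp at hsum
        generalize (charDegree (ζ₂ : G → ℂ) : ℂ) = u at *
        generalize (charDegree (ζ₃ : G → ℂ) : ℂ) = v at *
        generalize (charDegree (ζ₄ : G → ℂ) : ℂ) = f at *
        generalize ((centralizer ({t} : Set G)).index : ℂ) = n at *
        generalize (ε : ℂ) = r at *
        subst h4
        linear_combination r * hsum - n * u * (r ^ 2 + 1) * (1 + u + r * v) * cε
      exact_mod_cast this)
  exact_mod_cast key

theorem equiv_A5_of_klein [Finite G] [IsSimpleGroup G] (P : Sylow 2 G) (hP : IsKleinFour (P : Subgroup G))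
    {t : G} (ht : t ∈ (P : Subgroup G)) (ht1 : t ≠ 1)
    (hA : ∀ v : G, v * v = 1 → Commute v t → v ∈ (P : Subgroup G)) : Nonempty (G ≃* alternatingGroup (Fin 5)) := by
  haveI : Fact (Nat.Prime 2) := ⟨Nat.prime_two⟩
  have h4 : 4 ∣ Nat.card G := four_card hP ▸ card_subgroup_dvd_card _
  have hnc : ¬ IsMulCommutative G := Perm.not_comm_of_not_prime (fun h => by
    rcases (Nat.dvd_prime h).mp h4 with h1 | h1
    · omega
    · rw [← h1] at h; norm_num at h)
  have h2 : 2 ∣ Nat.card G := dvd_trans (by norm_num) h4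
  rcases four_sylow_cases P hP with h | ⟨⟨g, hg, hodd, hgc⟩, h1⟩
  · exact absurd h.1 (Perm.normalizer_not_le_centralizer hnc P h2)
  have hlt := index_lt_of_klein P hP (fun s t hs ht => isConj_of_card_classes_eq_one h1 hs ht) ht ht1 hA
  set H := normalizer ((P : Subgroup G) : Set G) with hH
  have hPC : (P : Subgroup G) ≤ centralizer ((P : Subgroup G) : Set G) := fun a ha b hb => four_commute hP hb ha
  have hCH : centralizer ({t} : Set G) ≤ H := fun c hc => mem_normalizer_fintype fun v hv =>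
    hA _ (conj_mul_self (four_mul_self hP hv)) (by
      have := Commute.map (four_commute hP hv ht) (MulAut.conj c)
      rwa [MulAut.conj_apply, MulAut.conj_apply, commute_iff_conj.mp (mem_centralizer_single.mp hc)] at this)
  have hPt : (P : Subgroup G) ≤ centralizer ({t} : Set G) := fun a ha => mem_centralizer_single.mpr (four_commute hP ha ht)
  have hodd' : ¬ 2 ∣ (centralizer ({t} : Set G)).relIndex H := fun h => P.not_dvd_index
    ((h.trans (relIndex_dvd_index_of_le hCH)).trans (index_dvd_of_le hPt))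
  have hne : (centralizer ({t} : Set G)).relIndex H ≠ 1 := fun h => hgc (fun v hv => by
    have := four_fix_of_odd hP hg hodd ht ht1
      (commute_iff_conj.mp (mem_centralizer_single.mp (relIndex_eq_one.mp h hg))) hv
    exact (mul_inv_eq_iff_eq_mul.mp this).symm)
  have hmul := relIndex_mul_index hCH
  have hi : H.index ≤ 5 := by
    have : 3 ≤ (centralizer ({t} : Set G)).relIndex H := by
      have : (centralizer ({t} : Set G)).relIndex H ≠ 0 := index_ne_zero_of_finite
      omega
    nlinarith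
  have hHt : H ≠ ⊤ := Perm.normalizer_ne_top (Perm.sylow_ne_bot P h2) (Perm.sylow_ne_top hnc P)
  have hd := Perm.two_mul_card_dvd_factorial hnc H hHt
  have h3 : 3 ∣ Nat.card H := by
    have a1 := four_relIndex_dvd hP (le_refl H)
    have a2 : ¬ 2 ∣ (centralizer ((P : Subgroup G) : Set G)).relIndex H := fun h => P.not_dvd_index
      ((h.trans (relIndex_dvd_index_of_le (centralizer_le_normalizer _))).trans (index_dvd_of_le hPC))
    have a3 : (centralizer ((P : Subgroup G) : Set G)).relIndex H ≠ 1 := fun h => hgc (relIndex_eq_one.mp h hg)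
    have a4 := Nat.le_of_dvd (by norm_num) a1
    have a5 : (centralizer ((P : Subgroup G) : Set G)).relIndex H = 3 := by
      generalize (centralizer ((P : Subgroup G) : Set G)).relIndex H = k at *
      interval_cases k <;> omega
    exact a5 ▸ Core.relIndex_dvd_card' _ _
  have h4' : 4 ∣ Nat.card H := four_card hP ▸ card_dvd_of_le le_normalizer
  obtain ⟨m, hm⟩ : 12 ∣ Nat.card H := by omega
  have hG := H.card_mul_index
  have hi1 : H.index ≠ 1 := fun h => hHt (index_eq_one.mp h)
  have hi0 : H.index ≠ 0 := index_ne_zero_of_finite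
  have hm0 : m ≠ 0 := by
    rintro rfl
    have : 0 < Nat.card H := Nat.card_pos
    omega
  refine Classical.SmallRecog.equiv_A5_of_simple ?_
  rw [← hG, hm] at hd ⊢
  have := Nat.le_of_dvd (Nat.factorial_pos _) hd
  generalize H.index = k at *
  interval_cases k <;> simp [Nat.factorial] at this ⊢ <;> omega

end Cfsg.Agent.Inv
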