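import Mathlib
import Cfsg.Prelude.Def_Balance
import Cfsg.Agent.BG.Rank2
import Cfsg.Agent.BG.AmbCent
import Cfsg.Agent.PGrp.Frattini
import Cfsg.Agent.Inv.NFour

/-! Commuting graphs of elementary abelian subgroups. -/

namespace Cfsg.Agent.Inv

open Subgroup BG BG.Rank Relation

variable {G : Type*} [Group G] {p k : ℕ}

theorem card_le_ker_pow {A : Type*} [Group A] [Finite A] (f : A →* A) (n : ℕ) :
    ∀ B : Subgroup A, (∀ a ∈ B, f^[n] a = 1) → Nat.card B ≤ Nat.card f.ker ^ n := by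
  induction n with
  | zero => intro B h; rw [(eq_bot_iff_forall B).2 h]; simp
  | succ n ih =>
    intro B h
    have h1 := ih (B.map f) (by rintro _ ⟨a, ha, rfl⟩; exact h a ha)
    have h2 : Nat.card B = Nat.card (B.map f) * Nat.card (f.domRestrict B).ker := by
      rw [← MonoidHom.domRestrict_range, ← index_ker, index_mul_card]
    have h3 : Nat.card (f.domRestrict B).ker ≤ Nat.card f.ker := by
      rw [MonoidHom.ker_domRestrict, ← inf_subgroupOf_right,
        Nat.card_congr (subgroupOfEquivOfLe inf_le_right).toEquiv]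
      exact card_le_of_le inf_le_left
    rw [h2, pow_succ]
    exact Nat.mul_le_mul h1 h3

theorem iter_sub [hp : Fact p.Prime] {M : Type*} [AddCommGroup M] [Module (ZMod p) M]
    (σ : M →+ M) (hσ : ∀ a, σ^[p] a = a) (a : M) : (σ - AddMonoidHom.id M)^[p] a = 0 := by
  rcases subsingleton_or_nontrivial M with _ | _
  · exact Subsingleton.elim _ _
  haveI : CharP (Module.End (ZMod p) M) p :=
    charP_of_injective_algebraMap (algebraMap (ZMod p) (Module.End (ZMod p) M)).injective p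
  let s : Module.End (ZMod p) M := σ.toZModLinearMap p
  have h1 : (s - 1) ^ p = 0 := by
    rw [sub_pow_char_of_commute _ (Commute.one_right s), one_pow, sub_eq_zero]
    ext x
    rw [Module.End.pow_apply]
    exact hσ _
  have h2 := LinearMap.congr_fun h1 a
  rw [Module.End.pow_apply] at h2
  exact h2

theorem card_le_fix_pow [hp : Fact p.Prime] {A : Type*} [CommGroup A] [Finite A]
    (h : ∀ a : A, a ^ p = 1) (σ : A →* A) (hσ : ∀ a, σ^[p] a = a) :
    Nat.card A ≤ Nat.card (σ / MonoidHom.id A).ker ^ p := by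
  rw [← card_top]
  exact card_le_ker_pow _ _ _ fun a _ => @iter_sub p _ (Additive A) _
    (AddCommGroup.zmodModule fun x => h x.toMul) (MonoidHom.toAdditive σ) hσ (Additive.ofMul a)

theorem card_le_cent_pow [Finite G] [Fact p.Prime] {E : Subgroup G} (hE : IsElementaryAbelian p E)
    {b : G} (hb : b ^ p = 1) (hn : b ∈ 𝐍(E)) :
    Nat.card E ≤ Nat.card (E ⊓ 𝐂(zpowers b) : Subgroup G) ^ p := by
  letI : CommGroup E := { (inferInstance : Group E) with mul_comm := hE.1.is_comm.comm }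
  have := card_le_fix_pow (p := p) (A := E) (fun a => Subtype.ext (hE.2 a a.2))
    (E.normalizerMonoidHom ⟨b, hn⟩).toMonoidHom (fun a => by
      have : E.normalizerMonoidHom ⟨b, hn⟩ ^ p = 1 := by
        rw [← map_pow, show (⟨b, hn⟩ : 𝐍(E)) ^ p = 1 from Subtype.ext hb, map_one]
      have h2 := congrArg (fun σ : MulAut E => (MulAut.toPerm E σ) a) this
      simp only [map_pow, Equiv.Perm.coe_pow] at h2
      exact h2)
  refine this.trans (Nat.pow_le_pow_left ?_ _)
  rw [← card_map_of_injective E.subtype_injective]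
  refine card_le_of_le ?_
  rintro _ ⟨x, hx, rfl⟩
  refine ⟨x.2, ?_⟩
  have h1 : b * x * b⁻¹ = x := congrArg Subtype.val (div_eq_one.1 hx)
  rw [Rank.centralizer_zpowers]
  exact mem_centralizer_singleton_iff.2 (mul_inv_eq_iff_eq_mul.1 h1).symm

/-- Elementary abelian of rank at least `k`. -/
def EA (p k : ℕ) (A : Subgroup G) : Prop := IsElementaryAbelian p A ∧ p ^ k ≤ Nat.card A

/-- Connected in the commuting graph. -/
def Cn (p k : ℕ) : Subgroup G → Subgroup G → Prop :=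
  ReflTransGen fun A B => IsElementaryAbelian p A ∧ p ^ k ≤ Nat.card A ∧ IsElementaryAbelian p B ∧
    p ^ k ≤ Nat.card B ∧ ∀ a ∈ A, ∀ b ∈ B, a * b = b * a

variable {A B C E U X : Subgroup G}

theorem Cn.of_le (hA : EA p k A) (hB : EA p k B) (h : B ≤ 𝐂(A)) : Cn p k A B :=
  .single ⟨hA.1, hA.2, hB.1, hB.2, fun a ha _ hb => h hb a ha⟩

theorem Cn.symm (h : Cn p k A B) : Cn p k B A := by
  induction h with
  | refl => exact .refl
  | tail _ h ih => exact .head ⟨h.2.2.1, h.2.2.2.1, h.1, h.2.1, fun a ha b hb =>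
      (h.2.2.2.2 b hb a ha).symm⟩ ih

theorem Cn.trans (h : Cn p k A B) (h' : Cn p k B C) : Cn p k A C := ReflTransGen.trans h h'

theorem EA.mono [Finite G] (hA : EA p k A) (hB : IsElementaryAbelian p B) (h : A ≤ B) : EA p k B :=
  ⟨hB, hA.2.trans (card_le_of_le h)⟩

theorem Cn.of_sub (hA : EA p k A) (hB : EA p k B) (hC : IsElementaryAbelian p C) (h1 : A ≤ C)
    (h2 : B ≤ C) : Cn p k A B :=
  .of_le hA hB (h2.trans ((elem_le_centralizer hC).trans (centralizer_le h1)))

theorem Cn.map {H : Type*} [Group H] {f : G →* H} (hf : Function.Injective f) (h : Cn p k A B) :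
    Cn p k (A.map f) (B.map f) :=
  ReflTransGen.lift (Subgroup.map f) (fun A B h => And.intro (elem_map h.1 f) ⟨
    by rw [card_map_of_injective hf]; exact h.2.1, elem_map h.2.2.1 f,
    by rw [card_map_of_injective hf]; exact h.2.2.2.1, by
      rintro _ ⟨a, ha, rfl⟩ _ ⟨b, hb, rfl⟩
      rw [← map_mul, h.2.2.2.2 a ha b hb, map_mul]⟩) _ _ h

theorem Cn.exact [Finite G] [hp : Fact p.Prime] (h : Cn p k A B) (hA : IsElementaryAbelian p A)
    {A' : Subgroup G} (h1 : A' ≤ A) (h2 : Nat.card A' = p ^ k) :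
    ∀ B' ≤ B, Nat.card B' = p ^ k → ReflTransGen (fun C D : Subgroup G =>
      (IsElementaryAbelian p C ∧ Nat.card C = p ^ k) ∧ (IsElementaryAbelian p D ∧ Nat.card D = p ^ k) ∧
        D ≤ 𝐂(C)) A' B' := by
  induction h with
  | refl => exact fun B' h3 h4 => .single ⟨⟨elem_mono hA h1, h2⟩, ⟨elem_mono hA h3, h4⟩,
      h3.trans ((elem_le_centralizer hA).trans (centralizer_le h1))⟩
  | @tail B C _ h ih =>
    intro C' h3 h4
    obtain ⟨n, hn⟩ := elem_card h.1
    obtain ⟨B', h5, h6⟩ := exists_le_card_pow (p := p) (n := k) (H := B) (by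
      rw [hn]
      exact pow_dvd_pow p ((Nat.pow_le_pow_iff_right hp.out.one_lt).1 (hn ▸ h.2.1)))
    exact (ih B' h5 h6).tail ⟨⟨elem_mono h.1 h5, h6⟩, ⟨elem_mono h.2.2.1 h3, h4⟩,
      fun c hc b hb => h.2.2.2.2 b (h5 hb) c (h3 hc)⟩

theorem elem_of_four' (hV : IsKleinFour A) : IsElementaryAbelian 2 A :=
  elem_of (Amb.le_cent_of_forall fun _ hx _ hy => (four_commute hV hx hy).eq)
    fun a ha => by rw [pow_two]; exact four_mul_self hV ha

theorem four_iff : IsKleinFour A ↔ IsElementaryAbelian 2 A ∧ Nat.card A = 2 ^ 2 :=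
  ⟨fun h => ⟨elem_of_four' h, h.card_four⟩, fun h => isKleinFour_of_card_of_mul_self h.2
    fun x hx => by rw [← pow_two]; exact h.1.2 x hx⟩

theorem fourConnected_iff [Finite G] : IsFourConnected G ↔ IsKConnected 2 2 G := by
  haveI : Fact (Nat.Prime 2) := ⟨Nat.prime_two⟩
  constructor
  · intro h
    have key : ∀ A : Subgroup G, EA 2 2 A → ∃ A' : Subgroup G, IsKleinFour A' ∧ Cn 2 2 A A' := fun A hA => by
      obtain ⟨n, hn⟩ := elem_card hA.1
      obtain ⟨A', h5, h6⟩ := exists_le_card_pow (p := 2) (n := 2) (H := A) (by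
        rw [hn]
        exact pow_dvd_pow 2 ((Nat.pow_le_pow_iff_right one_lt_two).1 (hn ▸ hA.2)))
      exact ⟨A', four_iff.2 ⟨elem_mono hA.1 h5, h6⟩,
        .of_sub hA ⟨elem_mono hA.1 h5, h6.ge⟩ hA.1 le_rfl h5⟩
    intro A B h1 h2 h3 h4
    obtain ⟨A', k1, k2⟩ := key A ⟨h1, h2⟩
    obtain ⟨B', k3, k4⟩ := key B ⟨h3, h4⟩
    refine k2.trans (Cn.trans ?_ k4.symm)
    exact ReflTransGen.mono (fun C D h => ⟨(four_iff.1 h.1).1, (four_iff.1 h.1).2.ge,
      (four_iff.1 h.2.1).1, (four_iff.1 h.2.1).2.ge, h.2.2⟩) _ _ (h A' B' k1 k3)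
  · intro h A B hA hB
    obtain ⟨h1, h2⟩ := four_iff.1 hA
    obtain ⟨h3, h4⟩ := four_iff.1 hB
    exact ReflTransGen.mono (fun C D h =>
      ⟨four_iff.2 h.1, four_iff.2 h.2.1, fun a ha b hb => h.2.2 hb a ha⟩) _ _
      (Cn.exact (h A B h1 h2.ge h3 h4.ge) h1 le_rfl h2 B le_rfl h4)

variable [Finite G] [hp : Fact p.Prime]

omit [Finite G] in
theorem EA.of_mul (hA : EA p (k + 1) A) (hB : B ≤ A) (h : Nat.card A ≤ p * Nat.card B) :
    EA p k B := ⟨elem_mono hA.1 hB, by
  have := hA.2.trans h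
  rw [pow_succ'] at this
  exact Nat.le_of_mul_le_mul_left this hp.out.pos⟩

theorem EA.succ (hA : EA p k A) (hB : IsElementaryAbelian p B) (h : A < B) : EA p (k + 1) B := by
  obtain ⟨n, hn⟩ := elem_card hB
  refine ⟨hB, ?_⟩
  have := hA.2.trans_lt (Core.card_lt_of_lt h)
  rw [hn] at this ⊢
  exact Nat.pow_le_pow_right hp.out.pos ((Nat.pow_lt_pow_iff_right hp.out.one_lt).1 this)

theorem EA.inf_cz (hG : IsPGroup p G) [U.Normal] (hU : Nat.card U = p ^ 2) (hA : EA p (k + 1) A) :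
    EA p k (A ⊓ 𝐂(U)) := by
  refine hA.of_mul inf_le_left ?_
  rw [← Core.card_inf_mul_relIndex 𝐂(U) A, mul_comm, inf_comm]
  exact Nat.mul_le_mul_right _ ((PGrp.relIndex_le_index_of_finite _ _).trans
    (PGrp.index_centralizer_le_of_card_eq_sq hG U hU))

theorem not_rank_iff : ¬ PRankLE p k X ↔ ∃ A ≤ X, EA p (k + 1) A :=
  ⟨fun h => by
    obtain ⟨A, h1, h2, h3⟩ := not_pRankLE_iff.1 h
    exact ⟨A, h1, h2, h3.ge⟩, fun ⟨A, h1, h2⟩ h => by
    have := h2.2.trans (card_le_of_pRankLE h h1 h2.1)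
    exact absurd this (Nat.pow_lt_pow_right hp.out.one_lt k.lt_succ_self).not_ge⟩

theorem cn_iff (hG : IsPGroup p G) (hr : ¬ PRankLE p 2 G) [U.Normal] (h : IsElementaryAbelian p U)
    (hU : Nat.card U = p ^ 2) (hX : EA p 2 X) : Cn p 2 X U ↔ ¬ PRankLE p 2 𝐂(X) := by
  constructor
  · intro hc
    induction hc using ReflTransGen.head_induction_on with
    | refl =>
      obtain ⟨A, -, hA⟩ := not_rank_iff.1 (pRankLE_top.not.2 hr)
      have h1 := hA.inf_cz hG hU
      have h2 := elem_sup h1.1 h inf_le_right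
      by_cases h3 : A ⊓ 𝐂(U) ≤ U
      · have h4 : A ⊓ 𝐂(U) = U := Core.eq_of_le_of_card_le h3 (hU ▸ h1.2)
        exact not_rank_iff.2 ⟨A, (elem_le_centralizer hA.1).trans
          (centralizer_le (h4.ge.trans inf_le_left)), hA⟩
      · exact not_rank_iff.2 ⟨_, sup_le inf_le_right (elem_le_centralizer h),
          hX.succ h2 (lt_of_le_of_ne le_sup_right fun e => h3 (le_sup_left.trans e.ge))⟩
    | @head X Y h1 _ ih =>
      have h2 : Y ≤ 𝐂(X) := fun b hb a ha => h1.2.2.2.2 a ha b hb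
      by_cases h3 : Y ≤ X
      · rcases h3.eq_or_lt with rfl | h4
        · exact ih hX
        · exact not_rank_iff.2 ⟨X, elem_le_centralizer hX.1, EA.succ ⟨h1.2.2.1, h1.2.2.2.1⟩ hX.1 h4⟩
      · exact not_rank_iff.2 ⟨_, sup_le h2 (elem_le_centralizer hX.1), hX.succ
          (elem_sup h1.2.2.1 hX.1 h2) (lt_of_le_of_ne le_sup_right fun e => h3 (le_sup_left.trans e.ge))⟩
  · intro hc
    obtain ⟨A, h1, hA⟩ := not_rank_iff.1 hc
    have h2 := hA.inf_cz hG hU
    exact (Cn.of_le hX h2 (inf_le_left.trans h1)).trans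
      (Cn.of_le ⟨h, hU.ge⟩ h2 inf_le_right).symm

theorem connected_of (hG : IsPGroup p G) (hr : ¬ PRankLE p 2 G) [U.Normal]
    (h : IsElementaryAbelian p U) (hU : Nat.card U = p ^ 2)
    (hX : ∀ X : Subgroup G, IsElementaryAbelian p X → Nat.card X = p ^ 2 → ¬ PRankLE p 2 𝐂(X)) :
    IsKConnected p 2 G := by
  have key : ∀ X : Subgroup G, EA p 2 X → Cn p 2 X U := fun X h1 => (cn_iff hG hr h hU h1).2 (by
    rcases h1.2.eq_or_lt with e | e
    · exact hX X h1.1 e.symm
    · exact fun h2 => e.not_ge (card_le_of_pRankLE h2 (elem_le_centralizer h1.1) h1.1))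
  exact fun A B h1 h2 h3 h4 => (key A ⟨h1, h2⟩).trans (key B ⟨h3, h4⟩).symm

/-- A large normal elementary abelian subgroup forces every elementary abelian subgroup of rank two
into one of rank three. -/
theorem not_rank_cent (hG : IsPGroup p G) [E.Normal] (hE : EA p (p + 1) E)
    (hX : IsElementaryAbelian p X) (h2 : Nat.card X = p ^ 2) : ¬ PRankLE p 2 𝐂(X) := by
  intro hr
  have hm : ∀ Y, IsElementaryAbelian p Y → Y ≤ 𝐂(X) → Y ≤ X := fun Y h1 h3 =>
    le_of_isMaxElem (isMaxElem_of_pRankLE' (H := 𝐂(X)) ⟨elem_le_centralizer hX, hX, h2⟩ hr) h3 h3 h1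
  have hE1 : E ≠ ⊥ := fun e => by
    have := hE.2
    rw [e, card_bot] at this
    exact absurd this (Nat.one_lt_pow (Nat.succ_ne_zero _) hp.out.one_lt).not_ge
  obtain ⟨Z, z1, z2, z3⟩ := exists_card_prime_le_center (P := ⊤) (hG.to_subgroup ⊤)
    ⟨le_top, le_normalizer_of_normal⟩ hE1
  have z4 : Z ≤ X := hm Z (elem_of_card_prime z3) (z2.trans (centralizer_le le_top))
  obtain ⟨x, hx, hxZ⟩ := SetLike.exists_of_lt (lt_of_card_sq h2 z3 z4)
  have h3 := sup_eq_of_not_le h2 z3 z4 (zpowers_le.2 hx) (by rwa [zpowers_le])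
  have h4 : E ⊓ 𝐂(zpowers x) ≤ X := hm _ (elem_mono hE.1 inf_le_left) (by
    rw [← h3, Amb.cent_sup]
    exact le_inf (le_top.trans (Amb.le_cent_symm z2)) inf_le_right)
  have h5 := hE.2.trans (card_le_cent_pow hE.1 (hX.2 x hx) (le_normalizer_of_normal (mem_top x)))
  rcases eq_bot_or_card_or_eq h2 h4 with e | e | e
  · rw [e, card_bot, one_pow] at h5
    exact absurd h5 (Nat.one_lt_pow (Nat.succ_ne_zero _) hp.out.one_lt).not_ge
  · rw [e] at h5
    exact absurd h5 (Nat.pow_lt_pow_right hp.out.one_lt p.lt_succ_self).not_ge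
  · have := hE.2.trans (card_le_of_pRankLE hr ((elem_le_centralizer hE.1).trans
      (centralizer_le (e.ge.trans inf_le_left))) hE.1)
    exact absurd this (Nat.pow_lt_pow_right hp.out.one_lt (Nat.lt_succ_of_le hp.out.two_le)).not_ge

theorem connected_of_normal (hG : IsPGroup p G) [E.Normal] (hE : EA p (p + 1) E) :
    IsKConnected p 2 G := by
  have h2 := hp.out.two_le
  obtain ⟨U, _, h1, h3⟩ := PGrp.exists_normal_le_card_eq hG E 2
    ((Nat.pow_le_pow_right hp.out.pos (by omega)).trans hE.2)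
  exact connected_of hG (fun h => absurd (hE.2.trans (pRankLE_iff'.1 h E hE.1))
    (Nat.pow_lt_pow_right hp.out.one_lt (by omega)).not_ge) (elem_mono hE.1 h1) h3
    fun X => not_rank_cent hG hE

end Cfsg.Agent.Inv
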