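import Mathlib
import Cfsg.Agent.Inv.Conn
import Cfsg.Agent.LocalEven.Spe

/-! Connectedness of the commuting graph and the generated cores. -/

namespace Cfsg.Agent.Inv

open Subgroup BG BG.Rank Relation LocalEven

variable {G : Type*} [Group G] {p k : ℕ} {A B : Subgroup G}

theorem Cn.cj (h : Cn p k A B) (g : G) : Cn p k (cj g A) (cj g B) :=
  h.map (f := (MulAut.conj g).toMonoidHom) (MulAut.conj g).injective

theorem EA.cj (h : EA p k A) (g : G) : EA p k (cj g A) :=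
  ⟨elem_map h.1 _, by rw [card_cj]; exact h.2⟩

theorem cn_of_sub {P : Subgroup G} (h : IsKConnected p k P) (hA : EA p k A) (hB : EA p k B)
    (h1 : A ≤ P) (h2 : B ≤ P) : Cn p k A B := by
  have := Cn.map P.subtype_injective (h (A.subgroupOf P) (B.subgroupOf P) (elem_subgroupOf P hA.1)
    (by rw [card_subgroupOf h1]; exact hA.2) (elem_subgroupOf P hB.1)
    (by rw [card_subgroupOf h2]; exact hB.2))
  rwa [map_subgroupOf_eq_of_le h1, map_subgroupOf_eq_of_le h2] at this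

variable [Finite G] [hp : Fact p.Prime]

theorem not_connected_iff (S : Sylow p G) (hr : ¬ PRankLE p k G)
    (hS : IsKConnected p (k + 1) (S : Subgroup G)) :
    ¬ IsKConnected p (k + 1) G ↔ kGeneratedCore p (k + 1) (S : Subgroup G) ≠ ⊤ := by
  have hT := isSylowIn_top S
  obtain ⟨A, hAS, hA⟩ := not_rank_iff.1 ((pRankLE_sylow_iff S).not.2 hr)
  have hle : ∀ Q ≤ (S : Subgroup G), ¬ PRankLE p k Q →
      𝐍(Q) ≤ kGeneratedCore p (k + 1) (S : Subgroup G) := fun Q h1 h2 =>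
    le_iSup (fun Q : {Q : Subgroup G // Q ≤ S ∧ ¬ PRankLE p (k + 1 - 1) Q} => 𝐍(Q.1)) ⟨Q, h1, h2⟩
  refine not_congr ⟨fun h => ?_, fun h => ?_⟩
  · set H := kGeneratedCore p (k + 1) (S : Subgroup G)
    have hSH : (S : Subgroup G) ≤ H := le_normalizer.trans (hle _ le_rfl (not_rank_iff.2 ⟨A, hAS, hA⟩))
    have h1 : ∀ Q ≤ H, IsPGroup p Q → ¬ PRankLE p k Q → 𝐍(Q) ≤ H := fun Q h1 h2 h3 => by
      obtain ⟨x, hx, h4⟩ := (hT.mono hSH le_top).exists_cj_le h2 h1
      have := hle _ h4 ((pRankLE_congr (cjEquiv x Q)).not.1 h3)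
      rwa [← cj_normalizer, cj_le_iff, cj_eq_of_mem (inv_mem hx)] at this
    have h2 : ∀ B, Cn p (k + 1) A B → B ≤ H := fun B hB => by
      induction hB with
      | refl => exact hAS.trans hSH
      | @tail B C _ h ih =>
        exact le_trans (fun c hc => centralizer_le_normalizer _ fun b hb => h.2.2.2.2 b hb c hc)
          (h1 B ih (elem_isPGroup h.1) (not_rank_iff.2 ⟨B, le_rfl, h.1, h.2.1⟩))
    refine eq_top_iff.2 fun g _ => ?_
    have h3 : A ≤ H ⊓ cj g H := le_inf (hAS.trans hSH)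
      (le_cj_iff.2 (h2 _ (h _ _ hA.1 hA.2 (hA.cj g⁻¹).1 (hA.cj g⁻¹).2)))
    obtain ⟨T, h4, h5⟩ := exists_isSylowIn_le (elem_isPGroup hA.1) h3
    have h6 : ¬ PRankLE p k T := not_rank_iff.2 ⟨A, h5, hA⟩
    have h7 : 𝐍(T) ≤ H := h1 T (h4.le.trans inf_le_left) h4.pgrp h6
    have h8 : 𝐍(T) ≤ cj g H := by
      rw [le_cj_iff, cj_normalizer]
      exact h1 _ (le_cj_iff.1 (h4.le.trans inf_le_right)) (isPGroup_cj _ h4.pgrp)
        ((pRankLE_congr (cjEquiv g⁻¹ T)).not.1 h6)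
    have h9 : IsSylowIn p T H := .of_normalizer (h4.mono (le_inf (h4.le.trans inf_le_left) le_normalizer)
      (le_inf inf_le_left (inf_le_right.trans h8)))
    exact mem_of_sylow_le_inf h9 h7 (h4.le.trans inf_le_right)
  · let K : Subgroup G :=
      { carrier := {g | Cn p (k + 1) (cj g A) A}
        one_mem' := by rw [Set.mem_setOf_eq, cj_one]; exact .refl
        mul_mem' := fun {a b} ha hb => by
          rw [Set.mem_setOf_eq, cj_mul]; exact (Cn.cj hb a).trans ha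
        inv_mem' := fun {a} ha => by
          have := (Cn.cj ha a⁻¹).symm
          rwa [cj_inv_cj] at this }
    have hK : ⊤ ≤ K := h ▸ iSup_le fun Q g hg => by
      obtain ⟨B, h1, h2⟩ := not_rank_iff.1 Q.2.2
      exact ((cn_of_sub hS hA h2 hAS (h1.trans Q.2.1)).cj g).trans
        (cn_of_sub hS (h2.cj g) hA ((cj_le_of_mem_normalizer hg h1).trans Q.2.1) hAS)
    have key : ∀ B, EA p (k + 1) B → Cn p (k + 1) B A := fun B hB => by
      obtain ⟨g, -, hg⟩ := hT.exists_cj_le (elem_isPGroup hB.1) le_top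
      have := (cn_of_sub hS (hB.cj g) hA hg hAS).cj g⁻¹
      rw [cj_inv_cj] at this
      exact this.trans (hK (mem_top g⁻¹))
    exact fun B C h1 h2 h3 h4 => (key B ⟨h1, h2⟩).trans (key C ⟨h3, h4⟩).symm

theorem connected_one (hG : IsPGroup p G) : IsKConnected p 1 G := by
  intro A B h1 h2 h3 h4
  have hA : (⊤ : Subgroup G) ≠ ⊥ := fun e => by
    rw [eq_bot_iff.2 (le_top.trans e.le : A ≤ ⊥), card_bot, pow_one] at h2
    exact hp.out.one_lt.not_ge h2
  obtain ⟨Z, -, z2, z3⟩ := exists_card_prime_le_center (hG.to_subgroup ⊤) ⟨le_top, le_normalizer⟩ hA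
  have hZ : EA p 1 Z := ⟨elem_of_card_prime z3, by rw [z3, pow_one]⟩
  exact (Cn.of_le ⟨h1, h2⟩ hZ (z2.trans (centralizer_le le_top))).trans
    (Cn.of_le ⟨h3, h4⟩ hZ (z2.trans (centralizer_le le_top))).symm

end Cfsg.Agent.Inv
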