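import Mathlib
import Cfsg.Agent.FGS.Tri3c
import Cfsg.Agent.Block.Kernel
import Cfsg.Agent.Block.Rank
import Cfsg.Agent.Char.Galois
import Cfsg.Agent.Inv.Dihedral

/-! Character values on a product of two dihedral groups of order six, and the degrees of the
characters not vanishing on the 3-singular elements when the Sylow 3-subgroup has order nine. -/

set_option autoImplicit false

open scoped ComplexConjugate

namespace Cfsg.Agent.D9

open Subgroup Cfsg.Agent.LocalEven Cfsg.Agent.Char Cfsg.Agent.FGS Cfsg.Agent.Inv Cfsg.Agent.Block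

variable {G : Type*} [Group G]

theorem sumD {a t : G} (ha : a ^ 3 = 1) (ht : t * t = 1) (hta : t * a * t⁻¹ = a⁻¹) {δ : ℂˣ}
    (hδ : δ * δ = 1) (F : G → ℂ) (Fa : ∀ g, F (a * g * a⁻¹) = F g)
    (Ft : ∀ g, F (t * g * t⁻¹) = F g) :
    ∑ x : DihedralGroup 3, F (dihedralHom a t 3 ha ht hta x) *
      conj ((dihedralHom (1 : ℂˣ) δ 3 (by simp) hδ (by simp) x : ℂˣ) : ℂ) =
      F 1 + 2 * F a + 3 * δ * F t := by
  have hu : (Finset.univ : Finset (DihedralGroup 3)) =
      {.r ((0 : ℤ) : ZMod 3), .r ((1 : ℤ) : ZMod 3), .r ((-1 : ℤ) : ZMod 3), .sr ((0 : ℤ) : ZMod 3),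
        .sr ((1 : ℤ) : ZMod 3), .sr ((-1 : ℤ) : ZMod 3)} := by decide
  rw [hu, Finset.sum_insert (by decide), Finset.sum_insert (by decide),
    Finset.sum_insert (by decide), Finset.sum_insert (by decide), Finset.sum_insert (by decide),
    Finset.sum_singleton]
  simp only [dihedralHom_r, dihedralHom_sr, one_zpow, zpow_zero, zpow_one, zpow_neg, mul_one,
    Units.val_one, map_one, inv_one]
  have hc : conj (δ : ℂ) = δ := by
    have : (δ : ℂ) * δ = 1 := by rw [← Units.val_mul, hδ, Units.val_one]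
    rcases mul_self_eq_one_iff.1 this with e | e <;> simp [e]
  have e0 := mul_eq_of_inverts' hta
  have e1 : F a⁻¹ = F a := by rw [← hta, Ft]
  have e3 : a⁻¹ * a⁻¹ = a := by
    rw [← mul_inv_rev, inv_eq_iff_mul_eq_one, ← pow_three', ha]
  have e2 : F (t * a) = F t := by
    rw [← Fa t, e0, mul_assoc, e3]
  have e4 : F (t * a⁻¹) = F t := by
    rw [← Fa (t * a⁻¹), ← e2, ← mul_assoc, e0, mul_assoc, mul_assoc, ← mul_assoc a⁻¹, e3,
      mul_inv_cancel, mul_one, e2]
  rw [hc, e1, e2, e4]; ring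

theorem comm_dih {a t x : G} (ha : a ^ 3 = 1) (ht : t * t = 1) (hta : t * a * t⁻¹ = a⁻¹)
    (h1 : Commute x a) (h2 : Commute x t) (y : DihedralGroup 3) :
    Commute x (dihedralHom a t 3 ha ht hta y) := by
  rcases y with i | i <;> obtain ⟨i, rfl⟩ := ZMod.intCast_surjective i
  · rw [dihedralHom_r]; exact h1.zpow_right i
  · rw [dihedralHom_sr]; exact h2.mul_right (h1.zpow_right i)

theorem d33 {χ : G → ℂ} (hχ : IsCharacter G χ) {a t b s : G} (ha : a ^ 3 = 1) (ht : t * t = 1)
    (hta : t * a * t⁻¹ = a⁻¹) (hb : b ^ 3 = 1) (hs : s * s = 1) (hsb : s * b * s⁻¹ = b⁻¹)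
    (ab : Commute a b) (as : Commute a s) (tb : Commute t b) (ts : Commute t s) {δ ε : ℂˣ}
    (hδ : δ * δ = 1) (hε : ε * ε = 1) : ∃ n : ℕ,
    χ 1 + 2 * χ b + 3 * ε * χ s + 2 * (χ a + 2 * χ (a * b) + 3 * ε * χ (a * s)) +
      3 * δ * (χ t + 2 * χ (t * b) + 3 * ε * χ (t * s)) = 36 * n := by
  have hc : ∀ x y, Commute (dihedralHom a t 3 ha ht hta x) (dihedralHom b s 3 hb hs hsb y) :=
    fun x y => (comm_dih ha ht hta (comm_dih hb hs hsb ab as y).symm
      (comm_dih hb hs hsb tb ts y).symm x).symm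
  let φ := MonoidHom.noncommCoprod _ _ hc
  let l1 := dihedralHom (1 : ℂˣ) δ 3 (by simp) hδ (by simp)
  let l2 := dihedralHom (1 : ℂˣ) ε 3 (by simp) hε (by simp)
  obtain ⟨n, hn⟩ := classInner_isChar_nat (isChar_comp φ hχ) (isChar_linear (l1.coprod l2))
  refine ⟨n, ?_⟩
  have cf := isChar_classFun hχ
  have h36 : (Nat.card (DihedralGroup 3 × DihedralGroup 3) : ℂ) = 36 := by
    rw [Nat.card_prod, DihedralGroup.nat_card]; norm_num
  rw [← hn, ← h36, card_mul_classInner, Fintype.sum_prod_type]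
  have k : ∀ x, Commute x b → Commute x s → ∑ y, χ (x * dihedralHom b s 3 hb hs hsb y) *
      conj ((l2 y : ℂˣ) : ℂ) = χ x + 2 * χ (x * b) + 3 * ε * χ (x * s) := fun x h1 h2 => by
    have := sumD hb hs hsb hε (fun g => χ (x * g))
      (fun g => by rw [← cf (x * g) b, ← mul_assoc, ← mul_assoc, h1.eq, mul_assoc b])
      (fun g => by rw [← cf (x * g) s, ← mul_assoc, ← mul_assoc, h2.eq, mul_assoc s])
    simpa using this
  have k2 : ∀ {u v : G}, Commute u v → ∀ g, χ (u * g * u⁻¹ * v) = χ (g * v) := fun {u v} h g => by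
    rw [← cf (g * v) u, mul_assoc _ u⁻¹, h.inv_left.eq]; congr 1; group
  have := sumD ha ht hta hδ (fun x => χ x + 2 * χ (x * b) + 3 * ε * χ (x * s))
    (fun g => by rw [cf, k2 ab, k2 as]) (fun g => by rw [cf, k2 tb, k2 ts])
  simp only [one_mul] at this
  rw [← this]
  refine Finset.sum_congr rfl fun x _ => ?_
  rw [← k _ (comm_dih ha ht hta ab.symm tb.symm x).symm (comm_dih ha ht hta as.symm ts.symm x).symm,
    Finset.sum_mul]
  refine Finset.sum_congr rfl fun y _ => ?_
  simp only [φ, MonoidHom.noncommCoprod_apply, MonoidHom.coprod_apply, Units.val_mul, map_mul, l1]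
  ring

variable [Finite G] {T : Subgroup G}

theorem vanish (h : TL T) (hC : centralizer (T : Set G) ≤ T) (h9 : Nat.card T = 9) {x g : G}
    (hx : x ∈ T) (x1 : x ≠ 1) (hg : IsPPart 3 g x) {χ : IrrCharacter G} (h0 : χ.1 g ≠ 0) :
    ¬ 3 ∣ charDegree χ.1 := by
  classical
  obtain ⟨M, hM⟩ := exists_isPModular Nat.prime_three
  have hTC : T ≤ centralizer ({x} : Set G) := fun y hy =>
    mem_centralizer_singleton_iff.2 (h.ab hy x hx).symm
  haveI : (T.subgroupOf (centralizer ({x} : Set G))).Normal :=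
    (normal_subgroupOf_iff_le_normalizer hTC).2 (h.loc x hx x1)
  have hQ : IsPGroup 3 (T.subgroupOf (centralizer ({x} : Set G))) := isPGroup_subgroupOf h.syl.pgrp
  have hu := block_eq_univ_of_centralizer_le hM hQ (hQ.to_le fun c hc => by
    rw [mem_subgroupOf]
    exact hC fun y hy => congrArg Subtype.val (hc ⟨y, hTC hy⟩ hy)) (isPBlock_principalBlock (M := M))
  have gC : g ∈ centralizer ({x} : Set G) :=
    mem_centralizer_singleton_iff.2 (pPart_commute hg).symm.eq
  have e := sum_principal_mul_conj hM ⟨g, gC⟩ ⟨g, gC⟩ hg hg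
  rw [Finset.filter_true_of_mem (s := Finset.univ)
    (p := (· ∈ principalBlock M (centralizer ({x} : Set G))))
    (fun ξ _ => by rw [hu]; trivial), tsum2] at e
  have e2 : Nat.card {c : centralizer ({x} : Set G) // c * ⟨g, gC⟩ * c⁻¹ = ⟨g, gC⟩} =
      Nat.card {c : G // c * g * c⁻¹ = g} := by
    refine Nat.card_congr ⟨fun c => ⟨c.1, congrArg Subtype.val c.2⟩, fun c => ⟨⟨c.1,
      mem_centralizer_singleton_iff.2 (pPart_commute_of_commute Nat.prime_three hg
        (show Commute g c.1 from (mul_inv_eq_iff_eq_mul.1 c.2).symm)).symm.eq⟩,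
      Subtype.ext c.2⟩, fun _ => rfl, fun _ => rfl⟩
  rw [e2, ← tsum2, ← Finset.sum_filter_add_sum_filter_not Finset.univ
    (· ∈ principalBlock M G), left_eq_add] at e
  simp only [Complex.mul_conj] at e
  have hB : χ ∈ principalBlock M G := by
    by_contra hn
    have e3 : ∑ ζ : IrrCharacter G with ζ ∉ principalBlock M G, Complex.normSq (ζ.1 g) = 0 := by
      exact_mod_cast e
    exact h0 (Complex.normSq_eq_zero.1 ((Finset.sum_eq_zero_iff_of_nonneg fun ζ _ =>
      Complex.normSq_nonneg _).1 e3 χ (by simpa using hn)))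
  have hf : (Nat.card G).factorization 3 = 2 := by
    obtain ⟨S, rfl⟩ := h.syl.exists_sylow_top
    rw [S.card_eq_multiplicity] at h9
    exact Nat.pow_right_injective (by norm_num : 2 ≤ 3) h9
  have hh := height_eq_zero_of_defect_le hM (isPBlock_principalBlock (M := M))
    (hf ▸ blockDefect_le _) hB
  have h1 := factorization_degree_add_defect (p := 3) (oneIrr_mem_principalBlock (G := G) hM)
  have h2 := factorization_degree_add_defect (p := 3) hB
  have h3 : charDegree (oneIrr G : G → ℂ) = 1 := by simp [coe_oneIrr, charDegree]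
  rw [blockHeight_oneIrr, h3] at h1
  simp only [Nat.factorization_one, Finsupp.coe_zero, Pi.zero_apply, zero_add, add_zero] at h1
  have h4 : (charDegree χ.1).factorization 3 = 0 := by omega
  rw [Nat.factorization_eq_zero_iff] at h4
  have := irr_degree_ne_zero χ
  have := Nat.prime_three
  tauto

end Cfsg.Agent.D9
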