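import Mathlib

/-! An integral lemma: four integer columns with prescribed inner products form a three by three
grid. -/

set_option autoImplicit false

namespace Cfsg.Agent.D9

open Finset

/-- Values on elements of order three. -/
def al : Fin 3 → ℤ := ![1, 1, -2]

/-- Values on elements of order six. -/
def be : Fin 3 → ℤ := ![1, -1, 0]

variable {ι : Type*} [Fintype ι]

theorem small (l1 l2 l3 : ι → ℤ) (h0 : ∀ i, l1 i + l2 i + l3 i = 0)
    (h3 : ∀ i, (l1 i = 0 ∧ l2 i = 0) ∨ (¬ 3 ∣ l1 i ∧ 3 ∣ l1 i - l2 i))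
    (s1 : ∑ i, l1 i ^ 2 = 18) (s2 : ∑ i, l2 i ^ 2 = 18) (s3 : ∑ i, l3 i ^ 2 = 18) (i : ι) :
    -2 ≤ l1 i ∧ l1 i ≤ 2 := by
  classical
  have b : ∀ l : ι → ℤ, ∑ i, l i ^ 2 = 18 → -4 ≤ l i ∧ l i ≤ 4 := fun l hl => by
    have := single_le_sum (f := fun i => l i ^ 2) (fun _ _ => sq_nonneg _) (mem_univ i)
    constructor <;> nlinarith
  have b1 := b l1 s1
  have b2 := b l2 s2
  have b3 := b l3 s3
  by_contra hn
  have e : l1 i ^ 2 = 16 ∧ l2 i ^ 2 = 4 := by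
    have := h0 i
    have := h3 i
    have : l1 i = 4 ∨ l1 i = -4 := by omega
    have : (l1 i = 4 ∧ l2 i = -2) ∨ (l1 i = -4 ∧ l2 i = 2) := by
      rcases this with e | e <;> omega
    rcases this with ⟨e, e'⟩ | ⟨e, e'⟩ <;> simp [e, e']
  rw [← add_sum_erase _ _ (mem_univ i)] at s1 s2
  have k : ∑ j ∈ univ.erase i, l2 j ^ 2 ≤ ∑ j ∈ univ.erase i, 4 * l1 j ^ 2 := by
    refine sum_le_sum fun j hj => ?_
    have := single_le_sum (f := fun i => l2 i ^ 2) (fun _ _ => sq_nonneg _) hj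
    have c : -3 ≤ l2 j ∧ l2 j ≤ 3 := by constructor <;> nlinarith
    rcases h3 j with ⟨e1, e2⟩ | ⟨e1, e2⟩
    · simp [e1, e2]
    · have c1 : -2 ≤ l2 j ∧ l2 j ≤ 2 := by omega
      have c2 : l1 j ≠ 0 := by omega
      have := Int.one_le_abs c2
      nlinarith [sq_abs (l1 j)]
  rw [← mul_sum] at k
  omega

theorem types (A A' : ι → ℤ) (h : ∀ i, (A i = 0 ∧ A' i = 0) ∨ ¬ 3 ∣ A i)
    (h2 : ∀ i, 2 ∣ A i - A' i) (s1 : ∑ i, A i * A i = 18) (s2 : ∑ i, A' i * A' i = 6)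
    (s3 : ∑ i, A i * A' i = 0) (i : ι) : (A i = 0 ∧ A' i = 0) ∨
      ((A i = 1 ∨ A i = -1) ∧ (A' i = 1 ∨ A' i = -1)) ∨ ((A i = 2 ∨ A i = -2) ∧ A' i = 0) := by
  choose k hk using h2
  have e1 : ∑ i, (A i - 3 * k i + A i) ^ 2 = 18 := by
    have : ∑ i, 4 * (A i - 3 * k i + A i) ^ 2 =
        ∑ i, (A i * A i + 6 * (A i * A' i) + 9 * (A' i * A' i)) :=
      sum_congr rfl fun i _ => by rw [show A' i = A i - 2 * k i by linarith [hk i]]; ring
    rw [← mul_sum, sum_add_distrib, sum_add_distrib, ← mul_sum, ← mul_sum] at this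
    omega
  have e2 : ∑ i, (3 * k i - A i) ^ 2 = 18 := by
    have : ∑ i, 4 * (3 * k i - A i) ^ 2 =
        ∑ i, (A i * A i + -6 * (A i * A' i) + 9 * (A' i * A' i)) :=
      sum_congr rfl fun i _ => by rw [show A' i = A i - 2 * k i by linarith [hk i]]; ring
    rw [← mul_sum, sum_add_distrib, sum_add_distrib, ← mul_sum, ← mul_sum] at this
    omega
  have e3 : ∑ i, (-A i) ^ 2 = 18 := by rw [← s1]; exact sum_congr rfl fun i _ => by ring
  have a1 := small _ _ _ (fun i => by ring) (fun i => by have := h i; have := hk i; omega)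
    e1 e2 e3 i
  have a2 := small _ _ _ (fun i => by ring) (fun i => by have := h i; have := hk i; omega)
    e2 e3 e1 i
  have a3 := small _ _ _ (fun i => by ring) (fun i => by have := h i; have := hk i; omega)
    e3 e1 e2 i
  have := h i
  have := hk i
  omega

/-- The values of a member of the grid. -/
def Ty (a a' c c' : ℤ) (p : Fin 3 × Fin 3) (e : ℤ) : Prop :=
  (e = 1 ∨ e = -1) ∧ a = e * al p.1 ∧ a' = e * be p.1 ∧ c = e * al p.2 ∧ c' = e * be p.2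

instance (a a' c c' : ℤ) (p : Fin 3 × Fin 3) (e : ℤ) : Decidable (Ty a a' c c' p e) := by
  unfold Ty; infer_instance

theorem ty_ind : ∀ (p q : Fin 3 × Fin 3), ∀ e ∈ ({1, -1} : Finset ℤ),
    (al q.1 * (e * al p.1) + 3 * be q.1 * (e * be p.1)) *
        (al q.2 * (e * al p.2) + 3 * be q.2 * (e * be p.2)) +
      (al q.1 * (e * al p.1) + 3 * be q.1 * (e * be p.1)) ^ 2 +
      (al q.2 * (e * al p.2) + 3 * be q.2 * (e * be p.2)) ^ 2 -
      3 * ((e * al p.1) ^ 2 + 3 * (e * be p.1) ^ 2) = if p = q then 36 else 0 := by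
  decide

theorem ty_uniq : ∀ (p q : Fin 3 × Fin 3), ∀ e ∈ ({1, -1} : Finset ℤ),
    ∀ f ∈ ({1, -1} : Finset ℤ), Ty (e * al p.1) (e * be p.1) (e * al p.2) (e * be p.2) q f →
      p = q ∧ e = f := by
  decide

theorem Ty.uniq {a a' c c' e f : ℤ} {p q : Fin 3 × Fin 3} (h : Ty a a' c c' p e)
    (h' : Ty a a' c c' q f) : p = q ∧ e = f := by
  obtain ⟨h1, rfl, rfl, rfl, rfl⟩ := h
  exact ty_uniq p q e (by simpa using h1) f (by simpa using h'.1) h'

theorem al_be : ∀ i : Fin 3, al i * al i * 18 + 9 * (be i * be i) * 6 = 72 := by decide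

theorem grid (A A' C C' : ι → ℤ)
    (h : ∀ i, (A i = 0 ∧ A' i = 0 ∧ C i = 0 ∧ C' i = 0) ∨ (¬ 3 ∣ A i ∧ 3 ∣ A i - C i))
    (hA : ∀ i, 2 ∣ A i - A' i) (hC : ∀ i, 2 ∣ C i - C' i)
    (s1 : ∑ i, A i * A i = 18) (s2 : ∑ i, A' i * A' i = 6) (s3 : ∑ i, A i * A' i = 0)
    (t1 : ∑ i, C i * C i = 18) (t2 : ∑ i, C' i * C' i = 6) (t3 : ∑ i, C i * C' i = 0)
    (u1 : ∑ i, A i * C i = 0) (u2 : ∑ i, A i * C' i = 0) (u3 : ∑ i, A' i * C i = 0)
    (u4 : ∑ i, A' i * C' i = 0) :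
    ∃ (x : Fin 3 × Fin 3 → ι) (ε : Fin 3 × Fin 3 → ℤ),
      (∀ p, Ty (A (x p)) (A' (x p)) (C (x p)) (C' (x p)) p (ε p)) ∧
      (∀ i p e, Ty (A i) (A' i) (C i) (C' i) p e → i = x p) ∧
      ∀ F : ι → ℚ, (∀ i, A i = 0 → A' i = 0 → C i = 0 → C' i = 0 → F i = 0) →
        ∑ i, F i = ∑ p, F (x p) := by
  classical
  have ty : ∀ i, (A i = 0 ∧ A' i = 0 ∧ C i = 0 ∧ C' i = 0) ∨
      ∃ p e, Ty (A i) (A' i) (C i) (C' i) p e := fun i => by
    refine (h i).imp_right fun hi => ?_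
    have a := types A A' (fun i => by have := h i; omega) hA s1 s2 s3 i
    have c := types C C' (fun i => by have := h i; omega) hC t1 t2 t3 i
    obtain ⟨h1, h2⟩ := hi
    generalize A i = a1, A' i = a2, C i = c1, C' i = c2 at *
    have key : ∀ a1 ∈ ({1, -1, 2, -2} : Finset ℤ), ∀ a2 ∈ ({1, -1, 0} : Finset ℤ),
        ∀ c1 ∈ ({1, -1, 2, -2} : Finset ℤ), ∀ c2 ∈ ({1, -1, 0} : Finset ℤ), 3 ∣ a1 - c1 →
        (a2 = 0 ↔ a1 = 2 ∨ a1 = -2) → (c2 = 0 ↔ c1 = 2 ∨ c1 = -2) →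
        ∃ p, ∃ e ∈ ({1, -1} : Finset ℤ), Ty a1 a2 c1 c2 p e := by decide
    obtain ⟨p, e, -, he⟩ := key a1 (by simp; omega) a2 (by simp; omega) c1 (by simp; omega) c2
      (by simp; omega) h2 (by omega) (by omega)
    exact ⟨p, e, he⟩
  have cnt : ∀ q, (univ.filter fun i => ∃ e, Ty (A i) (A' i) (C i) (C' i) q e).card = 1 := by
    intro q
    have e1 : ∑ i, ((al q.1 * A i + 3 * be q.1 * A' i) * (al q.2 * C i + 3 * be q.2 * C' i) +
        (al q.1 * A i + 3 * be q.1 * A' i) ^ 2 + (al q.2 * C i + 3 * be q.2 * C' i) ^ 2 -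
        3 * (A i ^ 2 + 3 * A' i ^ 2)) =
        ∑ i, if ∃ e, Ty (A i) (A' i) (C i) (C' i) q e then 36 else 0 := by
      refine sum_congr rfl fun i _ => ?_
      rcases ty i with ⟨a1, a2, a3, a4⟩ | ⟨p, e, he⟩
      · rw [if_neg, a1, a2, a3, a4]
        · simp
        · rintro ⟨e, h1, h2, -⟩
          rw [a1] at h2
          rcases h1 with rfl | rfl <;> revert h2 <;> generalize q.1 = r <;> revert r <;> decide
      · have := ty_ind p q e (by simpa using he.1)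
        rw [← he.2.1, ← he.2.2.1, ← he.2.2.2.1, ← he.2.2.2.2] at this
        rw [this]
        exact if_congr ⟨fun e' => ⟨e, e' ▸ he⟩, fun ⟨_, h'⟩ => (he.uniq h').1⟩ rfl rfl
    rw [← sum_filter, sum_const, nsmul_eq_mul] at e1
    have e2 : ∀ i, (al q.1 * A i + 3 * be q.1 * A' i) * (al q.2 * C i + 3 * be q.2 * C' i) +
        (al q.1 * A i + 3 * be q.1 * A' i) ^ 2 + (al q.2 * C i + 3 * be q.2 * C' i) ^ 2 -
        3 * (A i ^ 2 + 3 * A' i ^ 2) = al q.1 * al q.2 * (A i * C i) +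
        3 * al q.1 * be q.2 * (A i * C' i) + 3 * be q.1 * al q.2 * (A' i * C i) +
        9 * be q.1 * be q.2 * (A' i * C' i) + (al q.1 * al q.1 - 3) * (A i * A i) +
        6 * al q.1 * be q.1 * (A i * A' i) + (9 * (be q.1 * be q.1) - 9) * (A' i * A' i) +
        al q.2 * al q.2 * (C i * C i) + 6 * al q.2 * be q.2 * (C i * C' i) +
        9 * (be q.2 * be q.2) * (C' i * C' i) := fun i => by ring
    simp only [e2, sum_add_distrib, ← mul_sum, s1, s2, s3, t1, t2, t3, u1, u2, u3, u4] at e1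
    have := al_be q.1
    have := al_be q.2
    have e3 : ((univ.filter fun i => ∃ e, Ty (A i) (A' i) (C i) (C' i) q e).card : ℤ) = 1 := by
      linarith
    exact_mod_cast e3
  choose x hx using fun q => card_eq_one.1 (cnt q)
  have m : ∀ i q, (∃ e, Ty (A i) (A' i) (C i) (C' i) q e) ↔ i = x q := fun i q => by
    rw [← mem_singleton, ← hx q]; simp
  choose ε hε using fun q => (m (x q) q).2 rfl
  refine ⟨x, ε, hε, fun i p e he => (m i p).1 ⟨e, he⟩, fun F hF => ?_⟩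
  refine (Fintype.sum_of_injective x (fun p q e => ((hε p).uniq (e ▸ hε q)).1) _ _
    (fun i hi => ?_) fun _ => rfl).symm
  rcases ty i with ⟨a1, a2, a3, a4⟩ | ⟨p, e, he⟩
  · exact hF i a1 a2 a3 a4
  · exact absurd ⟨p, ((m i p).1 ⟨e, he⟩).symm⟩ hi

theorem rle {y d n : ℤ} (hd : 1 ≤ d) (h : n * y ≤ d) : (n : ℚ) * ((y : ℚ) / d) ≤ 1 := by
  rw [← mul_div_assoc, div_le_one (by exact_mod_cast hd)]; exact_mod_cast h

theorem rge {y d n : ℤ} (hd : 1 ≤ d) (h : -d ≤ n * y) : -1 ≤ (n : ℚ) * ((y : ℚ) / d) := by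
  have := rle (n := n) (y := -y) hd (by linarith)
  push_cast at this
  rw [neg_div] at this
  linarith

theorem endgame (A A' C C' D Y Ys Yw : ι → ℤ)
    (h : ∀ i, (A i = 0 ∧ A' i = 0 ∧ C i = 0 ∧ C' i = 0) ∨ (¬ 3 ∣ A i ∧ 3 ∣ A i - C i))
    (hA : ∀ i, 2 ∣ A i - A' i) (hC : ∀ i, 2 ∣ C i - C' i)
    (s1 : ∑ i, A i * A i = 18) (s2 : ∑ i, A' i * A' i = 6) (s3 : ∑ i, A i * A' i = 0)
    (t1 : ∑ i, C i * C i = 18) (t2 : ∑ i, C' i * C' i = 6) (t3 : ∑ i, C i * C' i = 0)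
    (u1 : ∑ i, A i * C i = 0) (u2 : ∑ i, A i * C' i = 0) (u3 : ∑ i, A' i * C i = 0)
    (u4 : ∑ i, A' i * C' i = 0) (v1 : ∑ i, A i * D i = 0) (v2 : ∑ i, A' i * D i = 0)
    (v3 : ∑ i, C i * D i = 0) (v4 : ∑ i, C' i * D i = 0) (hD : ∀ i, 1 ≤ D i)
    (f1 : ∀ i, ∃ m, 9 * m = D i + 4 * A i + 4 * C i ∧ Y i ≤ m ∧ -Y i ≤ m ∧
      0 ≤ 9 * m + 6 * Ys i + 12 * A' i + 9 * Y i ∧ 0 ≤ 9 * m + 6 * Yw i + 12 * C' i + 9 * Y i)
    (f2 : ∀ i, 3 ∣ Ys i - A' i) (f3 : ∀ i, 3 ∣ Yw i - C' i)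
    (z1 : (∀ i, Y i = Ys i) ∨ ∑ i, ((Y i * C i * A' i : ℤ) : ℚ) / D i = 0)
    (z2 : (∀ i, Y i = Yw i) ∨ ∑ i, ((Y i * A i * C' i : ℤ) : ℚ) / D i = 0)
    {o : ι} (o1 : A o = 1) (o2 : A' o = 1) (o3 : C o = 1) (o4 : C' o = 1) (o5 : D o = 1)
    (o6 : Y o = 1) : ∃ i, D i = 1 ∧ (A' i = -1 ∨ C' i = -1) := by
  obtain ⟨x, ε, hT, hu, hF⟩ := grid A A' C C' h hA hC s1 s2 s3 t1 t2 t3 u1 u2 u3 u4
  have e0 : o = x (0, 0) := hu o _ 1 (by simp [Ty, o1, o2, o3, o4, al, be])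
  subst e0
  by_contra hn
  push Not at hn
  have ee : ∀ p, (ε p : ℚ) * ε p = 1 := fun p => by rcases (hT p).1 with e | e <;> simp [e]
  have S1 : ∑ i, ((Y i * C i * A' i : ℤ) : ℚ) / D i =
      ∑ p : Fin 3 × Fin 3, (al p.2 * be p.1 : ℤ) * ((Y (x p) : ℚ) / D (x p)) := by
    rw [hF _ fun i _ _ e _ => by simp [e]]
    refine sum_congr rfl fun p _ => ?_
    rw [(hT p).2.2.1, (hT p).2.2.2.1]; push_cast
    linear_combination (al p.2 * be p.1 * (Y (x p) / D (x p)) : ℚ) * ee p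
  have S2 : ∑ i, ((Y i * A i * C' i : ℤ) : ℚ) / D i =
      ∑ p : Fin 3 × Fin 3, (al p.1 * be p.2 : ℤ) * ((Y (x p) : ℚ) / D (x p)) := by
    rw [hF _ fun i e _ _ _ => by simp [e]]
    refine sum_congr rfl fun p _ => ?_
    rw [(hT p).2.1, (hT p).2.2.2.2]; push_cast
    linear_combination (al p.1 * be p.2 * (Y (x p) / D (x p)) : ℚ) * ee p
  have L : ∀ (B : ι → ℤ) (b : Fin 3 × Fin 3 → ℤ), ∑ i, B i * D i = 0 →
      (∀ i, A i = 0 → A' i = 0 → C i = 0 → C' i = 0 → B i = 0) → (∀ p, B (x p) = ε p * b p) →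
      ∑ p, b p * (ε p * D (x p)) = 0 := fun B b h1 h2 h3 => by
    have := hF (fun i => ((B i * D i : ℤ) : ℚ)) fun i a1 a2 a3 a4 => by simp [h2 i a1 a2 a3 a4]
    rw [← Int.cast_sum, ← Int.cast_sum, h1] at this
    rw [← Int.cast_injective this.symm]
    exact sum_congr rfl fun p _ => by rw [h3]; ring
  have w1 := L A _ v1 (fun _ a _ _ _ => a) fun p => (hT p).2.1
  have w2 := L A' _ v2 (fun _ _ a _ _ => a) fun p => (hT p).2.2.1
  have w3 := L C _ v3 (fun _ _ _ a _ => a) fun p => (hT p).2.2.2.1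
  have w4 := L C' _ v4 (fun _ _ _ _ a => a) fun p => (hT p).2.2.2.2
  rw [S1] at z1
  rw [S2] at z2
  have t00 := hT (0, 0)
  have t01 := hT (0, 1)
  have t02 := hT (0, 2)
  have t10 := hT (1, 0)
  have t11 := hT (1, 1)
  have t12 := hT (1, 2)
  have t20 := hT (2, 0)
  have t21 := hT (2, 1)
  simp only [Fintype.sum_prod_type, Fin.sum_univ_three, al, be, Ty, Matrix.cons_val_zero,
    Matrix.cons_val_one, Matrix.cons_val_two, Matrix.head_cons, Matrix.tail_cons, o5, o6,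
    Matrix.cons_val_fin_one] at z1 z2 w1 w2 w3 w4 t00 t01 t02 t10 t11 t12 t20 t21
  push_cast at z1 z2
  have b11 := rle (n := 5) (y := Y (x (1, 1))) (hD (x (1, 1))) (by
      obtain ⟨m, k⟩ := f1 (x (1, 1))
      have k0 := hD (x (1, 1))
      have k1 := hn (x (1, 1))
      clear * - k k0 t11 k1
      omega)
  rcases z1 with z1 | z1 <;> rcases z2 with z2 | z2
  · have k1 := f2 (x (0, 1))
    have k2 := f3 (x (0, 1))
    have k3 := z1 (x (0, 1))
    have k4 := z2 (x (0, 1))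
    clear * - k1 k2 k3 k4 t01
    omega
  · have b01 := rle (n := 7) (y := Y (x (0, 1))) (hD (x (0, 1))) (by
      obtain ⟨m, k⟩ := f1 (x (0, 1))
      have k0 := hD (x (0, 1))
      have k1 := hn (x (0, 1))
      have k2 := f2 (x (0, 1))
      have k3 := z1 (x (0, 1))
      clear * - k k0 t01 k1 k2 k3
      omega)
    have b20 := rle (n := 7) (y := Y (x (2, 0))) (hD (x (2, 0))) (by
      obtain ⟨m, k⟩ := f1 (x (2, 0))
      have k0 := hD (x (2, 0))
      have k1 := f2 (x (2, 0))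
      have k2 := z1 (x (2, 0))
      clear * - k k0 t20 k1 k2
      omega)
    have b10 := rge (n := 10) (y := Y (x (1, 0))) (hD (x (1, 0))) (by
      obtain ⟨m, k⟩ := f1 (x (1, 0))
      have k0 := hD (x (1, 0))
      have k1 := z1 (x (1, 0))
      clear * - k k0 t10 k1
      omega)
    have b21 := rge (n := 10) (y := Y (x (2, 1))) (hD (x (2, 1))) (by
      obtain ⟨m, k⟩ := f1 (x (2, 1))
      have k0 := hD (x (2, 1))
      have k1 := z1 (x (2, 1))
      clear * - k k0 t21 k1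
      omega)
    push_cast at b11 b01 b20 b10 b21
    linarith
  · have b10 := rle (n := 7) (y := Y (x (1, 0))) (hD (x (1, 0))) (by
      obtain ⟨m, k⟩ := f1 (x (1, 0))
      have k0 := hD (x (1, 0))
      have k1 := hn (x (1, 0))
      have k2 := f3 (x (1, 0))
      have k3 := z2 (x (1, 0))
      clear * - k k0 t10 k1 k2 k3
      omega)
    have b02 := rle (n := 7) (y := Y (x (0, 2))) (hD (x (0, 2))) (by
      obtain ⟨m, k⟩ := f1 (x (0, 2))
      have k0 := hD (x (0, 2))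
      have k1 := f3 (x (0, 2))
      have k2 := z2 (x (0, 2))
      clear * - k k0 t02 k1 k2
      omega)
    have b01 := rge (n := 10) (y := Y (x (0, 1))) (hD (x (0, 1))) (by
      obtain ⟨m, k⟩ := f1 (x (0, 1))
      have k0 := hD (x (0, 1))
      have k1 := z2 (x (0, 1))
      clear * - k k0 t01 k1
      omega)
    have b12 := rge (n := 10) (y := Y (x (1, 2))) (hD (x (1, 2))) (by
      obtain ⟨m, k⟩ := f1 (x (1, 2))
      have k0 := hD (x (1, 2))
      have k1 := z2 (x (1, 2))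
      clear * - k k0 t12 k1
      omega)
    push_cast at b11 b01 b02 b10 b12
    linarith
  · have b02 := rle (n := 5) (y := Y (x (0, 2))) (hD (x (0, 2))) (by
      obtain ⟨m, k⟩ := f1 (x (0, 2))
      have k0 := hD (x (0, 2))
      clear * - k k0 t02
      omega)
    have b20 := rle (n := 5) (y := Y (x (2, 0))) (hD (x (2, 0))) (by
      obtain ⟨m, k⟩ := f1 (x (2, 0))
      have k0 := hD (x (2, 0))
      clear * - k k0 t20
      omega)
    have b12 := rge (n := 5) (y := Y (x (1, 2))) (hD (x (1, 2))) (by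
      obtain ⟨m, k⟩ := f1 (x (1, 2))
      have k0 := hD (x (1, 2))
      clear * - k k0 t12
      omega)
    have b21 := rge (n := 5) (y := Y (x (2, 1))) (hD (x (2, 1))) (by
      obtain ⟨m, k⟩ := f1 (x (2, 1))
      have k0 := hD (x (2, 1))
      clear * - k k0 t21
      omega)
    have w5 : ε (0, 0) * 1 + ε (0, 2) * D (x (0, 2)) =
        ε (1, 1) * D (x (1, 1)) + ε (2, 1) * D (x (2, 1)) := by linarith
    push_cast at b11 b02 b20 b12 b21
    by_cases c : ε (0, 2) = -1 ∧ D (x (0, 2)) = 5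
    · have c2 : ¬ (ε (2, 1) = -1 ∧ D (x (2, 1)) = 5) := fun c2 => by
        rw [c.1, c.2, c2.1, c2.2] at w5
        have k0 := hD (x (1, 1))
        have k1 := hn (x (1, 1))
        clear * - w5 k0 k1 t11 t00 o1
        rcases t11.1 with e | e <;> rw [e] at w5 <;> omega
      have b := rge (n := 7) (y := Y (x (2, 1))) (hD (x (2, 1))) (by
        obtain ⟨m, k⟩ := f1 (x (2, 1))
        have k0 := hD (x (2, 1))
        clear * - k k0 t21 c2
        omega)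
      push_cast at b
      linarith
    · have b := rle (n := 7) (y := Y (x (0, 2))) (hD (x (0, 2))) (by
        obtain ⟨m, k⟩ := f1 (x (0, 2))
        have k0 := hD (x (0, 2))
        clear * - k k0 t02 c
        omega)
      push_cast at b
      linarith

end Cfsg.Agent.D9
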