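import Mathlib
import Cfsg.Agent.Inv.D9a
import Cfsg.Agent.Inv.D9b

/-! Groups whose Sylow 3-subgroup is a self-centralizing TI subgroup of order nine with a dihedral
automizer of order eight have a subgroup of index two. -/

set_option autoImplicit false

open scoped ComplexConjugate

namespace Cfsg.Agent.D9

open Subgroup Cfsg.Agent.LocalEven Cfsg.Agent.Char Cfsg.Agent.FGS Cfsg.Agent.Inv Cfsg.Agent.Block

variable {G : Type*} [Group G]

theorem ne_inv3 {x : G} (h3 : x ^ 3 = 1) (h1 : x ≠ 1) : x⁻¹ ≠ x := fun e => h1 (by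
  rw [pow_three', ← e, inv_eq_iff_mul_eq_one.1 (e.symm ▸ e : x⁻¹⁻¹ = x⁻¹), one_mul] at h3
  exact e ▸ h3)

theorem sub3 [Finite G] {T H : Subgroup G} (h9 : Nat.card T = 9) (hH : H ≤ T) {a y : G}
    (hy : y ∈ T) (hy' : y ∉ H) (ha : a ∈ H) (a3 : a ^ 3 = 1) (a1 : a ≠ 1) : H = zpowers a := by
  have h1 : Nat.card (zpowers a) = 3 := by rw [Nat.card_zpowers, orderOf_eq_prime a3 a1]
  refine (eq_of_le_of_card_ge (zpowers_le.2 ha) ?_).symm
  have h2 := card_dvd_of_le hH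
  have h3 : Nat.card H ≠ 9 := fun e => hy' (eq_of_le_of_card_ge hH (by omega) ▸ hy)
  rw [h9] at h2
  have := Nat.le_of_dvd (by norm_num) h2
  rw [h1]
  generalize Nat.card H = n at *
  interval_cases n <;> omega

/-- A Sylow 3-subgroup of order nine with generators of its dihedral automizer. -/
structure D8 (T : Subgroup G) (a b s w : G) : Prop where
  tl : TL T
  card : Nat.card T = 9
  exp : ∀ x ∈ T, x ^ 3 = 1
  cent : centralizer (T : Set G) ≤ T
  cardN : Nat.card (normalizer (T : Set G)) = 72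
  ha : a ∈ T
  hb : b ∈ T
  a1 : a ≠ 1
  s2 : s * s = 1
  w2 : w * w = 1
  sa : s * a * s⁻¹ = a
  sb : s * b * s⁻¹ = b⁻¹
  wa : w * a * w⁻¹ = b
  sw : w * s * w * s = s * w * s * w

namespace D8

variable {T : Subgroup G} {a b s w : G} (h : D8 T a b s w)
include h

theorem b1 : b ≠ 1 := by rw [← h.wa]; simpa using h.a1

theorem ab : Commute a b := h.tl.ab h.hb a h.ha

theorem si : s⁻¹ = s := inv_eq_of_mul_eq_one_right h.s2

theorem wi : w⁻¹ = w := inv_eq_of_mul_eq_one_right h.w2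

theorem as : Commute a s := (mul_inv_eq_iff_eq_mul.1 h.sa).symm

theorem wb : w * b * w⁻¹ = a := by
  rw [← h.wa]
  calc _ = (w * w) * a * (w * w)⁻¹ := by group
    _ = a := by rw [h.w2]; group

theorem t2 : w * s * w * (w * s * w) = 1 := by
  calc _ = w * s * (w * w) * s * w := by group
    _ = 1 := by rw [h.w2, mul_one, mul_assoc w, h.s2, mul_one, h.w2]

theorem ta : w * s * w * a * (w * s * w)⁻¹ = a⁻¹ := by
  calc _ = w * (s * (w * a * w⁻¹) * s⁻¹) * w⁻¹ := by group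
    _ = (w * b * w⁻¹)⁻¹ := by rw [h.wa, h.sb]; group
    _ = _ := by rw [h.wb]

theorem tb : Commute (w * s * w) b := by
  refine mul_inv_eq_iff_eq_mul.1 ?_
  calc _ = w * (s * (w * b * w⁻¹) * s⁻¹) * w⁻¹ := by group
    _ = _ := by rw [h.wb, h.sa, h.wa]

theorem ts : Commute (w * s * w) s := by
  change _ = _
  rw [h.sw]; group

theorem nb {x : G} (hx : s * x * s⁻¹ = x) : x ≠ b ∧ x ≠ b⁻¹ := by
  have := ne_inv3 (h.exp b h.hb) h.b1
  refine ⟨?_, ?_⟩ <;> rintro rfl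
  · exact this (h.sb.symm.trans hx)
  · rw [← conj_inv, h.sb] at hx
    exact this (inv_injective hx)

theorem symm : D8 T (a * b) (a * b⁻¹) w s := by
  refine ⟨h.tl, h.card, h.exp, h.cent, h.cardN, mul_mem h.ha h.hb, mul_mem h.ha (inv_mem h.hb),
    fun e => (h.nb h.sa).2 (eq_inv_of_mul_eq_one_left e), h.w2, h.s2, ?_, ?_, ?_, h.sw.symm⟩
  · calc _ = w * a * w⁻¹ * (w * b * w⁻¹) := by group
      _ = _ := by rw [h.wa, h.wb, h.ab.eq]
  · calc _ = w * a * w⁻¹ * (w * b * w⁻¹)⁻¹ := by group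
      _ = _ := by rw [h.wa, h.wb]; group
  · calc _ = s * a * s⁻¹ * (s * b * s⁻¹) := by group
      _ = _ := by rw [h.sa, h.sb]

theorem sT : s ∉ T := fun e => (h.nb (x := b) (by rw [← h.tl.ab e b h.hb]; group)).1 rfl

theorem s1 : s ≠ 1 := fun e => h.sT (e ▸ one_mem T)

theorem le_Ca : T ≤ centralizer ({a} : Set G) := fun y hy =>
  mem_centralizer_singleton_iff.2 (h.tl.ab hy a h.ha).symm

theorem s_Ca : s ∈ centralizer ({a} : Set G) := mem_centralizer_singleton_iff.2 h.as.symm.eq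

theorem ca : IsConj a a⁻¹ := isConj_iff.2 ⟨_, h.ta⟩

variable [Finite G]

theorem cardCa : Nat.card (centralizer ({a} : Set G)) = 18 ∧ ¬ IsConj a (a * b) := by
  classical
  have e := h.tl.card_conj h.ha h.a1
  have h1 := card_dvd_of_le h.le_Ca
  have h2 : Nat.card (centralizer ({a} : Set G)) ≠ 9 := fun e =>
    h.sT (eq_of_le_of_card_ge h.le_Ca (by rw [e, h.card]) ▸ h.s_Ca)
  have h3 := Nat.card_pos (α := centralizer ({a} : Set G))
  rw [h.card] at h1
  rw [h.cardN] at e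
  have cb : IsConj a b := isConj_iff.2 ⟨_, h.wa⟩
  have cb' : IsConj a b⁻¹ := cb.trans (isConj_iff.2 ⟨_, h.sb⟩)
  have k : ∀ U : Finset G, (∀ y ∈ U, y ∈ T ∧ IsConj a y) →
      U.card ≤ Nat.card {y // y ∈ T ∧ IsConj a y} := fun U hU => by
    rw [← Set.ncard_coe_finset]
    exact Set.ncard_le_ncard hU
  have n1 := ne_inv3 (h.exp a h.ha) h.a1
  have n2 := ne_inv3 (h.exp b h.hb) h.b1
  have n3 := h.nb h.sa
  have n4 := h.nb (x := a⁻¹) (by rw [← conj_inv, h.sa])
  have c4 : ({a, a⁻¹, b, b⁻¹} : Finset G).card = 4 := by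
    rw [Finset.card_insert_of_notMem, Finset.card_insert_of_notMem, Finset.card_pair n2.symm] <;>
      simp only [Finset.mem_insert, Finset.mem_singleton] <;> tauto
  have m4 : ∀ y ∈ ({a, a⁻¹, b, b⁻¹} : Finset G), y ∈ T ∧ IsConj a y := by
    simp only [Finset.mem_insert, Finset.mem_singleton]
    rintro y (rfl | rfl | rfl | rfl)
    exacts [⟨h.ha, IsConj.refl _⟩, ⟨inv_mem h.ha, h.ca⟩, ⟨h.hb, cb⟩, ⟨inv_mem h.hb, cb'⟩]
  have k4 := k _ m4
  obtain ⟨n, hn⟩ := h1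
  have n2' : 2 ≤ n := by omega
  refine ⟨by nlinarith, fun hc => ?_⟩
  have k5 := k (insert (a * b) {a, a⁻¹, b, b⁻¹}) (by
    rw [Finset.forall_mem_insert]; exact ⟨⟨mul_mem h.ha h.hb, hc⟩, m4⟩)
  rw [Finset.card_insert_of_notMem] at k5
  · nlinarith
  simp only [Finset.mem_insert, Finset.mem_singleton, not_or]
  refine ⟨by simpa using h.b1, fun e => ?_, by simpa using h.a1, fun e => ?_⟩
  · refine (h.nb (x := a⁻¹ * a⁻¹) ?_).1 (by rw [eq_comm, eq_inv_mul_iff_mul_eq, e])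
    rw [h.as.inv_left.mul_left h.as.inv_left |>.symm.eq]; group
  · refine n3.1 ?_
    rw [eq_mul_inv_of_mul_eq e, ← mul_inv_rev, inv_eq_iff_mul_eq_one, ← pow_three', h.exp b h.hb]

omit [Finite G] in
theorem as3 : (a * s) ^ 3 = s := by
  rw [h.as.mul_pow, h.exp a h.ha, one_mul, pow_three', h.s2, one_mul]

omit [Finite G] in
theorem as2 : (a * s) * (a * s) = a⁻¹ := by
  rw [← sq, h.as.mul_pow, sq s, h.s2, mul_one, eq_inv_iff_mul_eq_one, ← pow_succ, h.exp a h.ha]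

omit [Finite G] in
theorem ord6 : orderOf (a * s) = 6 := by
  rw [h.as.orderOf_mul_eq_mul_orderOf_of_coprime] <;>
    rw [orderOf_eq_prime (h.exp a h.ha) h.a1, two_of_mul_self h.s1 h.s2]
  norm_num

theorem cardCas : Nat.card (centralizer ({a * s} : Set G)) = 6 := by
  rw [← h.ord6, ← Nat.card_zpowers]
  congr 2
  refine le_antisymm (fun g hg => ?_) (zpowers_le.2 (mem_centralizer_singleton_iff.2 rfl))
  have c : Commute g (a * s) := mem_centralizer_singleton_iff.1 hg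
  have c1 : Commute g s := h.as3 ▸ c.pow_right 3
  have c2 : Commute g a := Commute.inv_right_iff.1 (h.as2 ▸ c.mul_right c)
  have e := sub3 h.card (inf_le_left (b := centralizer ({s} : Set G))) h.hb
    (fun e => (h.nb (x := b) (by rw [← mem_centralizer_singleton_iff.1 e.2]; group)).1 rfl)
    ⟨h.ha, mem_centralizer_singleton_iff.2 h.as.eq⟩ (h.exp a h.ha) h.a1
  have l : zpowers a ≤ zpowers (a * s) := zpowers_le.2 (inv_mem_iff.1
    (h.as2 ▸ mul_mem (mem_zpowers (a * s)) (mem_zpowers (a * s))))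
  have ls := pow_mem (mem_zpowers (a * s)) 3
  rw [h.as3] at ls
  by_cases hT : g ∈ T
  · exact l (e ▸ ⟨hT, mem_centralizer_singleton_iff.2 c1.eq⟩)
  have i2 : (T.subgroupOf (centralizer ({a} : Set G))).index = 2 := by
    have := (T.subgroupOf (centralizer ({a} : Set G))).card_mul_index
    rw [h.cardCa.1, Nat.card_congr (subgroupOfEquivOfLe h.le_Ca).toEquiv, h.card] at this
    omega
  have : g * s ∈ T := (mul_mem_iff_of_index_two i2 (a := ⟨g, mem_centralizer_singleton_iff.2 c2.eq⟩)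
    (b := ⟨s, h.s_Ca⟩)).2 (iff_of_false hT h.sT)
  simpa using mul_mem (l (e.le ⟨this, mem_centralizer_singleton_iff.2
    (c1.mul_left (Commute.refl s)).eq⟩)) (inv_mem ls)

theorem zero {u v : G} (hu : u * u = 1) (hv : IsConj (a * b) v) (e : u * v = a * s) :
    IsConj s u := by
  have c3 : ∀ {x y : G}, IsConj x y → x ^ 3 = 1 → y ^ 3 = 1 := fun hc h3 => by
    obtain ⟨c, rfl⟩ := isConj_iff.1 hc
    rw [conj_pow, h3]; group
  have v3 := c3 hv (h.exp _ h.symm.ha)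
  obtain ⟨g, rfl⟩ := isConj_iff.1 hv
  have m : g * (a * b) * g⁻¹ ∈ cj g T := conj_mem_cj h.symm.ha
  set v := g * (a * b) * g⁻¹ with hv'
  have e2 : a * (u * v * u⁻¹) = v⁻¹ := by
    rw [inv_eq_of_mul_eq_one_right hu, eq_inv_iff_mul_eq_one, mul_assoc, mul_assoc, e, h.as2,
      mul_inv_cancel]
  have hh := ((h.tl.cj g).tri (h.exp a h.ha) (c3 (isConj_conj u v) v3) (e2 ▸ inv_mem m)
    (by rw [e2, inv_pow, v3, inv_one]) (by
      rw [e2, hv', Ne, inv_eq_one, conj_eq_one_iff]; exact h.symm.a1) fun c => h.cardCa.2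
      ((c.trans (isConj_conj u v).symm).trans hv.symm)).1
  rw [h.tl.eq (h.tl.cj g) h.ha hh h.a1] at m
  have x1 : a * v⁻¹ ∈ T := mul_mem h.ha (inv_mem m)
  have eu : u = s * (a * v⁻¹) := by rw [← mul_assoc, ← h.as.eq, ← e]; group
  generalize a * v⁻¹ = x at x1 eu
  have x3 := h.exp x x1
  have e3 : x⁻¹ * s = s * x := by
    rw [eu] at hu
    calc _ = x⁻¹ * s⁻¹ := by rw [h.si]
      _ = (s * x)⁻¹ * (s * x * (s * x)) := by rw [hu]; group
      _ = _ := by group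
  refine isConj_iff.2 ⟨(x * x)⁻¹, ?_⟩
  rw [eu, inv_inv, mul_inv_rev, mul_assoc x⁻¹, e3, ← mul_assoc x⁻¹, e3]
  calc _ = s * x * x ^ 3 := by rw [pow_three']; simp only [mul_assoc]
    _ = _ := by rw [x3, mul_one]

end D8

/-- Elements of order dividing six that are conjugate to their inverses. -/
def R6 (g : G) : Prop := g ^ 6 = 1 ∧ IsConj g g⁻¹

/-- The integer part of a character value. -/
noncomputable def V (g : G) (χ : IrrCharacter G) : ℤ := ⌊(χ.1 g).re⌋

theorem V_eq {g : G} {χ : IrrCharacter G} {n : ℤ} (h : χ.1 g = n) : V g χ = n := by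
  simp [V, h]

theorem irr_conj {g k : G} (h : IsConj g k) (χ : IrrCharacter G) : χ.1 g = χ.1 k := by
  obtain ⟨c, rfl⟩ := isConj_iff.1 h
  rw [isIrr_classFun χ.2]

theorem R6.of_two {g : G} (h : g * g = 1) : R6 g :=
  ⟨by rw [show 6 = 2 * 3 from rfl, pow_mul, sq, h, one_pow],
    by rw [inv_eq_of_mul_eq_one_right h]⟩

variable [Finite G]

theorem R6.val {g : G} (h : R6 g) (χ : IrrCharacter G) : χ.1 g = V g χ := by
  obtain ⟨n, hn⟩ := Galois.exists_int_of_forall_pow (isIrr_isGenChar χ.2) (g := g) fun k hk => by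
    have h6 := orderOf_dvd_of_pow_eq_one h.1
    have : k ≡ 1 [MOD orderOf g] ∨ orderOf g ∣ k + 1 := by
      have := Nat.le_of_dvd (by norm_num) h6
      have k2 : 2 ∣ orderOf g → ¬ 2 ∣ k := fun d e =>
        absurd (Nat.eq_one_of_dvd_coprimes hk e d) (by norm_num)
      have k3 : 3 ∣ orderOf g → ¬ 3 ∣ k := fun d e =>
        absurd (Nat.eq_one_of_dvd_coprimes hk e d) (by norm_num)
      rw [Nat.ModEq]
      generalize orderOf g = n at *
      have : k % 6 = 0 ∨ k % 6 = 1 ∨ k % 6 = 2 ∨ k % 6 = 3 ∨ k % 6 = 4 ∨ k % 6 = 5 := by omega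
      interval_cases n <;> omega
    rcases this with e | e
    · rw [pow_eq_pow_iff_modEq.2 e, pow_one]
    · rw [orderOf_dvd_iff_pow_eq_one, pow_succ] at e
      rw [eq_inv_of_mul_eq_one_left e, irr_conj h.2]
  rw [V_eq hn, hn]

theorem orth {u c : G} (hu : R6 u) (hc : R6 c) :
    ∑ χ, V u χ * V c χ = Nat.card {g : G // g * u * g⁻¹ = c} := by
  have := tsum2 u c
  simp only [hu.val, hc.val, map_intCast] at this
  exact_mod_cast this

theorem orth0 {u c : G} (hu : R6 u) (hc : R6 c) (h : ¬ IsConj u c) : ∑ χ, V u χ * V c χ = 0 := by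
  have : IsEmpty {g : G // g * u * g⁻¹ = c} := ⟨fun g => h (isConj_iff.2 ⟨g, g.2⟩)⟩
  rw [orth hu hc]; simp

theorem orth1 {u : G} (hu : R6 u) :
    ∑ χ, V u χ * V u χ = Nat.card (centralizer ({u} : Set G)) := by
  rw [orth hu hu]
  exact congrArg _ (Nat.card_congr (Equiv.subtypeEquivRight fun g =>
    mul_inv_eq_iff_eq_mul.trans mem_centralizer_singleton_iff.symm))

theorem tri0 {u v c : G} (hu : R6 u) (hv : R6 v) (hc : R6 c)
    (h : ∀ x y, IsConj u x → IsConj v y → x * y ≠ c) :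
    ∑ χ, ((V u χ * V v χ * V c χ : ℤ) : ℚ) / V 1 χ = 0 := by
  have : IsEmpty {p : G × G // p.1 * u * p.1⁻¹ * (p.2 * v * p.2⁻¹) = c} :=
    ⟨fun g => h _ _ (isConj_conj _ _) (isConj_conj _ _) g.2⟩
  have e := tsum3 u v c
  simp only [hu.val, hv.val, hc.val, (R6.of_two (mul_one (1 : G))).val, map_intCast,
    Nat.card_of_isEmpty, Nat.cast_zero, mul_eq_zero, Nat.cast_eq_zero, Nat.card_pos.ne',
    false_or] at e
  exact_mod_cast e

omit [Finite G] in
theorem V_one (χ : IrrCharacter G) : V 1 χ = charDegree χ.1 :=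
  V_eq (by rw [← irr_degree_cast]; simp)

namespace D8

variable {T : Subgroup G} {a b s w : G} (h : D8 T a b s w)
include h

omit [Finite G] in
theorem ra : R6 a := ⟨by rw [show 6 = 3 * 2 from rfl, pow_mul, h.exp a h.ha, one_pow], h.ca⟩

omit [Finite G] in
theorem z2 : w * s * w * s * (w * s * w * s) = 1 := by
  rw [← sq, h.ts.mul_pow, sq, sq, h.t2, h.s2, mul_one]

omit [Finite G] in
theorem ras : R6 (a * s) := by
  refine ⟨h.ord6 ▸ pow_orderOf_eq_one _, isConj_iff.2 ⟨w * s * w, ?_⟩⟩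
  rw [mul_inv_rev a, h.si, ← h.as.inv_left.eq, ← h.ta, mul_assoc _ _ s, h.ts.inv_left.eq]
  simp only [mul_assoc]

theorem loc (χ : IrrCharacter G) :
    (∃ m, 9 * m = V 1 χ + 4 * V a χ + 4 * V (a * b) χ ∧ V (w * s * w * s) χ ≤ m ∧
      -V (w * s * w * s) χ ≤ m ∧
      0 ≤ 9 * m + 6 * V s χ + 12 * V (a * s) χ + 9 * V (w * s * w * s) χ) ∧
    3 ∣ V s χ - V (a * s) χ ∧ 2 ∣ V a χ - V (a * s) χ ∧ 3 ∣ V 1 χ - V a χ := by
  have k := fun {δ ε : ℂˣ} => d33 (isIrr_isChar χ.2) (h.exp a h.ha) h.t2 h.ta (h.exp b h.hb) h.s2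
    h.sb h.ab h.as h.tb h.ts (δ := δ) (ε := ε)
  obtain ⟨n1, k1⟩ := k (δ := 1) (ε := 1) (by simp) (by simp)
  obtain ⟨n2, k2⟩ := k (δ := 1) (ε := -1) (by simp) (by simp)
  obtain ⟨n3, k3⟩ := k (δ := -1) (ε := -1) (by simp) (by simp)
  obtain ⟨n4, k4⟩ := d33 (isIrr_isChar χ.2) (h.exp a h.ha) h.t2 h.ta (one_pow 3) h.s2
    (by simp) (Commute.one_right _) h.as (Commute.one_right _) h.ts (δ := 1) (ε := 1)
    (by simp) (by simp)
  have e1 : χ.1 b = χ.1 a := (irr_conj (isConj_iff.2 ⟨_, h.wa⟩) χ).symm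
  have e2 : χ.1 (w * s * w) = χ.1 s := (irr_conj (isConj_iff.2 ⟨w, by rw [h.wi]⟩) χ).symm
  have e3 : χ.1 (w * s * w * b) = χ.1 (a * s) := (irr_conj (isConj_iff.2 ⟨w, by
    rw [h.tb.eq, ← h.wa, h.wi, mul_assoc w s, ← mul_assoc _ w, mul_assoc _ w w, h.w2]
    simp only [mul_assoc, mul_one]⟩) χ).symm
  simp only [mul_one, e1, e2, e3, h.ra.val, h.symm.ra.val, h.ras.val, (R6.of_two h.s2).val,
    (R6.of_two h.z2).val, (R6.of_two (mul_one (1 : G))).val, Units.val_one, Units.val_neg,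
    mul_neg] at k1 k2 k3 k4
  norm_cast at k1 k2 k3 k4
  refine ⟨⟨4 * n2 + V (w * s * w * s) χ, ?_, ?_, ?_, ?_⟩, ?_, ?_, ?_⟩ <;> omega

theorem van {χ : IrrCharacter G} (h3 : 3 ∣ V 1 χ) : V a χ = 0 ∧ V (a * s) χ = 0 := by
  rw [V_one] at h3
  have o : ∃ k, orderOf a = 3 ^ k := ⟨1, orderOf_eq_prime (p := 3) (h.exp a h.ha) h.a1⟩
  have k : ∀ g, IsPPart 3 g a → V g χ = 0 := fun g hg => V_eq (by
    by_contra h0
    exact vanish h.tl h.cent h.card h.ha h.a1 hg (by simpa using h0) (by exact_mod_cast h3))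
  exact ⟨k _ (isPPart_self Nat.prime_three o),
    k _ (isPPart_mul h.as o (by rw [two_of_mul_self h.s1 h.s2]; norm_num))⟩

theorem linear : ∃ χ : IrrCharacter G, χ.1 1 = 1 ∧ ∃ g, χ.1 g = -1 := by
  have h' := h.symm
  have o1 : orderOf a = 3 := orderOf_eq_prime (h.exp a h.ha) h.a1
  have o2 : orderOf (a * b) = 3 := orderOf_eq_prime (h.exp _ h'.ha) h'.a1
  have o3 := h.ord6
  have o4 := h'.ord6
  have r1 : R6 (1 : G) := R6.of_two (mul_one 1)
  have nc : ∀ {x y : G}, orderOf x ≠ orderOf y → ¬ IsConj x y := fun e c =>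
    e (orderOf_of_isConj c)
  have ez : s * w * s * w = w * s * w * s := h.sw.symm
  have ca : IsConj (a * b * (a * b⁻¹)) a := by
    rw [mul_assoc, ← mul_assoc b, ← h.ab.eq, mul_assoc a b, mul_inv_cancel, mul_one,
      eq_inv_of_mul_eq_one_left (a := a * a) (pow_three' a ▸ h.exp a h.ha)]
    exact h.ca.symm
  have va : ∀ χ, V (a * b * (a * b⁻¹)) χ = V a χ := fun χ => by rw [V, V, irr_conj ca]
  obtain ⟨χ, h1, h2⟩ := endgame (V a) (V (a * s)) (V (a * b)) (V (a * b * w)) (V 1)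
    (V (w * s * w * s)) (V s) (V w)
    (fun χ => by
      have l1 := (h.loc χ).2.2.2
      have l2 := (h'.loc χ).2.2.2
      by_cases h3 : 3 ∣ V 1 χ
      · exact Or.inl ⟨(h.van h3).1, (h.van h3).2, (h'.van h3).1, (h'.van h3).2⟩
      · omega)
    (fun χ => (h.loc χ).2.2.1) (fun χ => (h'.loc χ).2.2.1)
    (by rw [orth1 h.ra, h.cardCa.1]; rfl) (by rw [orth1 h.ras, h.cardCas]; rfl)
    (orth0 h.ra h.ras (nc (by omega)))
    (by rw [orth1 h'.ra, h'.cardCa.1]; rfl) (by rw [orth1 h'.ras, h'.cardCas]; rfl)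
    (orth0 h'.ra h'.ras (nc (by omega))) (orth0 h.ra h'.ra h.cardCa.2)
    (orth0 h.ra h'.ras (nc (by omega))) (orth0 h.ras h'.ra (nc (by omega)))
    (orth0 h.ras h'.ras fun c => h.cardCa.2 (by
      obtain ⟨g, hg⟩ := isConj_iff.1 c
      refine isConj_iff.2 ⟨g, inv_injective ?_⟩
      rw [conj_inv, ← h.as2, ← h'.as2, ← hg]; group))
    (orth0 h.ra r1 (nc (by rw [orderOf_one]; omega)))
    (orth0 h.ras r1 (nc (by rw [orderOf_one]; omega)))
    (orth0 h'.ra r1 (nc (by rw [orderOf_one]; omega)))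
    (orth0 h'.ras r1 (nc (by rw [orderOf_one]; omega)))
    (fun χ => by rw [V_one]; exact_mod_cast Nat.pos_of_ne_zero (irr_degree_ne_zero χ))
    (fun χ => by
      obtain ⟨m, k⟩ := (h.loc χ).1
      obtain ⟨m', k'⟩ := (h'.loc χ).1
      rw [va, ez] at k'
      exact ⟨m, by omega⟩)
    (fun χ => (h.loc χ).2.1) (fun χ => (h'.loc χ).2.1)
    (by
      by_cases c : IsConj s (w * s * w * s)
      · exact Or.inl fun χ => by rw [V, V, irr_conj c]
      · exact Or.inr (tri0 (R6.of_two h.z2) h'.ra h.ras fun x y hx hy e => c ((h.zero (by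
          obtain ⟨g, rfl⟩ := isConj_iff.1 hx
          rw [conj_mul, h.z2]; simp) hy e).trans hx.symm)))
    (by
      by_cases c : IsConj w (w * s * w * s)
      · exact Or.inl fun χ => by rw [V, V, irr_conj c]
      · exact Or.inr (tri0 (R6.of_two h.z2) h.ra h'.ras fun x y hx hy e => c ((h'.zero (by
          obtain ⟨g, rfl⟩ := isConj_iff.1 hx
          rw [conj_mul, h.z2]; simp) (ca.trans hy) e).trans hx.symm)))
    (o := oneIrr G) (V_eq (by simp [coe_oneIrr])) (V_eq (by simp [coe_oneIrr]))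
    (V_eq (by simp [coe_oneIrr])) (V_eq (by simp [coe_oneIrr])) (V_eq (by simp [coe_oneIrr]))
    (V_eq (by simp [coe_oneIrr]))
  refine ⟨χ, by rw [r1.val, h1]; simp, ?_⟩
  rcases h2 with e | e
  · exact ⟨_, by rw [h.ras.val, e]; simp⟩
  · exact ⟨_, by rw [h'.ras.val, e]; simp⟩

theorem index_two : ∃ K : Subgroup G, K.index = 2 := by
  obtain ⟨χ, h1, g, hg⟩ := h.linear
  obtain ⟨l, hl⟩ := isChar_linear_of_degree_one (isIrr_isChar χ.2) h1
  have e : l g = -1 := Units.ext (by rw [hl] at hg; simpa using hg)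
  haveI : Finite l.range := Finite.of_surjective _ l.rangeRestrict_surjective
  obtain ⟨⟨_, x, rfl⟩, hx⟩ := IsCyclic.exists_generator (α := l.range)
  have n1 : (-1 : ℂˣ) ≠ 1 := fun e => by
    have := congrArg Units.val e
    norm_num at this
  obtain ⟨k, hk⟩ : 2 ∣ orderOf (l x) := by
    obtain ⟨i, hi⟩ := hx ⟨_, g, rfl⟩
    have : l x ^ i = -1 := e ▸ congrArg Subtype.val hi
    have h2 := orderOf_dvd_of_mem_zpowers (mem_zpowers_iff.2 ⟨i, this⟩)
    rwa [two_of_mul_self n1 (by simp)] at h2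
  have k0 : 0 < orderOf (l x) := (l.isOfFinOrder (isOfFinOrder_of_finite x)).orderOf_pos
  have p : ∀ y, l y ^ k = 1 ∨ l y ^ k = -1 := fun y => by
    obtain ⟨i, hi⟩ := hx ⟨_, y, rfl⟩
    have : l x ^ i = l y := congrArg Subtype.val hi
    have h2 := orderOf_dvd_of_mem_zpowers (mem_zpowers_iff.2 ⟨i, this⟩)
    rw [orderOf_dvd_iff_pow_eq_one, hk, mul_comm, pow_mul, sq] at h2
    have h3 : ((l y ^ k : ℂˣ) : ℂ) * (l y ^ k : ℂˣ) = 1 := by rw [← Units.val_mul, h2, Units.val_one]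
    exact (mul_self_eq_one_iff.1 h3).imp (fun e => Units.ext e) fun e => Units.ext e
  have px : l x ^ k = -1 := (p x).resolve_left (pow_ne_one_of_lt_orderOf (by omega) (by omega))
  refine ⟨((powMonoidHom k).comp l).ker, index_eq_two_iff.2 ⟨x, fun y => ?_⟩⟩
  simp only [MonoidHom.mem_ker, MonoidHom.comp_apply, powMonoidHom_apply, map_mul, px]
  rcases p y with e | e <;> simp [e, n1]

end D8

end Cfsg.Agent.D9
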