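import Mathlib
import Cfsg.Agent.Inv.D9c
import Cfsg.Agent.PGrp.Aut

/-! Finding generators of the automizer of a Sylow 3-subgroup of order nine. -/

set_option autoImplicit false

namespace Cfsg.Agent.D9

open Subgroup Cfsg.Agent.LocalEven Cfsg.Agent.FGS Cfsg.Agent.Inv

variable {G : Type*} [Group G] {T : Subgroup G}

theorem notMem_of_two (hexp : ∀ x ∈ T, x ^ 3 = 1) {s : G} (h2 : s * s = 1) (h1 : s ≠ 1) : s ∉ T :=
  fun e => h1 (by simpa [pow_three', h2] using hexp s e)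

theorem split (h : TL T) (hC : centralizer (T : Set G) ≤ T) {s : G}
    (hs : s ∈ normalizer (T : Set G)) (h2 : s * s ∈ T) (h1 : s ∉ T)
    (hn : ¬ ∀ x ∈ T, s * x * s⁻¹ = x⁻¹) : (∃ a ∈ T, a ≠ 1 ∧ s * a * s⁻¹ = a) ∧
      ∃ b ∈ T, b ≠ 1 ∧ s * b * s⁻¹ = b⁻¹ := by
  have k : ∀ x ∈ T, s * (s * x * s⁻¹) * s⁻¹ = x := fun x hx => by
    calc _ = s * s * x * (s * s)⁻¹ := by group
      _ = x := by rw [← h.ab h2 x hx]; group
  have m : ∀ x ∈ T, s * x * s⁻¹ ∈ T := fun x hx => (mem_normalizer_iff.1 hs x).1 hx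
  push Not at hn
  obtain ⟨x, hx, hx'⟩ := hn
  have : ¬ ∀ y ∈ T, y * s = s * y := fun e => h1 (hC e)
  push Not at this
  obtain ⟨y, hy, hy'⟩ := this
  refine ⟨⟨x * (s * x * s⁻¹), mul_mem hx (m x hx), fun e => hx' (eq_inv_of_mul_eq_one_right e), ?_⟩,
    y * (s * y * s⁻¹)⁻¹, mul_mem hy (inv_mem (m y hy)), fun e => hy' ?_, ?_⟩
  · rw [← conj_mul, k x hx, h.ab hx _ (m x hx)]
  · rw [mul_inv_eq_one] at e
    exact (mul_inv_eq_iff_eq_mul.1 e.symm).symm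
  · rw [← conj_mul, ← conj_inv, k y hy]; group

theorem mem3 {a x : G} (a3 : a ^ 3 = 1) (hx : x ∈ zpowers a) : x = 1 ∨ x = a ∨ x = a⁻¹ := by
  obtain ⟨i, rfl⟩ := mem_zpowers_iff.1 hx
  have e : a ^ i = a ^ (i % 3) := by
    rw [← Int.mul_ediv_add_emod i 3, zpow_add, zpow_mul, zpow_ofNat, a3]; simp
  have : i % 3 = 0 ∨ i % 3 = 1 ∨ i % 3 = 2 := by omega
  rcases this with h | h | h <;> rw [e, h]
  · simp
  · simp
  · refine Or.inr (Or.inr ?_)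
    rw [eq_inv_iff_mul_eq_one, zpow_ofNat, ← pow_succ, a3]

variable [Finite G]

/-- An element of `T` inverted by `s` lies in the group generated by another one. -/
theorem inv_mem3 (h : TL T) (h9 : Nat.card T = 9) (hexp : ∀ x ∈ T, x ^ 3 = 1) {s a b x : G}
    (ha : a ∈ T) (a1 : a ≠ 1) (sa : s * a * s⁻¹ = a) (hb : b ∈ T) (b1 : b ≠ 1)
    (sb : s * b * s⁻¹ = b⁻¹) (hx : x ∈ T) (sx : s * x * s⁻¹ = x⁻¹) : x = 1 ∨ x = b ∨ x = b⁻¹ := by
  let H : Subgroup G := ⟨⟨⟨{y | y ∈ T ∧ s * y * s⁻¹ = y⁻¹}, fun {y z} hy hz => ⟨mul_mem hy.1 hz.1, by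
    rw [← conj_mul, hy.2, hz.2, ← mul_inv_rev, h.ab hy.1 z hz.1]⟩⟩, one_mem _, by simp⟩,
    fun {y} hy => ⟨inv_mem hy.1, by rw [← conj_inv, hy.2]⟩⟩
  exact mem3 (hexp b hb) ((sub3 (H := H) h9 (fun y hy => hy.1) ha (fun e =>
    ne_inv3 (hexp a ha) a1 (e.2.symm.trans sa)) ⟨hb, sb⟩ (hexp b hb) b1).le ⟨hx, sx⟩)

theorem fix_mem3 (h9 : Nat.card T = 9) (hexp : ∀ x ∈ T, x ^ 3 = 1) {s a b x : G}
    (ha : a ∈ T) (a1 : a ≠ 1) (sa : s * a * s⁻¹ = a) (hb : b ∈ T) (b1 : b ≠ 1)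
    (sb : s * b * s⁻¹ = b⁻¹) (hx : x ∈ T) (sx : s * x * s⁻¹ = x) : x = 1 ∨ x = a ∨ x = a⁻¹ := by
  have k : ∀ y, y ∈ centralizer ({s} : Set G) ↔ s * y * s⁻¹ = y := fun y => by
    rw [mem_centralizer_singleton_iff, mul_inv_eq_iff_eq_mul, eq_comm]
  exact mem3 (hexp a ha) ((sub3 h9 (inf_le_left (b := centralizer ({s} : Set G))) hb (fun e =>
    ne_inv3 (hexp b hb) b1 (sb.symm.trans ((k b).1 e.2))) ⟨ha, (k a).2 sa⟩ (hexp a ha) a1).le
    ⟨hx, (k x).2 sx⟩)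

theorem mkD8 (h : TL T) (h9 : Nat.card T = 9) (hexp : ∀ x ∈ T, x ^ 3 = 1)
    (hC : centralizer (T : Set G) ≤ T) (h72 : Nat.card (normalizer (T : Set G)) = 72)
    (f : DihedralGroup 4 →* G) (hf : Function.Injective f)
    (hN : ∀ x, f x ∈ normalizer (T : Set G)) : ∃ a b s w, D8 T a b s w := by
  have n1 : ∀ x, x ≠ 1 → f x ≠ 1 := fun x hx e => hx (hf (e.trans f.map_one.symm))
  have n2 : ∀ x, x * x = 1 → f x * f x = 1 := fun x hx => by rw [← map_mul, hx, map_one]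
  have nT : ∀ x, x ≠ 1 → x * x = 1 → f x ∉ T := fun x h1 h2 => notMem_of_two hexp (n2 x h2) (n1 x h1)
  have hz : ∀ x ∈ T, f (.r 2) * x * (f (.r 2))⁻¹ = x⁻¹ := by
    by_contra hn
    obtain ⟨⟨a, ha, a1, sa⟩, b, hb, b1, sb⟩ := split h hC (hN _)
      (n2 (.r 2) (by decide) ▸ one_mem T) (nT _ (by decide) (by decide)) hn
    have e : f (.r 2) = f (.r 1) * f (.r 1) := by rw [← map_mul]; rfl
    generalize f (.r 2) = z at *
    have m := (mem_normalizer_iff.1 (hN (.r 1)) b).1 hb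
    generalize f (.r 1) = r at *
    have e2 : z * (r * b * r⁻¹) * z⁻¹ = (r * b * r⁻¹)⁻¹ := by
      rw [conj_inv, ← sb, e]; group
    have e3 : z * b * z⁻¹ = r * (r * b * r⁻¹) * r⁻¹ := by rw [e]; group
    rcases inv_mem3 h h9 hexp ha a1 sa hb b1 sb m e2 with k | k | k
    · exact b1 (conj_eq_one_iff.1 k)
    · rw [k, k, sb] at e3; exact ne_inv3 (hexp b hb) b1 e3
    · rw [k, ← conj_inv, k, sb, inv_inv] at e3; exact ne_inv3 (hexp b hb) b1 e3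
  obtain ⟨⟨a, ha, a1, sa⟩, -⟩ := split h hC (hN (.sr 0)) (n2 (.sr 0) (by decide) ▸ one_mem T)
    (nT _ (by decide) (by decide)) fun hs => nT (.sr 0 * .r 2) (by decide) (by decide)
      (hC fun x hx => by
        rw [map_mul, eq_comm, ← mul_inv_eq_iff_eq_mul, mul_inv_rev, mul_assoc (f _), mul_assoc,
          ← mul_assoc _ _ (f (.sr 0))⁻¹, hz x hx, ← mul_assoc, hs _ (inv_mem hx), inv_inv])
  have m := (mem_normalizer_iff.1 (hN (.sr 1)) a).1 ha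
  refine ⟨a, _, f (.sr 0), f (.sr 1), h, h9, hexp, hC, h72, ha, m, a1, n2 _ (by decide),
    n2 _ (by decide), sa, ?_, rfl, by simp only [← map_mul]; congr 1⟩
  have e : f (.sr 0) * f (.sr 1) = f (.r 2) * f (.sr 1) * f (.sr 0) := by
    simp only [← map_mul]; congr 1
  rw [← hz _ m]
  calc _ = f (.sr 0) * f (.sr 1) * a * (f (.sr 0) * f (.sr 1))⁻¹ := by group
    _ = f (.r 2) * (f (.sr 1) * (f (.sr 0) * a * (f (.sr 0))⁻¹) * (f (.sr 1))⁻¹) * (f (.r 2))⁻¹ := by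
      rw [e]; group
    _ = _ := by rw [sa]

omit [Finite G] in
theorem comm9 (h9 : Nat.card T = 9) : T ≤ centralizer (T : Set G) := by
  have : IsMulCommutative T := IsPGroup.isMulCommutative_of_card_eq_prime_sq (p := 3) h9
  exact T.le_centralizer

end Cfsg.Agent.D9
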