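import Mathlib
import Cfsg.Agent.S0516
import Cfsg.Agent.S0496
import Cfsg.Agent.S0494
import Cfsg.Agent.Ab2.Main
import Cfsg.Agent.GW.Main
import Cfsg.Agent.GW.Cor
import Cfsg.Agent.BG.Rank
import Cfsg.Agent.FGS.Solv
import Cfsg.Agent.FGS.Camina
import Cfsg.Agent.Classical.SmallRecog
import Cfsg.Agent.Classical.SmallFields

/-! Simple groups with Sylow 2-subgroups of order 8 and small order. -/

set_option autoImplicit false

namespace Cfsg.Agent.Inv

open Cfsg Subgroup
open scoped MatrixGroups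

universe u

theorem solvable_of_card_dvd {n : ℕ} (h0 : 0 < n) (h : n < 1092) (h1 : ¬ 60 ∣ n) (h2 : ¬ 168 ∣ n)
    (G : Type u) [Group G] [Finite G] (hG : Nat.card G ∣ n) : Group.IsSolvable G := by
  refine FGS.solvable_of_simple (P := fun G _ => Nat.card G ∣ n)
    (fun G _ _ N _ h => (card_subgroup_dvd_card N).trans h)
    (fun G _ _ N _ h => (card_quotient_dvd_card N).trans h) (fun G _ _ _ hG => ?_) G hG
  by_contra hs
  have := Nat.le_of_dvd h0 hG
  rcases S0496.result (G := G) (fun e => hs (IsSimpleGroup.comm_iff_isSolvable.1 e.is_comm.comm)) (by omega)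
    with e | e | e | e | e | e <;> rw [e] at hG <;> omega

variable {G : Type u} [Group G] [Finite G]

theorem solvable_cent {t : G} (ht : orderOf t = 2) {n : ℕ} (h0 : 0 < n) (h : n < 1092) (h1 : ¬ 60 ∣ n)
    (h2 : ¬ 168 ∣ n) (hc : Nat.card (centralizer ({t} : Set G)) ∣ 2 * n) :
    Group.IsSolvable (centralizer ({t} : Set G)) := by
  let t' : centralizer ({t} : Set G) := ⟨t, mem_centralizer_singleton_iff.2 rfl⟩
  have : (zpowers t').Normal := PGrp.normal_of_le_center (zpowers_le.2 (mem_center_iff.2 fun x =>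
    Subtype.ext (mem_centralizer_singleton_iff.1 x.2)))
  have e := card_eq_card_quotient_mul_card_subgroup (zpowers t')
  rw [Nat.card_zpowers, ← orderOf_coe, ht] at e
  have := solvable_of_card_dvd h0 h h1 h2 (_ ⧸ zpowers t') (by
    rw [e, mul_comm] at hc; exact Nat.dvd_of_mul_dvd_mul_left two_pos hc)
  exact Group.isSolvable_of_ker_le_range (zpowers t').subtype (QuotientGroup.mk' (zpowers t')) (by simp)

theorem eight_cases [IsSimpleGroup G] (hG : ¬ IsMulCommutative G) (S : Sylow 2 G) (h8 : Nat.card S = 8) :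
    GW.DihSyl G ∨ IsElementaryAbelian 2 (S : Subgroup G) := by
  have : Fact (Nat.Prime 2) := ⟨Nat.prime_two⟩
  by_cases h2 : PRankLE 2 2 G
  · left
    obtain ⟨P⟩ : Nonempty (Sylow 2 (PSU 3 (GaloisField 2 4) 4)) := inferInstance
    let := Fintype.ofFinite (GaloisField 2 4)
    have hF : Fintype.card (GaloisField 2 4) = 16 := by
      rw [← Nat.card_eq_fintype_card, GaloisField.card 2 4 (by norm_num)]; norm_num
    rcases S0516.result hG h2 S hF P with ⟨m, hm, ⟨e⟩⟩ | ⟨n, hn, h, -⟩ | ⟨n, hn, h, -⟩ | ⟨⟨e⟩⟩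
    · exact GW.dihSyl_of_equiv S hm e
    · have := Nat.pow_le_pow_right two_pos (show 4 ≤ n + 1 by omega)
      omega
    · have := Nat.pow_le_pow_right two_pos (show 5 ≤ 2 * n + 1 by omega)
      omega
    · obtain ⟨e'⟩ := psu34_equiv hF P
      rw [Nat.card_congr (e.trans e').toEquiv, Nat.card_eq_fintype_card] at h8
      exact absurd h8 (by decide +kernel)
  · obtain ⟨A, h1, h3, h4⟩ := BG.Rank.not_pRankLE_iff.1 (mt (BG.Rank.pRankLE_sylow_iff S).1 h2)
    rw [← eq_of_le_of_card_ge h1 (by rw [h4, h8]; norm_num)]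
    exact .inr h3

theorem eight_known [IsSimpleGroup G] (hG : ¬ IsMulCommutative G) (S : Sylow 2 G) (h8 : Nat.card S = 8)
    (hC : IsElementaryAbelian 2 (S : Subgroup G) → ∀ t : G, orderOf t = 2 →
      Group.IsSolvable (centralizer ({t} : Set G))) :
    (∃ (F : Type) (_ : Field F) (_ : Fintype F), Nonempty (G ≃* PSL(2, F)) ∧
      (Nat.card G = Fintype.card F * (Fintype.card F ^ 2 - 1) ∨
        2 * Nat.card G = Fintype.card F * (Fintype.card F ^ 2 - 1))) ∨ Nonempty (G ≃* alternatingGroup (Fin 7)) := by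
  have key : ∀ (F : Type) [Field F] [Fintype F], (G ≃* PSL(2, F)) →
      (Nat.card G = Fintype.card F * (Fintype.card F ^ 2 - 1) ∨
        2 * Nat.card G = Fintype.card F * (Fintype.card F ^ 2 - 1)) := fun F _ _ e => by
    have := Classical.SLBasic.card_PSL_two (F := F)
    rw [← Nat.card_congr e.toEquiv, Nat.card_eq_fintype_card (α := F)] at this
    rcases (Nat.dvd_prime Nat.prime_two).1 (Nat.gcd_dvd_left 2 (Fintype.card F - 1)) with h | h <;>
      rw [h] at this
    · exact .inl (by rw [← this, one_mul])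
    · exact .inr this
  rcases eight_cases hG S h8 with h | h
  · rcases GW.known hG h with ⟨F, _, _, -, -, ⟨e⟩⟩ | h
    · exact .inl ⟨F, _, _, ⟨e⟩, key F e⟩
    · exact .inr h
  · obtain ⟨F, _, _, -, ⟨e⟩⟩ := Ab2.simple_case hG S h.1 (hC h)
    exact .inl ⟨F, _, _, ⟨e⟩, key F e⟩

theorem card_sylow_eight (S : Sylow 2 G) {m : ℕ} (h : Nat.card G = 8 * m) (hm : Odd m) : Nat.card S = 8 := by
  have : Fact (Nat.Prime 2) := ⟨Nat.prime_two⟩
  rw [S.card_eq_multiplicity, h, Nat.factorization_mul (by norm_num) hm.pos.ne', Finsupp.add_apply,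
    Nat.factorization_eq_zero_of_not_dvd (Odd.not_two_dvd_nat hm), show 8 = 2 ^ 3 by norm_num,
    Nat.prime_two.factorization_pow]
  simp

theorem cube_eq {q n : ℕ} (h : n = q * (q ^ 2 - 1)) (hn : n ≤ 6000) : q ≤ 18 := by
  by_contra hq
  have : 19 * (19 ^ 2 - 1) ≤ q * (q ^ 2 - 1) :=
    Nat.mul_le_mul (by omega) (Nat.sub_le_sub_right (Nat.pow_le_pow_left (by omega) 2) 1)
  omega

/-- an elementary abelian Sylow subgroup of order 8 of a simple group is fused -/
theorem one_class_eight [IsSimpleGroup G] (hG : ¬ IsMulCommutative G) (S : Sylow 2 G) (h8 : Nat.card S = 8)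
    (hS : IsMulCommutative (S : Subgroup G)) {s t : G} (hs : s ∈ (S : Subgroup G)) (ht : t ∈ (S : Subgroup G))
    (s1 : s ≠ 1) (t1 : t ≠ 1) : IsConj s t := by
  have : Fact (Nat.Prime 2) := ⟨Nat.prime_two⟩
  let N := normalizer ((S : Subgroup G) : Set G)
  let O : G → Set G := fun u => {w | ∃ c ∈ N, c * u * c⁻¹ = w}
  have hcom : commutator G = ⊤ := (inferInstance : (commutator G).Normal).eq_bot_or_eq_top.resolve_left
    fun e => hG ⟨⟨fun a b => commutatorElement_eq_one_iff_mul_comm.1 (mem_bot.1 (e.le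
      (commutator_mem_commutator (mem_top a) (mem_top b))))⟩⟩
  have h1 : ∀ u ∈ (S : Subgroup G), u ≠ 1 → 3 ≤ (O u).ncard ∧ Odd (O u).ncard ∧
      O u ⊆ ((S : Subgroup G) : Set G) \ {1} := fun u hu u1 => by
    have e : (O u).ncard = _ := FGS.ncard_conj_orbit N u
    have h2 : ¬ 2 ∣ (O u).ncard := e ▸ (LocalEven.isSylowIn_of_sylow_le S le_normalizer).not_dvd_of_le
      fun x hx => mem_centralizer_singleton_iff.2 (congrArg Subtype.val (hS.is_comm.comm ⟨x, hx⟩ ⟨u, hu⟩))
    have h3 : (O u).ncard ≠ 1 := fun h => u1 (mem_bot.1 ((Transfer.fitting_decomposition_sylow S).1.le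
      ⟨⟨hu, Transfer.commutator_le_pResidual_of_abelian S (hcom ▸ mem_top u)⟩, hu, fun x hx =>
        mem_centralizer_singleton_iff.1 (relIndex_eq_one.1 (e ▸ h) hx)⟩))
    refine ⟨by omega, Nat.odd_iff.2 (by omega), ?_⟩
    rintro _ ⟨c, hc, rfl⟩
    exact ⟨LocalEven.conj_mem_of_mem_normalizer hc hu, by simpa using u1⟩
  have h2 : ∀ u v, v ∉ O u → Disjoint (O u) (O v) := fun u v h => Set.disjoint_left.2 (by
    rintro _ ⟨c, hc, rfl⟩ ⟨d, hd, e⟩
    exact h ⟨d⁻¹ * c, mul_mem (inv_mem hd) hc, by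
      rw [show d⁻¹ * c * u * (d⁻¹ * c)⁻¹ = d⁻¹ * (c * u * c⁻¹) * d by group, ← e]; group⟩)
  have h7 : (((S : Subgroup G) : Set G) \ {1}).ncard = 7 := by
    rw [Set.ncard_sdiff_singleton_of_mem (one_mem (S : Subgroup G)), ← Nat.card_coe_set_eq]
    exact congrArg (· - 1) h8
  by_contra hst
  have h3 : t ∉ O s := fun ⟨c, _, e⟩ => hst (isConj_iff.2 ⟨c, e⟩)
  obtain ⟨a1, a2, a3⟩ := h1 s hs s1
  obtain ⟨b1, b2, b3⟩ := h1 t ht t1
  have h4 := Set.ncard_union_eq (h2 s t h3)
  obtain ⟨u, hu, h5⟩ := Set.exists_mem_notMem_of_ncard_lt_ncard (s := O s ∪ O t)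
    (t := ((S : Subgroup G) : Set G) \ {1}) (by
      have := Set.ncard_le_ncard (Set.union_subset a3 b3)
      obtain ⟨_, _⟩ := a2
      obtain ⟨_, _⟩ := b2
      omega)
  obtain ⟨c1, -, c3⟩ := h1 u hu.1 hu.2
  have := Set.ncard_le_ncard (Set.union_subset (Set.union_subset a3 b3) c3)
  rw [Set.ncard_union_eq (Set.disjoint_union_left.2 ⟨h2 s u fun h => h5 (.inl h), h2 t u fun h => h5 (.inr h)⟩)]
    at this
  omega

end Cfsg.Agent.Inv
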