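import Mathlib
import Cfsg.Agent.Inv.D9d
import Cfsg.Agent.Core.CoprimeGen
import Cfsg.Agent.FGS.SylowNum
import Cfsg.Agent.S3341
import Cfsg.Agent.Spec.Sym

/-! Groups whose Sylow 3-subgroup is a self-centralizing TI subgroup of order nine with a
normalizer of order 36 having two unfused sets of four elements. -/

set_option autoImplicit false

namespace Cfsg.Agent.D9

open Subgroup Cfsg.Agent.LocalEven Cfsg.Agent.FGS Cfsg.Agent.Inv

variable {G : Type*} [Group G] {T : Subgroup G}

/-- A self-centralizing elementary abelian TI Sylow 3-subgroup of order nine. -/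
structure SC9 (T : Subgroup G) : Prop where
  tl : TL T
  card : Nat.card T = 9
  exp : ∀ x ∈ T, x ^ 3 = 1
  cent : centralizer (T : Set G) ≤ T

theorem tl_sub (h : TL T) {K : Subgroup G} (hK : T ≤ K) : TL (T.subgroupOf K) := by
  refine ⟨by simpa using (h.syl.mono hK le_top).subgroupOf le_rfl,
    fun x hx y hy => Subtype.ext (h.ab hx y hy), fun t ht h1 x hx => ?_⟩
  rw [← subgroupOf_normalizer_eq hK, mem_subgroupOf]
  exact h.loc t ht (fun e => h1 (Subtype.ext e)) (mem_centralizer_singleton_iff.2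
    (congrArg Subtype.val (mem_centralizer_singleton_iff.1 hx)))

theorem SC9.sub (h : SC9 T) {K : Subgroup G} (hK : T ≤ K) : SC9 (T.subgroupOf K) :=
  ⟨tl_sub h.tl hK, by rw [Nat.card_congr (subgroupOfEquivOfLe hK).toEquiv, h.card],
    fun x hx => Subtype.ext (h.exp x hx),
    fun x hx => h.cent fun y hy => congrArg Subtype.val (hx ⟨y, hK hy⟩ hy)⟩

variable [Finite G]

theorem index_dvd {L H : Subgroup G} [L.Normal] (h : L ⊔ H = ⊤) :
    H.index * Nat.card (L ⊓ H : Subgroup G) = Nat.card L := by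
  have e := Core.card_sup_mul_card_inf (N := L) (H := H) le_normalizer_of_normal
  rw [h, card_top, ← H.card_mul_index, mul_assoc, mul_comm (Nat.card L)] at e
  exact Nat.eq_of_mul_eq_mul_left Nat.card_pos e

theorem SC9.three_dvd (h : SC9 T) {L : Subgroup G} [hL : L.Normal] (h1 : L ≠ ⊥) :
    3 ∣ Nat.card L := by
  by_contra h3
  have hd : T ⊓ L = ⊥ := eq_bot_of_not_dvd (h.tl.syl.pgrp.to_inf_left) inf_le_right h3
  have hN : L ≤ normalizer (T : Set G) := Core.le_of_centralizers
    ⟨⟨fun x y => Subtype.ext (h.tl.ab y.2 x x.2)⟩⟩ (fun hc => by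
      obtain ⟨x, hx⟩ := IsCyclic.exists_ofOrder_eq_natCard (α := T)
      have := orderOf_dvd_of_pow_eq_one (show x ^ 3 = 1 from Subtype.ext (h.exp x x.2))
      rw [hx, h.card] at this
      omega) le_normalizer_of_normal
    (by rw [h.card]; exact (Nat.prime_three.coprime_iff_not_dvd.2 h3).pow_left 2)
    fun a ha a1 => inf_le_right.trans (h.tl.loc a ha a1)
  refine h1 (eq_bot_iff.2 fun x hx => hd.le ⟨h.cent fun y hy => ?_, hx⟩)
  have : x * y * x⁻¹ * y⁻¹ ∈ T ⊓ L := mem_inf.2
    ⟨mul_mem ((mem_normalizer_iff.1 (hN hx) y).1 hy) (inv_mem hy),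
    by simpa [mul_assoc] using mul_mem hx (hL.conj_mem _ (inv_mem hx) y)⟩
  rw [hd, mem_bot, mul_inv_eq_one, mul_inv_eq_iff_eq_mul] at this
  exact this.symm

theorem SC9.sup (h : SC9 T) {L : Subgroup G} [L.Normal] (h1 : L ≠ ⊥) :
    L ⊔ normalizer (T : Set G) = ⊤ := by
  have s := h.tl.syl.inf_of_le_normalizer (N := L) le_top le_normalizer_of_normal
  obtain ⟨⟨x, hx⟩, x1⟩ := ne_bot_iff_exists_ne_one.1 (s.ne_bot (h.three_dvd h1))
  refine eq_top_iff.2 ((s.frattini_sup le_top le_normalizer_of_normal).ge.trans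
    (sup_le_sup_left (fun g hg => ?_) _))
  exact h.tl.ti hx.1 (fun e => x1 (Subtype.ext e)) ((mem_normalizer_iff.1 hg.2 x).1 hx).1

theorem SC9.dvd180 (h : SC9 T) (h36 : Nat.card (normalizer (T : Set G)) ∣ 36)
    (h10 : (normalizer (T : Set G)).index = 10) {L : Subgroup G} [L.Normal] (h1 : L ≠ ⊥) :
    180 ∣ Nat.card L := by
  haveI : Fact (Nat.Prime 5) := ⟨Nat.prime_five⟩
  have hG := (normalizer (T : Set G)).card_mul_index
  have h9 : 9 ∣ Nat.card (normalizer (T : Set G)) := h.card ▸ card_dvd_of_le le_normalizer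
  have e1 := index_dvd (h.sup h1)
  rw [h10] at e1 hG
  have n5 : ¬ 5 ∣ Nat.card (normalizer (T : Set G)) := fun d => by
    have := d.trans h36
    omega
  obtain ⟨x, hx, x5⟩ := exists_mem_orderOf_eq (p := 5) (H := L) (by omega)
  have c5 : Nat.card (zpowers x) = 5 := by rw [Nat.card_zpowers, x5]
  have p5 : IsPGroup 5 (zpowers x) := IsPGroup.of_card (n := 1) c5
  have s : IsSylowIn 5 (zpowers x) ⊤ := isSylowIn_of_not_dvd le_top p5 (by
    have := (zpowers x).card_mul_index
    rw [relIndex_top_right]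
    rw [c5] at this
    omega)
  have e2 := index_dvd (L := L) (H := normalizer (zpowers x : Set G)) (by
    simpa using (s.mono (zpowers_le.2 hx) le_top).frattini_sup le_top le_normalizer_of_normal)
  obtain ⟨P, hP⟩ := s.exists_sylow_top
  have m5 := card_sylow_modEq_one 5 G
  rw [show Nat.card (Sylow 5 G) = (normalizer ((P : Subgroup G) : Set G)).index from
    P.card_eq_index_normalizer, hP, Nat.ModEq] at m5
  have e3 := (normalizer (zpowers x : Set G)).card_mul_index
  have n3 : ¬ 3 ∣ Nat.card (normalizer (zpowers x : Set G)) := fun d => by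
    have d4 := relIndex_centralizer_normalizer_dvd (zpowers x)
    rw [card_mulAut_of_prime (by rw [c5]; norm_num), c5] at d4
    rw [← Perm.card_centralizer_mul_relIndex] at d
    obtain ⟨y, hy, y3⟩ := exists_mem_orderOf_eq (((Nat.Prime.dvd_mul Nat.prime_three).1
      d).resolve_right fun e => by have := e.trans d4; omega)
    obtain ⟨g, -, hg⟩ := h.tl.syl.exists_conj_mem (mem_top y) (k := 1)
      (by rw [pow_one, ← y3, pow_orderOf_eq_one])
    refine n5 (dvd_card_of_mem (x := g * x * g⁻¹) (h.tl.loc _ hg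
      (by simpa using ne_one_of_orderOf_eq y3) ?_) (by rw [Inv.orderOf_conj, x5]))
    rw [mem_centralizer_singleton_iff, conj_mul, conj_mul, hy x (mem_zpowers x)]
  have d9 : 9 ∣ (normalizer (zpowers x : Set G)).index :=
    ((Nat.prime_three.coprime_iff_not_dvd.2 n3).pow_left 2).dvd_of_dvd_mul_left
      (e3 ▸ hG ▸ h9.mul_right 10)
  have d360 : (normalizer (zpowers x : Set G)).index ∣ 360 :=
    (index_dvd_card _).trans (hG ▸ Nat.mul_dvd_mul_right h36 10)
  have e36 : (normalizer (zpowers x : Set G)).index = 36 := by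
    have := Nat.le_of_dvd (by norm_num) d360
    obtain ⟨k, hk⟩ := d9
    rw [hk] at m5 d360 this ⊢
    have : k ≤ 40 := by omega
    clear * - this m5 d360
    interval_cases k <;> omega
  rw [e36] at e2
  omega

theorem SC9.simple (h : SC9 T) (h36 : Nat.card (normalizer (T : Set G)) = 36)
    (h10 : (normalizer (T : Set G)).index = 10) : IsSimpleGroup G := by
  have hG := (normalizer (T : Set G)).card_mul_index
  rw [h36, h10] at hG
  haveI : Nontrivial G := Finite.one_lt_card_iff_nontrivial.1 (by omega)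
  refine ⟨fun L hL => or_iff_not_imp_left.2 fun h1 => by_contra fun h2 => ?_⟩
  have d1 := h.dvd180 h36.dvd h10 h1
  have d2 := L.card_mul_index
  have d3 : L.index ≠ 1 := fun e => h2 (index_eq_one.1 e)
  have e : Nat.card L = 180 := by
    obtain ⟨k, hk⟩ := d1
    rw [hk, ← hG, mul_assoc] at d2
    have : k * L.index = 2 := by omega
    have := (Nat.dvd_prime Nat.prime_two).1 (Dvd.intro_left _ this)
    rw [hk]
    nlinarith [this.resolve_left d3]
  have hT : T ≤ L := by
    have s := h.tl.syl.inf_of_le_normalizer (N := L) le_top le_normalizer_of_normal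
    have := s.card_eq
    rw [e, show (180 : ℕ).factorization 3 = 2 by decide +kernel] at this
    exact inf_eq_left.1 (eq_of_le_of_card_ge inf_le_left (by rw [this, h.card]; norm_num))
  have e1 := index_dvd (h.sup h1)
  have e2 : Nat.card (normalizer (T.subgroupOf L : Set L)) = 18 := by
    rw [← subgroupOf_normalizer_eq hT, ← inf_subgroupOf_left,
      Nat.card_congr (subgroupOfEquivOfLe inf_le_left).toEquiv]
    rw [h10, e] at e1
    omega
  have e3 := (normalizer (T.subgroupOf L : Set L)).card_mul_index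
  rw [e2, e] at e3
  haveI : Nontrivial L := (L.nontrivial_iff_ne_bot).2 h1
  haveI : IsSimpleGroup L := ⟨fun M hM => or_iff_not_imp_left.2 fun m1 => eq_top_of_card_eq _
    (Nat.dvd_antisymm (card_subgroup_dvd_card M)
      (e ▸ (h.sub hT).dvd180 (by rw [e2]; norm_num) (by omega) m1))⟩
  have := S0496.result (G := L) (Perm.not_comm_of_not_prime (by rw [e]; norm_num)) (by omega)
  omega

theorem SC9.n36 (h : SC9 T) (h36 : Nat.card (normalizer (T : Set G)) = 36) {U V : Finset G}
    (par : Par T U V) (hU : U.card = 4) (hV : V.card = 4) :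
    normalizer (T : Set G) = ⊤ ∨ Nonempty (G ≃* alternatingGroup (Fin 6)) := by
  have hb := par.bound (u := 4) (v := 4) (n := 36) (t := 9) (α := 5 / 12) (β := 5 / 12)
    (γ := 1 / 6) (by rw [hU]; rfl) (by rw [hV]; rfl) (by rw [h36]; rfl)
    (by rw [h.card]; rfl) (by norm_num) (by norm_num) S3341.term4
  have : Nat.card G ≤ 864 := by exact_mod_cast (show (Nat.card G : ℝ) ≤ 864 by linarith)
  have hm := h.tl.card_mod
  have hG := (normalizer (T : Set G)).card_mul_index
  rw [h.card, Nat.ModEq] at hm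
  rw [h36] at hG
  have : (normalizer (T : Set G)).index = 1 ∨ (normalizer (T : Set G)).index = 10 ∨
    (normalizer (T : Set G)).index = 19 := by omega
  rcases this with e | e | e
  · exact Or.inl (index_eq_one.1 e)
  · haveI := h.simple h36 e
    exact Or.inr (S0497.result (by omega))
  · haveI : Fact (Nat.Prime 19) := ⟨by norm_num⟩
    obtain ⟨P⟩ : Nonempty (Sylow 19 G) := inferInstance
    have c := Perm.sylow_card_eq P (a := 1) (m := 36) (by omega) (by norm_num)
    have d := Perm.card_sylow_dvd (G := G) (p := 19) (a := 1) (m := 36) (by omega) (by norm_num)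
    have m := card_sylow_modEq_one 19 G
    have : (normalizer ((P : Subgroup G) : Set G)).index = 1 := by
      have := Nat.le_of_dvd (by norm_num) d
      rw [← show Nat.card (Sylow 19 G) = (normalizer ((P : Subgroup G) : Set G)).index from
        P.card_eq_index_normalizer]
      rw [Nat.ModEq] at m
      generalize Nat.card (Sylow 19 G) = n at *
      have : n = 1 ∨ n = 20 := by omega
      rcases this with rfl | rfl
      · rfl
      · omega
    haveI : (P : Subgroup G).Normal := normalizer_eq_top_iff.1 (index_eq_one.1 this)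
    have := h.three_dvd (L := P) (Perm.sylow_ne_bot P (by omega))
    omega

theorem SC9.n36' (h : SC9 T) (h36 : Nat.card (normalizer (T : Set G)) = 36) {a b : G} (ha : a ∈ T)
    (hb : b ∈ T) (a1 : a ≠ 1) (b1 : b ≠ 1) (n1 : a ≠ b) (n2 : a ≠ b⁻¹)
    (hc : ∀ y ∈ T, IsConj a y ∨ IsConj b y → y = a ∨ y = a⁻¹ ∨ y = b ∨ y = b⁻¹) :
    normalizer (T : Set G) = ⊤ ∨ Nonempty (G ≃* alternatingGroup (Fin 6)) := by
  classical
  haveI := Fintype.ofFinite G
  let W : Finset G := (Finset.univ.filter fun y => y ∈ T).erase 1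
  have mW : ∀ y, y ∈ W ↔ y ∈ T ∧ y ≠ 1 := fun y => by simp [W, and_comm]
  have cW : W.card = 8 := by
    rw [Finset.card_erase_of_mem (by simp), ← Fintype.card_subtype, ← Nat.card_eq_fintype_card]
    exact congrArg (· - 1) h.card
  let U : Finset G := {a, a⁻¹, b, b⁻¹}
  have mU : ∀ y, y ∈ U ↔ y = a ∨ y = a⁻¹ ∨ y = b ∨ y = b⁻¹ := fun y => by simp [U]
  have n3 := ne_inv3 (h.exp a ha) a1
  have n4 := ne_inv3 (h.exp b hb) b1
  have n5 : a⁻¹ ≠ b := fun e => n2 (by rw [← e, inv_inv])
  have n6 : a⁻¹ ≠ b⁻¹ := fun e => n1 (inv_injective e)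
  have c4 : U.card = 4 := by
    rw [Finset.card_insert_of_notMem, Finset.card_insert_of_notMem, Finset.card_pair n4.symm] <;>
      simp only [Finset.mem_insert, Finset.mem_singleton] <;> tauto
  have invU : ∀ u ∈ U, u⁻¹ ∈ U := fun u hu => by
    rw [mU] at hu ⊢
    rcases hu with rfl | rfl | rfl | rfl <;> simp
  have sU : U ⊆ W := fun u hu => by
    rw [mW]
    rcases (mU u).1 hu with rfl | rfl | rfl | rfl <;> simp [ha, hb, a1, b1]
  have ci : ∀ {x y : G}, IsConj x⁻¹ y → IsConj x y⁻¹ := fun c => by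
    obtain ⟨g, rfl⟩ := isConj_iff.1 c
    exact isConj_iff.2 ⟨g, by group⟩
  refine h.n36 h36 (U := U) (V := W \ U) ⟨h.tl, h.exp, fun t => ?_, fun u hu v hv c => ?_, invU,
    fun v hv => ?_⟩ c4 (by rw [Finset.card_sdiff_of_subset sU, cW, c4])
  · rw [← mW, ← Finset.mem_union, Finset.union_sdiff_of_subset sU]
  · obtain ⟨h1, h2⟩ := Finset.mem_sdiff.1 hv
    have h3 := ((mW v).1 h1).1
    have h4 : v⁻¹ ∉ U := fun e => h2 (by simpa using invU _ e)
    rcases (mU u).1 hu with rfl | rfl | rfl | rfl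
    · exact h2 ((mU v).2 (hc v h3 (Or.inl c)))
    · exact h4 ((mU _).2 (hc _ (inv_mem h3) (Or.inl (ci c))))
    · exact h2 ((mU v).2 (hc v h3 (Or.inr c)))
    · exact h4 ((mU _).2 (hc _ (inv_mem h3) (Or.inr (ci c))))
  · obtain ⟨h1, h2⟩ := Finset.mem_sdiff.1 hv
    exact Finset.mem_sdiff.2 ⟨(mW _).2 ⟨inv_mem ((mW _).1 h1).1, inv_ne_one.2 ((mW _).1 h1).2⟩,
      fun h => h2 (by simpa using invU _ h)⟩

theorem D8.cls {a b s w y : G} (h : D8 T a b s w) (hy : y ∈ T) (hc : IsConj a y) :
    y = a ∨ y = a⁻¹ ∨ y = b ∨ y = b⁻¹ := by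
  have e := h.tl.card_conj h.ha h.a1
  rw [h.cardCa.1, h.cardN] at e
  have cb : IsConj a b := isConj_iff.2 ⟨_, h.wa⟩
  have n1 := ne_inv3 (h.exp a h.ha) h.a1
  have n2 := ne_inv3 (h.exp b h.hb) h.b1
  have n3 := h.nb h.sa
  have n4 := h.nb (x := a⁻¹) (by rw [← conj_inv, h.sa])
  have c4 : ({a, a⁻¹, b, b⁻¹} : Set G).ncard = 4 := by
    rw [Set.ncard_insert_of_notMem, Set.ncard_insert_of_notMem, Set.ncard_pair n2.symm] <;>
      simp only [Set.mem_insert_iff, Set.mem_singleton_iff] <;> tauto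
  have := Set.eq_of_subset_of_ncard_le (s := {a, a⁻¹, b, b⁻¹}) (t := {y | y ∈ T ∧ IsConj a y})
    (by
      rintro y (rfl | rfl | rfl | rfl)
      exacts [⟨h.ha, IsConj.refl _⟩, ⟨inv_mem h.ha, h.ca⟩, ⟨h.hb, cb⟩,
        ⟨inv_mem h.hb, cb.trans (isConj_iff.2 ⟨_, h.sb⟩)⟩])
    (by rw [c4]; change Nat.card {y // y ∈ T ∧ IsConj a y} ≤ 4; omega)
  exact this.ge ⟨hy, hc⟩

omit [Finite G] in
theorem no6 (e : G ≃* alternatingGroup (Fin 6)) (g : G) : orderOf g ≠ 6 := fun h => by
  have : 6 ∈ Spec.spec (alternatingGroup (Fin 6)) := Spec.spec_congr e ▸ ⟨g, h⟩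
  rw [Spec.spec_A6] at this
  simp at this

end Cfsg.Agent.D9
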