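import Mathlib
import Cfsg.Agent.Inv.StrongEmb
import Cfsg.Agent.LocalEven.SylowIn

/-!
A subgroup containing the normalizers of all "large" subgroups of one of its Sylow subgroups meets
its other conjugates in "small" subgroups.
-/

set_option autoImplicit false

namespace Cfsg.Agent.Inv

open Subgroup LocalEven

variable {G : Type*} [Group G]

theorem embed_mem [Finite G] {p : ℕ} [Fact p.Prime] (Q : Subgroup G → Prop)
    (hmono : ∀ X Y : Subgroup G, X ≤ Y → Q X → Q Y) (hconj : ∀ (X : Subgroup G) (g : G), Q X → Q (cj g X))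
    {H P : Subgroup G} (hP : IsSylowIn p P H)
    (h : ∀ X : Subgroup G, X ≤ P → Q X → normalizer (X : Set G) ≤ H)
    {g : G} {A : Subgroup G} (hA : IsPGroup p A) (hQ : Q A) (hAH : A ≤ H ⊓ cj g H) : g ∈ H := by
  have step1 : ∀ X : Subgroup G, X ≤ H → IsPGroup p X → Q X → normalizer (X : Set G) ≤ H := by
    intro X hXH hX hQX
    obtain ⟨k, hk, hle⟩ := hP.exists_cj_le hX hXH
    have := h _ hle (hconj X k hQX)
    rw [← cj_normalizer, cj_le_iff, cj_eq_of_mem (H.inv_mem hk)] at this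
    exact this
  obtain ⟨X, hX, hAX⟩ := exists_isSylowIn_le hA hAH
  have hQX := hmono _ _ hAX hQ
  have hXH : X ≤ H := hX.1.trans inf_le_left
  have hXg : cj g⁻¹ X ≤ H := le_cj_iff.1 (hX.1.trans inf_le_right)
  have h1 := step1 X hXH hX.2 hQX
  have h2 := step1 _ hXg (isPGroup_cj _ hX.2) (hconj _ _ hQX)
  rw [← cj_normalizer, ← le_cj_iff] at h2
  have h3 : IsSylowIn p X ⊤ :=
    IsSylowIn.of_normalizer (hX.mono (le_inf le_top le_normalizer)
      (inf_le_right.trans (le_inf h1 h2)))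
  have h4 : IsSylowIn p (cj g⁻¹ X) H := (h3.cj_of_mem (mem_top g⁻¹)).mono hXg le_top
  obtain ⟨k, hk, hk'⟩ := h4.conj (h3.mono hXH le_top)
  rw [cj_cj, cj_eq_self_iff] at hk'
  have := H.mul_mem (H.inv_mem (h1 hk')) hk
  simpa using this

end Cfsg.Agent.Inv
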