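import Mathlib
import Cfsg.Agent.Inv.Ess6

/-! Saturated systems on groups with a unique abelian subgroup of index `p`. -/

set_option autoImplicit false
set_option linter.unusedSectionVars false

namespace Cfsg.Agent.Inv.Es

open Subgroup Cfsg.Agent.Fusion Cfsg.Agent.Fusion.FS
open scoped commutatorElement

variable {G : Type*} [Group G] {p : ℕ} [hp : Fact p.Prime] [Finite G]

theorem Zc_le_Z2 (S : Subgroup G) : Zc S ≤ Z2 S := fun x hx => mem_Z2.2 ⟨hx.1, fun y hy => by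
  rw [conj_eq_of_cz hx.2 hy, inv_mul_cancel]; exact one_mem _⟩

theorem cg_swap {Y : Subgroup G} {x y : G} (hx : x ∈ nz Y) (hy : y ∈ nz Y) (h : Cg Y x (y * x * y⁻¹)) :
    Cg Y y (x * y * x⁻¹) := mem_of_eq (conj_mem_of_nz' (mul_mem hy (inv_mem hx)) (inv_mem h)) (by group)

/-- an abelian subgroup of index `p` in a nonabelian `p`-group -/
structure AP (p : ℕ) (S A : Subgroup G) : Prop where
  pg : IsPGroup p S
  le : A ≤ S
  ab : A ≤ cz A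
  ind : A.relIndex S = p
  na : ¬ S ≤ cz S

namespace AP

variable {S A : Subgroup G} {x : G}

theorem nzA (h : AP p S A) : S ≤ nz A := PGrp.le_normalizer_of_relIndex_prime h.pg h.le h.ind
theorem sup (h : AP p S A) (hx : x ∈ S) (hA : x ∉ A) : A ⊔ zpowers x = S :=
  PGrp.sup_zpowers_eq_of_relIndex_prime hp.out h.ind h.le hx hA
theorem Z_le (h : AP p S A) : Zc S ≤ A := fun z hz => by_contra fun e =>
  h.na (h.sup hz.1 e ▸ sup_zpowers_le_cz h.ab (cz_anti h.le hz.2))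
theorem mem_Z (h : AP p S A) (hx : x ∈ S) (hA : x ∉ A) {a : G} (ha : a ∈ A) (hc : a ∈ cz (zpowers x)) : a ∈ Zc S :=
  ⟨h.le ha, by rw [← h.sup hx hA, cz_sup]; exact ⟨h.ab ha, hc⟩⟩
theorem pow_mem_Z (h : AP p S A) (hx : x ∈ S) (hA : x ∉ A) : x ^ p ∈ Zc S :=
  h.mem_Z hx hA (PGrp.pow_mem_of_relIndex_eq h.nzA h.ind hx) (mem_cz_zpowers.2 (Commute.self_pow x p))
theorem nzZ (_ : AP p S A) : S ≤ nz (Zc S) := (le_nz S).trans (nz_le_nz_Zc S)
theorem mem_Z2 (h : AP p S A) (hx : x ∈ S) (hA : x ∉ A) {a : G} (ha : a ∈ A) (hc : Cg (Zc S) x (a * x * a⁻¹)) :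
    a ∈ Z2 S := ⟨h.le ha, by
  nth_rewrite 1 [← h.sup hx hA]
  exact mem_trv_sup (mem_trv_of_cz (h.ab ha) (h.nzZ (h.le ha))) (mem_trv_zpowers (h.nzZ (h.le ha)) (h.nzZ hx) hc)
    (h.le.trans h.nzZ) (zpowers_le.2 (h.nzZ hx))⟩
theorem le_Z2 (h : AP p S A) (hx : x ∈ Z2 S) (hA : x ∉ A) : A ≤ Z2 S := fun _ ha =>
  h.mem_Z2 hx.1 hA ha (cg_swap (h.nzZ (h.le ha)) (h.nzZ hx.1) (trv_cg hx.2 (h.le ha)))
theorem inf_sup (h : AP p S A) {E : Subgroup G} (hE : E ≤ S) (hx : x ∈ E) (hA : x ∉ A) : E ⊓ A ⊔ zpowers x = E := by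
  have := sup_inf_of_nz (K := E) (zpowers_le.2 (h.nzA (hE hx))) (zpowers_le.2 hx)
  rw [sup_comm, h.sup (hE hx) hA, inf_eq_right.2 hE, inf_comm, sup_comm] at this
  exact this.symm
theorem relIndex_inf (h : AP p S A) {E : Subgroup G} (hE : E ≤ S) (hx : x ∈ E) (hA : x ∉ A) : (E ⊓ A).relIndex E = p := by
  conv_lhs => arg 2; rw [← h.inf_sup hE hx hA]
  exact PGrp.relIndex_sup_zpowers hp.out (mem_nz_inf (le_nz E hx) (h.nzA (hE hx)))
    ⟨pow_mem hx p, h.Z_le (h.pow_mem_Z (hE hx) hA)⟩ fun e => hA e.2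
theorem comm_le (h : AP p S A) : ⁅S, S⁆ ≤ A := PGrp.commutator_le_of_relIndex_prime hp.out h.le h.nzA h.ind

theorem card_A (h : AP p S A) : Nat.card A = Nat.card (Zc S) * Nat.card ↥⁅S, S⁆ := by
  have e := relIndex_Zc h.pg h.na h.le h.ab h.ind
  rw [← relIndex_mul_relIndex _ _ _ h.Z_le h.le, h.ind, mul_comm] at e
  rw [← card_mul_relIndex h.Z_le, Nat.eq_of_mul_eq_mul_left hp.out.pos e]

theorem card_inf (h : AP p S A) (h2 : Z2 S ≤ A) : Nat.card ↥(Zc S ⊓ ⁅S, S⁆) = (Zc S).relIndex (Z2 S) := by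
  obtain ⟨x, hx, hA⟩ := SetLike.not_le_iff_exists.1 fun e : S ≤ A => h.na (e.trans (h.ab.trans (cz_anti e)))
  let f : A →* G := MonoidHom.mk' (fun a => x⁻¹ * (a * x * (a : G)⁻¹)) fun a b => by
    have h1 := mem_cz.1 (h.ab (inv_mem a.2)) _ (h.comm_le (comm_mem hx (h.le b.2)))
    calc x⁻¹ * ((a * b : A) * x * ((a * b : A) : G)⁻¹) = x⁻¹ * a * x * ((x⁻¹ * (b * x * (b : G)⁻¹)) * (a : G)⁻¹) := by
          push_cast; group
      _ = _ := by rw [h1]; group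
  have hk : f.ker = (Zc S).subgroupOf A := by
    ext a
    change x⁻¹ * (a * x * (a : G)⁻¹) = 1 ↔ (a : G) ∈ Zc S
    rw [inv_mul_eq_one, eq_mul_inv_iff_mul_eq]
    exact ⟨fun e => h.mem_Z hx hA a.2 (mem_cz_zpowers.2 e), fun e => mem_cz.1 e.2 x hx⟩
  have hr : f.range = ⁅S, S⁆ := eq_of_le_of_card_le (by rintro _ ⟨a, rfl⟩; exact comm_mem hx (h.le a.2)) (by
    rw [← index_ker, hk]
    have := h.card_A
    rw [← card_mul_relIndex h.Z_le] at this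
    exact (Nat.eq_of_mul_eq_mul_left Nat.card_pos this).ge)
  have : ((Z2 S).subgroupOf A).map f = Zc S ⊓ ⁅S, S⁆ := le_antisymm (by
    rintro _ ⟨a, ha, rfl⟩
    exact ⟨ha.2.2 x hx, hr.le ⟨a, rfl⟩⟩) fun w hw => by
      obtain ⟨a, rfl⟩ := hr.ge hw.2
      exact ⟨a, h.mem_Z2 hx hA a.2 hw.1, rfl⟩
  rw [← this, ← relIndex_ker, hk, relIndex_subgroupOf h2]

theorem relIndex_sup (h : AP p S A) : (Zc S ⊔ ⁅S, S⁆).relIndex A = Nat.card ↥(Zc S ⊓ ⁅S, S⁆) := by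
  have e := card_sup_mul_card_inf (H := Zc S) (N := ⁅S, S⁆) fun z hz =>
    mem_nz_commutator (le_nz S hz.1) (le_nz S hz.1)
  rw [← h.card_A, ← card_mul_relIndex (sup_le h.Z_le h.comm_le)] at e
  exact (Nat.eq_of_mul_eq_mul_left Nat.card_pos e).symm

theorem not_lcs_le (h : AP p S A) (hi : (Zc S).relIndex (Z2 S) = p) {m : ℕ} (hm : (Zc S).relIndex S = p ^ m)
    (h3 : 3 ≤ m) : ¬ S.lowerCentralSeries (m - 2) ≤ Zc S := fun hl => by
  obtain ⟨x, hx, hA⟩ := SetLike.not_le_iff_exists.1 fun e : S ≤ A => h.na (e.trans (h.ab.trans (cz_anti e)))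
  have hc : Nat.card (S ⧸ center S) = p ^ m := by rw [← hm, ← index_center_eq, index_eq_card]
  haveI := (IsPGroup.of_card hc).isNilpotent
  have h1 := PGrp.nilpotencyClass_eq_of_card_centralizer_le hc (by omega) ((⟨x, hx⟩ : S) : S ⧸ center S) (by
    have e1 := PGrp.card_comap_mk' (center S) (centralizer {((⟨x, hx⟩ : S) : S ⧸ center S)})
    rw [← card_map_of_injective S.subtype_injective, PGrp.card_center_eq] at e1
    have e2 : ((centralizer {((⟨x, hx⟩ : S) : S ⧸ center S)}).comap (QuotientGroup.mk' (center S))).map S.subtype ≤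
        Z2 S ⊔ zpowers x := by
      rintro _ ⟨s, hs, rfl⟩
      have hs' : x⁻¹ * (s * x * (s : G)⁻¹) ∈ Zc S := by
        have e3 := mem_centralizer_iff.1 hs _ rfl
        rw [QuotientGroup.mk'_apply, ← QuotientGroup.mk_mul, ← QuotientGroup.mk_mul, QuotientGroup.eq] at e3
        exact mem_of_eq (conj_mem_of_nz (h.nzZ s.2) ((map_center_subtype S).le ⟨_, e3, rfl⟩)) (by simp [mul_assoc])
      obtain ⟨a, ha, i, e⟩ := (PGrp.mem_sup_zpowers (h.nzA hx)).1 ((h.sup hx hA).ge s.2)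
      rw [← e, conj_mul_cz (P := zpowers x) (zpow_mem (mem_cz_zpowers.2 rfl) i) (mem_zpowers x)] at hs'
      exact mem_of_eq (mul_mem (mem_sup_left (h.mem_Z2 hx hA ha hs')) (mem_sup_right (zpow_mem_zpowers x i))) e
    have e4 := (Fusion.card_le_of_le e2).trans (PGrp.card_sup_zpowers_le hp.out.ne_zero
      (mem_nz_inf (le_nz S hx) (mem_nz_trv (le_nz S hx) (h.nzZ hx))) (Zc_le_Z2 S (h.pow_mem_Z hx hA)))
    rw [e1, ← card_mul_relIndex (Zc_le_Z2 S), hi, mul_assoc, ← pow_two] at e4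
    exact Nat.le_of_mul_le_mul_left e4 Nat.card_pos)
  have h2 : Group.nilpotencyClass (S ⧸ center S) ≤ m - 2 := by
    rw [← Subgroup.lowerCentralSeries_eq_bot_iff_nilpotencyClass_le,
      ← map_top_of_surjective _ (QuotientGroup.mk'_surjective (center S)), ← map_lowerCentralSeries, Subgroup.map_eq_bot_iff,
      QuotientGroup.ker_mk', ← map_le_map_iff_of_injective S.subtype_injective, top_subtype_lowerCentralSeries,
      map_center_subtype]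
    exact hl
  omega

end AP

variable {F : FS G} {A E : Subgroup G}

theorem ap_abel (hF : F.Sat p) (h : AP p F.S A) (hu : ∀ B ≤ F.S, B ≤ cz B → B.relIndex F.S = p → B = A) (hE : F.Ess p E)
    (hne : E ≠ A) {x : G} (hx : x ∈ E) (hA : x ∉ A) (hc : E ≤ cz E) : E = Zc F.S ⊔ zpowers x ∧ Z2 F.S ≤ A ∧
    (Zc F.S).relIndex (Z2 F.S) = p ∧ E.relIndex (F.S ⊓ nz E) = p := by
  have hZ := hE.cent.center_le
  have xS := hE.le hx
  have e0 : E ⊓ A = Zc F.S := le_antisymm (fun a ha => h.mem_Z xS hA ha.2 (cz_anti (zpowers_le.2 hx) (hc ha.1)))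
    (le_inf hZ h.Z_le)
  have e1 := h.inf_sup hE.le hx hA
  have i1 := h.relIndex_inf hE.le hx hA
  rw [e0] at e1 i1
  have hn : ∀ {X Y : Subgroup G}, X ≤ E → Y ≤ E → X ≤ nz Y := fun h1 h2 => h1.trans (hc.trans ((cz_anti h2).trans (cz_le_nz _)))
  have t1 : F.S ⊓ nz E ≤ trv E (Zc F.S) := fun g hg =>
    mem_trv_of_pg hZ (hn le_rfl hZ) i1.dvd hg.2 (h.nzZ hg.1) (exists_pow_of_S hF hg.1)
  obtain ⟨a, ha⟩ := exists_opp hF hE
  have hE' := cj_of_nz (F.aut_le_nz E ha.1)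
  have hZ' : cj a (Zc F.S) ≤ E := (cj_mono hZ).trans hE'.le
  have t3 : ∀ g ∈ F.S ⊓ nz E, g ∈ trv E (Zc F.S ⊓ cj a (Zc F.S)) → g ∈ E := fun g hg ht => by_contra fun hgE => by
    have c1 := conj_mem_cz_cj (g := a) (le_cz_Zc _ hg.1)
    have c2 := conj_mem_trv (a := a) (t1 hg)
    rw [hE'] at c2
    have gA := mem_aut_of_S hE.le hg.1 hg.2
    exact ha.2 g hg.1 hg.2 hgE g hg.1 hg.2 hgE (closure {g, a * g * a⁻¹})
      ((closure_le _).2 (by rintro _ (rfl | rfl); exacts [gA, conj_mem_of_nz (le_nz _ ha.1) gA]))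
      (subset_closure (by simp)) (subset_closure (by simp))
      (pmod_cz_of_pmod (hF.pg_le (hZ'.trans hE.le)) (pmod_closure_pair (trv_mono_right inf_le_right hZ' ht) c2)
        (pmod_cz_of_pmod (hF.pg_le (inf_le_left.trans inf_le_left)) (pmod_closure_pair (trv_mono_left hZ' ht)
          (mem_trv_of_cz c1 (cz_le_nz _ (cz_anti inf_le_right c1))))
          (pmod_closure_pair (cz_anti inf_le_left (le_cz_Zc _ hg.1)) (cz_anti inf_le_right c1))))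
  have i2 : (Zc F.S ⊓ cj a (Zc F.S)).relIndex (Zc F.S) = p := by
    refine relIndex_eq_of_le (hF.pg_le inf_le_left) ?_ fun e => ?_
    · rw [inf_comm, inf_relIndex_right]
      refine (relIndex_le_of_le_right hZ (relIndex_ne_zero _ _)).trans ?_
      nth_rewrite 1 [← hE']
      rw [relIndex_cj, i1]
    · obtain ⟨g, g1, g2, g3, -⟩ := ess_exists hF hE
      exact g2 (t3 g ⟨g1, g3⟩ (trv_mono_right e (inf_le_left.trans hZ) (t1 ⟨g1, g3⟩)))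
  have i3 := relIndex_NS_of_plane hF hE inf_le_left (hn le_rfl (inf_le_left.trans hZ)) hZ i2 e1 t1
    (fun g hg => mem_trv_of_cz (le_cz_Zc _ hg.1) (cz_le_nz _ (cz_anti inf_le_left (le_cz_Zc _ hg.1)))) t3
  have e2 : F.S ⊓ nz E ⊓ A = Z2 F.S ⊓ A := le_antisymm (fun a ha => ⟨h.mem_Z2 xS hA ha.2 (trv_cg (t1 ha.1) hx), ha.2⟩)
    fun a ha => ⟨⟨ha.1.1, trv_le_nz_of_le hZ hE.le ha.1.2⟩, ha.2⟩
  have i4 : (Zc F.S).relIndex (Z2 F.S ⊓ A) = p := by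
    have e3 : F.S ⊓ nz E ⊓ A ⊔ E = F.S ⊓ nz E := le_antisymm (sup_le inf_le_left (le_NS hE.le)) (by
      conv_lhs => rw [← h.inf_sup inf_le_left (le_NS hE.le hx) hA]
      exact sup_le_sup_left (zpowers_le.2 hx) _)
    rw [← e3, relIndex_sup_of_nz (inf_le_left.trans inf_le_right), ← inf_relIndex_right, e2, inf_left_comm, e0,
      inf_eq_right.2 (Zc_le_Z2 _)] at i3
    exact i3
  have h2 : Z2 F.S ≤ A := fun y hy => by_contra fun hyA => hne (hu E hE.le hc (by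
    rw [inf_eq_right.2 (h.le_Z2 hy hyA)] at i4
    have := relIndex_mul_relIndex _ _ _ hZ hE.le
    rw [← relIndex_mul_relIndex _ _ _ h.Z_le h.le, i4, i1, h.ind] at this
    exact Nat.eq_of_mul_eq_mul_left hp.out.pos this))
  exact ⟨e1.symm, h2, by rwa [inf_eq_left.2 h2] at i4, i3⟩

theorem ap_nonabel (hF : F.Sat p) (h : AP p F.S A) (hE : F.Ess p E) (hne : E ≠ A) {x : G} (hx : x ∈ E) (hA : x ∉ A)
    (hc : ¬ E ≤ cz E) : E = Z2 F.S ⊔ zpowers x ∧ Z2 F.S ≤ A ∧ (Zc F.S).relIndex (Z2 F.S) = p ∧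
    E.relIndex (F.S ⊓ nz E) = p ∧ Zc E = Zc F.S ∧ ⁅E, E⁆ ≤ Zc F.S := by
  have hZ := hE.cent.center_le
  have xS := hE.le hx
  have e1 := h.inf_sup hE.le hx hA
  have i1 := h.relIndex_inf hE.le hx hA
  have ab : E ⊓ A ≤ cz (E ⊓ A) := inf_le_right.trans (h.ab.trans (cz_anti inf_le_right))
  have h' : AP p E (E ⊓ A) := ⟨hF.pg_le hE.le, inf_le_left, ab, i1, hc⟩
  have eZ : Zc E = Zc F.S := le_antisymm (fun z hz => h.mem_Z xS hA (h'.Z_le hz).2 (cz_anti (zpowers_le.2 hx) hz.2))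
    (le_inf hZ (inf_le_right.trans (cz_anti hE.le)))
  have hAE : ¬ A ≤ E := fun e => ((PGrp.eq_or_eq_of_relIndex_prime hp.out h.ind e hE.le).elim hne (hE.lt hF).ne)
  have t1 : F.S ⊓ nz E ≤ trv E (E ⊓ A) := fun g hg =>
    mem_trv_of_pg inf_le_left h'.nzA i1.dvd hg.2 (mem_nz_inf hg.2 (h.nzA hg.1)) (exists_pow_of_S hF hg.1)
  obtain ⟨b, hb, hb'⟩ : ∃ b ∈ F.aut E, b ∉ nz (E ⊓ A) := by
    by_contra hn
    push Not at hn
    obtain ⟨g, g1, g2, g3, -⟩ := ess_exists_of_not_le hF hE.le h.le (hE.le.trans h.nzA) hAE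
    exact g2 (ess_mem hF hE (h.le g1) g3 (pmod_cz_of_pmod (hF.pg_le (inf_le_left.trans hE.le))
      (pmod_ncl (F.aut_le_nz E) hn (t1 ⟨h.le g1, g3⟩)) (pmod_ncl_cz hn (cz_anti inf_le_right (h.ab g1)))))
  have hE' := cj_of_nz (F.aut_le_nz E hb)
  have hP' : cj b (E ⊓ A) ≤ E := (cj_mono inf_le_left).trans hE'.le
  have hZP : Zc F.S ≤ E ⊓ A := le_inf hZ h.Z_le
  have i2 : (Zc F.S).relIndex (E ⊓ A) = p := by
    refine relIndex_eq_of_le (hF.pg_le (inf_le_left.trans hE.le)) ?_ fun e => hc ?_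
    · have e2 := (PGrp.eq_or_eq_of_relIndex_prime hp.out i1 le_sup_left (sup_le inf_le_left hP')).resolve_left
        fun e => hb' (mem_nz_of_le (le_sup_right.trans e.le))
      have e3 : cj b (E ⊓ A) ⊓ (E ⊓ A) ≤ Zc F.S := eZ ▸ le_inf (inf_le_left.trans hP') (by
        nth_rewrite 3 [← e2]
        rw [cz_sup]
        exact le_inf (inf_le_right.trans ab) (inf_le_left.trans ((cj_mono ab).trans (cj_cz _ _).le)))
      refine (relIndex_le_of_le_left e3 (relIndex_ne_zero _ _)).trans ?_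
      rw [inf_relIndex_right]
      refine (relIndex_le_of_le_right inf_le_left (relIndex_ne_zero _ _)).trans ?_
      nth_rewrite 2 [← hE']
      rw [relIndex_cj, i1]
    · rw [← e1]
      exact sup_zpowers_le_cz ab (cz_anti e (le_cz_Zc _ xS))
  have t2 : F.S ⊓ nz E ≤ trv (E ⊓ A) (Zc F.S) := fun g hg =>
    mem_trv_of_pg hZP ((inf_le_left.trans hE.le).trans h.nzZ) i2.dvd (t1 hg).1 (h.nzZ hg.1) (exists_pow_of_S hF hg.1)
  have hAZ : F.aut E ≤ nz (Zc F.S) := eZ ▸ (F.aut_le_nz E).trans (nz_le_nz_Zc E)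
  have t3 : ∀ g ∈ F.S ⊓ nz E, g ∈ trv E (Zc F.S) → g ∈ E := fun g hg ht => ess_mem hF hE hg.1 hg.2
    (pmod_cz_of_pmod (hF.pg_le inf_le_left) (pmod_ncl (F.aut_le_nz E) hAZ ht) (pmod_ncl_cz hAZ (le_cz_Zc _ hg.1)))
  have h1 : Z2 F.S ≤ E := fun y hy => t3 y ⟨hy.1, trv_le_nz_of_le hZ hE.le hy.2⟩ (trv_mono_left hE.le hy.2)
  have h2 : Z2 F.S ≤ A := fun y hy => by_contra fun hyA => hAE ((h.le_Z2 hy hyA).trans h1)
  have e4 : E ⊓ A = Z2 F.S := le_antisymm (fun u hu => h.mem_Z2 xS hA hu.2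
    (cg_swap (h.nzZ (hE.le hu.1)) (h.nzZ xS) (trv_cg (t2 (le_NS hE.le hx)) hu))) (le_inf h1 h2)
  refine ⟨e4 ▸ e1.symm, h2, e4 ▸ i2,
    relIndex_NS_of_plane hF hE hZP (hE.le.trans h.nzZ) inf_le_left i2 e1 t1 t2 t3, eZ, comm_le_of_trv ?_⟩
  nth_rewrite 1 [← e1, e4]
  refine sup_le (fun y hy => trv_mono_left hE.le hy.2) (zpowers_le.2 ?_)
  rw [← e1]
  exact mem_trv_sup (t2 (le_NS hE.le hx)) (mem_trv_of_cz (mem_cz_zpowers.2 rfl) (h.nzZ xS))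
    ((inf_le_left.trans hE.le).trans h.nzZ) (zpowers_le.2 (h.nzZ xS))

theorem ap_exists (hF : F.Sat p) (h : AP p F.S A) (hE : F.Ess p E) (hne : E ≠ A) : ∃ x ∈ E, x ∉ A := by
  by_contra hn
  push Not at hn
  exact hne (le_antisymm hn fun a ha => hE.cent.cz_le ⟨h.le ha, cz_anti hn (h.ab ha)⟩)

theorem ap_Z2 (hF : F.Sat p) (h : AP p F.S A) (hu : ∀ B ≤ F.S, B ≤ cz B → B.relIndex F.S = p → B = A) (hE : F.Ess p E)
    (hne : E ≠ A) : Z2 F.S ≤ A ∧ (Zc F.S).relIndex (Z2 F.S) = p ∧ E.relIndex (F.S ⊓ nz E) = p ∧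
    ∃ x ∈ F.S, x ∉ A ∧ (E = Zc F.S ⊔ zpowers x ∨ E = Z2 F.S ⊔ zpowers x) := by
  obtain ⟨x, hx, hA⟩ := ap_exists hF h hE hne
  by_cases hc : E ≤ cz E
  · obtain ⟨h1, h2, h3, h4⟩ := ap_abel hF h hu hE hne hx hA hc
    exact ⟨h2, h3, h4, x, hE.le hx, hA, Or.inl h1⟩
  · obtain ⟨h1, h2, h3, h4, -⟩ := ap_nonabel hF h hE hne hx hA hc
    exact ⟨h2, h3, h4, x, hE.le hx, hA, Or.inr h1⟩

theorem ap_main (hF : F.Sat p) (hp2 : p ≠ 2) (h : AP p F.S A) (hu : ∀ B ≤ F.S, B ≤ cz B → B.relIndex F.S = p → B = A)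
    (hc : F.core = ⊥) (hA : ¬ F.Ess p A) : (∃ x ∈ F.S, x ∉ A ∧ F.Ess p (Zc F.S ⊔ zpowers x)) ∧ Zc F.S ≤ ⁅F.S, F.S⁆ ∧
    ∀ n, Nat.card F.S = p ^ n → 3 ≤ n → F.S.lowerCentralSeries (n - 2) ≠ ⊥ := by
  have hS : F.S ≠ ⊥ := fun e => h.na (e.le.trans bot_le)
  have hne : ∀ {E}, F.Ess p E → E ≠ A := fun hE e => hA (e ▸ hE)
  have key : ∀ E, F.Ess p E → ((∃ g, TZ p F E (Zc F.S ⊓ ⁅F.S, F.S⁆) g) ∧ ∃ x ∈ F.S, x ∉ A ∧ E = Zc F.S ⊔ zpowers x) ∨
      (F.aut E ≤ nz (Zc F.S) ∧ F.aut E ≤ nz (Zc F.S ⊓ ⁅F.S, F.S⁆)) := fun E hE => by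
    obtain ⟨x, hx, hxA⟩ := ap_exists hF h hE (hne hE)
    obtain ⟨h2, h3, -⟩ := ap_Z2 hF h hu hE (hne hE)
    have hL := (h.card_inf h2).trans h3
    by_cases hc : E ≤ cz E
    · obtain ⟨h1, -, -, h4⟩ := ap_abel hF h hu hE (hne hE) hx hxA hc
      refine Or.inl ⟨?_, x, hE.le hx, hxA, h1⟩
      have i1 : (Zc F.S).relIndex E = p := h1 ▸ PGrp.relIndex_sup_zpowers hp.out (h.nzZ (hE.le hx))
        (h.pow_mem_Z (hE.le hx) hxA) fun e => hxA (h.Z_le e)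
      obtain ⟨g, g1, g2, g3, -⟩ := ess_exists hF hE
      have hZ := hE.cent.center_le
      have t := mem_trv_of_pg hZ (hE.le.trans h.nzZ) i1.dvd g3 (h.nzZ g1) (exists_pow_of_S hF g1)
      refine ⟨g, ⟨hF, hE, le_rfl, F.aut_le_nz E, hc, inf_le_left.trans hZ, hL, g1, g2, mem_trv_of_le le_rfl g3,
        mem_nz_inf t.1 (mem_nz_commutator (le_nz _ g1) (le_nz _ g1)), fun y hy => ⟨t.2 y hy, comm_mem (hE.le hy) g1⟩⟩,
        (PGrp.eq_or_eq_of_relIndex_prime hp.out i1 (le_inf hZ (inf_le_right.trans (cz_anti (zpowers_le.2 g1))))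
          inf_le_left).resolve_right fun e => g2 (hE.cent.cz_le ⟨g1, ?_⟩), h4⟩
      exact zpowers_le.1 (le_cz_comm.1 (e.ge.trans inf_le_right))
    · obtain ⟨-, -, -, -, h5, h6⟩ := ap_nonabel hF h hE (hne hE) hx hxA hc
      rw [← (eq_bot_or_eq_of_card hL (le_inf h6 (commutator_mono hE.le hE.le))).resolve_left
        fun e => hc (comm_eq_bot_iff.1 e)]
      exact Or.inr ⟨h5 ▸ (F.aut_le_nz E).trans (nz_le_nz_Zc E),
        fun b hb => mem_nz_commutator (F.aut_le_nz E hb) (F.aut_le_nz E hb)⟩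
  obtain ⟨E, hE, ⟨g, T⟩, x, x1, x2, e⟩ : ∃ E, F.Ess p E ∧ (∃ g, TZ p F E (Zc F.S ⊓ ⁅F.S, F.S⁆) g) ∧
      ∃ x ∈ F.S, x ∉ A ∧ E = Zc F.S ⊔ zpowers x := by
    by_contra hn
    refine center_ne_bot hF.pg hS (le_bot_iff.1 (hc ▸ (hF.nor_of_ess ?_).le_core))
    rintro P (rfl | hP)
    · exact ⟨inf_le_left, (F.aut_le_nz _).trans (nz_le_nz_Zc _)⟩
    · exact ⟨hP.cent.center_le, ((key P hP).resolve_left fun e => hn ⟨P, hP, e⟩).1⟩
  have hZ := T.Z_eq hp2 hc (fun b hb => mem_nz_inf (nz_le_nz_Zc _ (F.aut_le_nz _ hb)) (aut_S_nz_comm F hb))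
    fun P hP => (key P hP).imp_left And.left
  refine ⟨⟨x, x1, x2, e ▸ hE⟩, hZ.le.trans inf_le_right, fun n hn h3 hb => ?_⟩
  have := class_of_cz (R := E) x1 (fun s hs => hE.cent.cz_le ⟨hs.1, by rw [e, cz_sup]; exact ⟨le_cz_Zc _ hs.1, hs.2⟩⟩) (by
    rw [e, PGrp.card_sup_zpowers hp.out (h.nzZ x1) (h.pow_mem_Z x1 x2) fun e => x2 (h.Z_le e), hZ, T.card, pow_two])
    n hn (by omega)
  haveI := hF.pg.isNilpotent
  rw [class_iff] at hb
  omega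

theorem ap_of_rep {Ω : Type*} [Group Ω] {S A : Subgroup Ω} {ι : S →* G} {F₀ : FusionSystem S} (r : Rep ι F₀ F)
    (hS : IsPGroup p S) (hna : ¬ IsMulCommutative S) (hA : A ≤ S ∧ IsMulCommutative A ∧ (A.subgroupOf S).index = p)
    (hu : ∀ B : Subgroup Ω, B ≤ S → IsMulCommutative B → (B.subgroupOf S).index = p → B = A) :
    AP p F.S (im ι A) ∧ ∀ B ≤ F.S, B ≤ cz B → B.relIndex F.S = p → B = im ι A := by
  refine ⟨⟨r.pg hS, r.im_le hA.1, isMulCommutative_iff_le_cz.1 ((isMulCommutative_im_iff r.inj hA.1).2 hA.2.1),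
    by rw [r.S_eq, relIndex_im r.inj le_rfl hA.1]; exact hA.2.2, fun e => hna ?_⟩, fun B h1 h2 h3 => ?_⟩
  · rw [← isMulCommutative_im_iff r.inj le_rfl, ← r.S_eq]; exact isMulCommutative_iff_le_cz.2 e
  · obtain ⟨B, hB, rfl⟩ := r.lift h1
    rw [r.S_eq, relIndex_im r.inj le_rfl hB] at h3
    rw [hu B hB ((isMulCommutative_im_iff r.inj hB).1 (isMulCommutative_iff_le_cz.2 h2)) h3]

end Cfsg.Agent.Inv.Es
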