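import Mathlib

set_option autoImplicit false

namespace Cfsg.Agent.Inv.Friend

open Finset

/-- Regular case of the friendship theorem (a polarity of a finite projective plane has absolute
points). -/
theorem false_of_regular {V : Type*} [Finite V] [Nonempty V] (R : V → V → Prop)
    (hs : ∀ v w, R v w → R w v) (hi : ∀ v, ¬ R v v)
    (h1 : ∀ v w, v ≠ w → ∃! u, R v u ∧ R w u) {d : ℕ} (hd : ∀ v, Nat.card {u // R v u} = d)
    (h3 : 3 ≤ d) : False := by
  classical
  haveI := Fintype.ofFinite V
  have hd' : ∀ v, (univ.filter fun u => R v u).card = d := fun v => by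
    rw [← hd v, Nat.card_eq_fintype_card, Fintype.card_subtype]
  have h1' : ∀ v w, v ≠ w → (univ.filter fun u => R v u ∧ R w u).card = 1 := fun v w h => by
    obtain ⟨u, hu, hu'⟩ := h1 v w h
    rw [card_eq_one]
    exact ⟨u, by ext x; simp only [mem_filter, mem_univ, true_and, mem_singleton]
                 exact ⟨hu' x, fun h => h ▸ hu⟩⟩
  have key : ∀ (K : Type) [CommRing K] (v w : V),
      ((Matrix.of fun v w => if R v w then (1 : K) else 0) *
        (Matrix.of fun v w => if R v w then (1 : K) else 0)) v w =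
        ((univ.filter fun u => R v u ∧ R w u).card : K) := by
    intro K _ v w
    rw [Matrix.mul_apply, card_filter]
    push_cast
    refine sum_congr rfl fun u _ => ?_
    by_cases h : R v u <;> by_cases h' : R w u <;>
      simp [h, h', show R u w ↔ R w u from ⟨hs _ _, hs _ _⟩]
  obtain ⟨p, hp, hpd⟩ := Nat.exists_prime_and_dvd (show d - 1 ≠ 1 by omega)
  haveI := Fact.mk hp
  have hdp : (d : ZMod p) = 1 := by
    have := (ZMod.natCast_eq_zero_iff _ _).mpr hpd
    rw [Nat.cast_sub (by omega), sub_eq_zero] at this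
    simpa using this
  set M : Matrix V V (ZMod p) := Matrix.of fun v w => if R v w then 1 else 0 with hM
  set J : Matrix V V (ZMod p) := Matrix.of fun _ _ => 1 with hJ
  have hMM : M * M = J := by
    ext v w
    rw [hM, key]
    by_cases h : v = w
    · subst h
      simp [hd', hdp, hJ]
    · simp [h1' v w h, hJ]
  have hMJ : M * J = J := by
    ext v w
    rw [Matrix.mul_apply]
    simp only [hM, hJ, Matrix.of_apply, mul_one, sum_boole, hd', hdp]
  have hJJ : J * J = J := by
    nth_rewrite 1 [← hMM]
    rw [mul_assoc, hMJ, hMJ]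
  have hn : (Fintype.card V : ZMod p) = 1 := by
    obtain ⟨v⟩ := ‹Nonempty V›
    have := congrFun (congrFun hJJ v) v
    simpa [Matrix.mul_apply, hJ] using this
  have hpow : ∀ k, M ^ (k + 2) = J := by
    intro k
    induction k with
    | zero => rw [zero_add, pow_two, hMM]
    | succ k ih => rw [show k + 1 + 2 = (k + 2) + 1 by ring, pow_succ', ih, hMJ]
  have h4 := ZMod.trace_pow_card M
  obtain ⟨k, hk⟩ : ∃ k, p = k + 2 := ⟨p - 2, by have := hp.two_le; omega⟩
  have h5 : M.trace = 0 := by simp [Matrix.trace, hM, hi]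
  have h6 : M ^ p = J := by rw [← hpow k, ← hk]
  rw [h5, zero_pow hp.ne_zero, h6] at h4
  simp [Matrix.trace, hJ, hn] at h4

end Cfsg.Agent.Inv.Friend
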