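import Mathlib
import Cfsg.Agent.Fischer.S4
import Cfsg.Agent.Perm.ZassAut
import Cfsg.Agent.S3742
import Cfsg.Agent.Core.Cores

/-! Recognition of `GL(2,3)` among the double covers of `S₄`. -/

set_option autoImplicit false

namespace Cfsg.Agent.Inv.GL23

open Subgroup Equiv

variable {G : Type*} [Group G]

/-- The relations of `GL(2,3)` on three reflections. -/
structure Rel (a b c z : G) : Prop where
  ha : a * a = 1
  hb : b * b = 1
  hc : c * c = 1
  hab : a * b * a = b * a * b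
  hbc : b * c * b = c * b * c
  hac : a * c * (a * c) = z
  hz : z * z = 1
  za : z * a = a * z
  zb : z * b = b * z
  zc : z * c = c * z

theorem closure_swaps : closure ({swap 0 1, swap 1 2, swap 2 3} : Set (Perm (Fin 4))) = ⊤ := by
  rw [eq_top_iff]
  intro σ _
  have h : σ ∈ Submonoid.closure (Set.range fun i : Fin 3 => swap i.castSucc i.succ) := by
    rw [Perm.mclosure_swap_castSucc_succ]; trivial
  refine (Submonoid.closure_le (S := (closure ({swap 0 1, swap 1 2, swap 2 3} :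
    Set (Perm (Fin 4)))).toSubmonoid)).2 ?_ h
  rintro _ ⟨i, rfl⟩
  refine subset_closure ?_
  fin_cases i <;> simp

theorem Rel.card_le [Finite G] {a b c z : G} (h : Rel a b c z) (hg : closure {a, b, c} = ⊤) :
    Nat.card G ≤ 48 := by
  have hzc : zpowers z ≤ center G := by
    rw [zpowers_le, ← centralizer_univ, ← coe_top, ← hg, centralizer_closure, mem_centralizer_iff]
    rintro x (rfl | rfl | rfl)
    exacts [h.za.symm, h.zb.symm, h.zc.symm]
  haveI : (zpowers z).Normal := PGrp.normal_of_le_center hzc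
  let f := QuotientGroup.mk' (zpowers z)
  have hfz : f z = 1 := (QuotientGroup.eq_one_iff z).2 (mem_zpowers z)
  have hc : Commute (f a) (f c) := by
    have e : a * c = z * (c * a) := by
      rw [← h.hac]
      calc a * c = a * c * (a * (c * c) * a) := by rw [h.hc, mul_one, h.ha, mul_one]
        _ = _ := by group
    rw [Commute, SemiconjBy, ← map_mul, e, map_mul, hfz, one_mul, map_mul]
  obtain ⟨φ, h1, h2, h3⟩ := Fischer.s4_hom (a := f a) (b := f b) (c := f c)
    (by rw [← map_mul, h.ha, map_one]) (by rw [← map_mul, h.hb, map_one])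
    (by rw [← map_mul, h.hc, map_one]) (by simp only [← map_mul, h.hab])
    (by simp only [← map_mul, h.hbc]) hc
  have hs : Function.Surjective φ := by
    rw [← MonoidHom.range_eq_top, eq_top_iff, ← map_top_of_surjective f (QuotientGroup.mk'_surjective _),
      ← hg, MonoidHom.map_closure, closure_le]
    rintro _ ⟨x, (rfl | rfl | rfl), rfl⟩
    exacts [⟨_, h1⟩, ⟨_, h2⟩, ⟨_, h3⟩]
  have h4 := Nat.card_le_card_of_surjective φ hs
  rw [Nat.card_perm, Nat.card_fin] at h4
  have h5 : Nat.card (zpowers z) ≤ 2 := by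
    rw [Nat.card_zpowers]
    exact orderOf_le_of_pow_eq_one two_pos (by rw [sq, h.hz])
  rw [card_eq_card_quotient_mul_card_subgroup (zpowers z)]
  calc _ ≤ 24 * 2 := Nat.mul_le_mul h4 h5
    _ = 48 := rfl

def mA : GL (Fin 2) (ZMod 3) := ⟨!![1, 0; 0, 2], !![1, 0; 0, 2], by decide, by decide⟩
def mB : GL (Fin 2) (ZMod 3) := ⟨!![1, 2; 0, 2], !![1, 2; 0, 2], by decide, by decide⟩
def mC : GL (Fin 2) (ZMod 3) := ⟨!![0, 1; 1, 0], !![0, 1; 1, 0], by decide, by decide⟩
def mZ : GL (Fin 2) (ZMod 3) := ⟨!![2, 0; 0, 2], !![2, 0; 0, 2], by decide, by decide⟩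

theorem rel_GL : Rel mA mB mC mZ := by
  constructor <;> exact Units.ext (by decide)

theorem mZ_ne : mZ ≠ 1 := fun h => absurd (congrArg Units.val h) (by decide)

theorem Rel.exists_hom [Finite G] {a b c z : G} (h : Rel a b c z) (hg : closure {a, b, c} = ⊤)
    (hc : Nat.card G = 48) : ∃ ψ : G →* GL (Fin 2) (ZMod 3), ψ z ≠ 1 := by
  let D : Subgroup (G × GL (Fin 2) (ZMod 3)) := closure {(a, mA), (b, mB), (c, mC)}
  have ha : (a, mA) ∈ D := subset_closure (by simp)
  have hb : (b, mB) ∈ D := subset_closure (by simp)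
  have hc' : (c, mC) ∈ D := subset_closure (by simp)
  have hz : (z, mZ) ∈ D := by
    have := mul_mem (mul_mem ha hc') (mul_mem ha hc')
    rwa [Prod.mk_mul_mk, Prod.mk_mul_mk, h.hac, rel_GL.hac] at this
  have r : Rel (⟨_, ha⟩ : D) ⟨_, hb⟩ ⟨_, hc'⟩ ⟨_, hz⟩ :=
    ⟨Subtype.ext (Prod.ext h.ha rel_GL.ha), Subtype.ext (Prod.ext h.hb rel_GL.hb),
      Subtype.ext (Prod.ext h.hc rel_GL.hc), Subtype.ext (Prod.ext h.hab rel_GL.hab),
      Subtype.ext (Prod.ext h.hbc rel_GL.hbc), Subtype.ext (Prod.ext h.hac rel_GL.hac),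
      Subtype.ext (Prod.ext h.hz rel_GL.hz), Subtype.ext (Prod.ext h.za rel_GL.za),
      Subtype.ext (Prod.ext h.zb rel_GL.zb), Subtype.ext (Prod.ext h.zc rel_GL.zc)⟩
  have hD : closure {(⟨_, ha⟩ : D), ⟨_, hb⟩, ⟨_, hc'⟩} = ⊤ := by
    rw [← closure_closure_coe_preimage]
    congr 1
    ext x
    simp only [Set.mem_insert_iff, Set.mem_singleton_iff, Set.mem_preimage, Subtype.ext_iff]
  let f : D →* G := (MonoidHom.fst _ _).comp D.subtype
  have hf : Function.Surjective f := by
    rw [← MonoidHom.range_eq_top, eq_top_iff, ← hg, closure_le]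
    rintro x (rfl | rfl | rfl)
    exacts [⟨⟨_, ha⟩, rfl⟩, ⟨⟨_, hb⟩, rfl⟩, ⟨⟨_, hc'⟩, rfl⟩]
  have hbij : Function.Bijective f := (Nat.bijective_iff_surjective_and_card f).2
    ⟨hf, le_antisymm (hc ▸ r.card_le hD) (Nat.card_le_card_of_surjective f hf)⟩
  let e := MulEquiv.ofBijective f hbij
  refine ⟨((MonoidHom.snd _ _).comp D.subtype).comp e.symm.toMonoidHom, ?_⟩
  have : e.symm z = ⟨_, hz⟩ := by rw [MulEquiv.symm_apply_eq]; rfl
  simpa [this] using mZ_ne

/-- The Klein four-subgroup of `S₄`. -/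
def V4 : Subgroup (Perm (Fin 4)) where
  carrier := {σ | σ * σ = 1 ∧ Perm.sign σ = 1}
  one_mem' := by decide
  mul_mem' := by
    intro a b
    simp only [Set.mem_ofPred_eq]
    revert a b; decide +kernel
  inv_mem' := by
    intro a
    simp only [Set.mem_ofPred_eq]
    revert a; decide +kernel

theorem mem_V4 {σ : Perm (Fin 4)} : σ ∈ V4 ↔ σ * σ = 1 ∧ Perm.sign σ = 1 := Iff.rfl

instance V4_normal : V4.Normal := ⟨by simp only [mem_V4]; decide +kernel⟩

theorem V4_two : IsPGroup 2 V4 := fun x => ⟨1, Subtype.ext (by simpa [sq] using x.2.1)⟩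

theorem conj_swap : ∀ τ : Perm (Fin 4), τ * τ = 1 → ¬ (τ * τ = 1 ∧ Perm.sign τ = 1) →
    (∃ ρ, ρ * τ * ρ⁻¹ = swap 0 1) ∧ (∃ ρ, ρ * τ * ρ⁻¹ = swap 1 2) ∧
      ∃ ρ, ρ * τ * ρ⁻¹ = swap 2 3 := by decide +kernel

/-- A double cover of `S₄` in which transpositions lift to involutions and the elements of the
four-group to elements of order four maps to `GL(2,3)` without killing the centre. -/
theorem exists_hom [Finite G] {π : G →* Perm (Fin 4)} (hs : Function.Surjective π) {z : G}
    (hz : orderOf z = 2) (hk : π.ker = zpowers z)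
    (hV : ∀ x, π x ∈ V4 → x * x = 1 → π x = 1) {t : G} (ht : t * t = 1) (ht' : π t ∉ V4) :
    ∃ ψ : G →* GL (Fin 2) (ZMod 3), ψ z ≠ 1 := by
  have hzz : z * z = 1 := by rw [← sq, ← hz, pow_orderOf_eq_one]
  have hker : ∀ x, π x = 1 → x = 1 ∨ x = z := by
    intro x hx
    classical
    have : x ∈ zpowers z := hk ▸ hx
    rw [mem_zpowers_iff_mem_range_orderOf, hz] at this
    simp only [Finset.mem_image, Finset.mem_range] at this
    obtain ⟨k, hk, rfl⟩ := this
    interval_cases k <;> simp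
  have hπz : π z = 1 := by rw [← MonoidHom.mem_ker, hk]; exact mem_zpowers z
  have hz1 : z ≠ 1 := by rintro rfl; simp at hz
  have hcen : ∀ x, z * x = x * z := by
    intro x
    rcases hker (x * z * x⁻¹) (by simp [hπz]) with h | h
    · exact absurd (by simpa using h) hz1
    · rw [← mul_inv_eq_iff_eq_mul.1 h]
  have lift : ∀ s : Perm (Fin 4), (∃ ρ, ρ * π t * ρ⁻¹ = s) → ∃ u, π u = s ∧ u * u = 1 := by
    rintro _ ⟨ρ, rfl⟩
    obtain ⟨r, rfl⟩ := hs ρ
    exact ⟨r * t * r⁻¹, by simp, by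
      calc _ = r * (t * t) * r⁻¹ := by group
        _ = 1 := by simp [ht]⟩
  have fix : ∀ (a : G) (s : Perm (Fin 4)), π a * s * π a = s * π a * s →
      (∃ u, π u = s ∧ u * u = 1) → ∃ u, π u = s ∧ u * u = 1 ∧ a * u * a = u * a * u := by
    rintro a _ h ⟨u, rfl, hu⟩
    rcases hker ((u * a * u)⁻¹ * (a * u * a)) (by simp only [map_mul, map_inv, h]; group) with e | e
    · exact ⟨u, rfl, hu, (inv_mul_eq_one.1 e).symm⟩
    · refine ⟨u * z, by simp [hπz], ?_, ?_⟩
      · rw [mul_assoc, ← mul_assoc z, hcen u, mul_assoc, hzz, mul_one, hu]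
      · rw [inv_mul_eq_iff_eq_mul] at e
        calc a * (u * z) * a = a * u * (z * a) := by group
          _ = a * u * a * z := by rw [hcen a]; group
          _ = u * a * u * (z * z) := by rw [e]; group
          _ = u * (a * u * z) * z := by group
          _ = _ := by rw [← hcen (a * u)]; group
  obtain ⟨h0, h1, h2⟩ := conj_swap (π t) (by rw [← map_mul, ht, map_one]) ht'
  obtain ⟨a, ea, ha⟩ := lift _ h0
  obtain ⟨b, eb, hb, hab⟩ := fix a _ (by rw [ea]; decide) (lift _ h1)
  obtain ⟨c, ec, hc, hbc⟩ := fix b _ (by rw [eb]; decide) (lift _ h2)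
  have hac : a * c * (a * c) = z := by
    refine (hker _ (by simp only [map_mul, ea, ec]; decide)).resolve_left fun h => ?_
    have := hV _ (by rw [map_mul, ea, ec, mem_V4]; decide) h
    rw [map_mul, ea, ec] at this
    exact absurd this (by decide)
  have r : Rel a b c z := ⟨ha, hb, hc, hab, hbc, hac, hzz, hcen a, hcen b, hcen c⟩
  refine r.exists_hom ?_ ?_
  · have h3 : (closure {a, b, c}).map π = ⊤ := by
      rw [MonoidHom.map_closure, Set.image_insert_eq, Set.image_insert_eq, Set.image_singleton,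
        ea, eb, ec, closure_swaps]
    have h4 : π.ker ≤ closure {a, b, c} := by
      rw [hk, zpowers_le, ← hac]
      have h5 : a * c ∈ closure {a, b, c} :=
        mul_mem (subset_closure (by simp)) (subset_closure (by simp))
      exact mul_mem h5 h5
    rw [← comap_map_eq_self h4, h3, comap_top]
  · rw [← card_mul_index π.ker, index_ker, MonoidHom.range_eq_top.2 hs, hk, Nat.card_zpowers, hz,
      card_top, Nat.card_perm, Nat.card_fin]
    rfl

theorem q8_of_odd [Finite G] {T : Subgroup G} (hT : IsPGroup 2 T)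
    (hu : ∀ x ∈ T, ∀ y ∈ T, orderOf x = 2 → orderOf y = 2 → x = y) {g : G}
    (hg : g ∈ normalizer (T : Set G)) (ho : (orderOf g).Coprime 2)
    (hc : g ∉ centralizer (T : Set G)) : Nonempty (T ≃* QuaternionGroup 2) := by
  have hcyc : ¬ IsCyclic T := fun h => by
    obtain ⟨k, hk⟩ := IsPGroup.iff_card.mp hT
    refine hc (Transfer.mem_centralizer_of_isPGroup_mulAut (p := 2)
      (IsPGroup.of_card (n := k - 1) ?_) hg ho)
    rw [IsCyclic.card_mulAut, hk]
    rcases k with _ | k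
    · simp
    · rw [Nat.totient_prime_pow_succ Nat.prime_two]; simp
  obtain ⟨-, m, ⟨e⟩⟩ := (S0016.result 2 hT fun A B hA hB => by
    obtain ⟨x, hx, rfl⟩ := Perm.exists_zpowers_eq_of_card_prime A hA
    obtain ⟨y, hy, rfl⟩ := Perm.exists_zpowers_eq_of_card_prime B hB
    rw [Subtype.ext (hu x x.2 y y.2 (by rwa [orderOf_coe]) (by rwa [orderOf_coe]))]).resolve_left
      hcyc
  obtain ⟨x, y, h, hs⟩ := Inv.exists_quat e
  have h1 : g * x * g⁻¹ ∉ zpowers x := fun h1 => hc (h.centralizes le_rfl hg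
    (Nat.coprime_two_right.mp ho) (inf_eq_left.mpr h.le) h1)
  have h2 := hs _ ((mem_normalizer_iff.mp hg x).mp h.x_mem) h1
  have h3 := h.four_of_sq h2
  rw [Inv.orderOf_conj, h.ord] at h3
  obtain rfl : m = 1 := by
    have := Nat.pow_right_injective le_rfl (h3.trans (by norm_num : 4 = 2 ^ 2))
    omega
  exact ⟨e⟩

theorem card_center_q8 : Nat.card (center (QuaternionGroup 2)) = 2 := by
  rw [Nat.card_eq_fintype_card]
  decide +kernel

/-- A group whose `O₂` is self-centralising with a unique involution is `2`-closed, `GL(2,3)` or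
the binary octahedral group. -/
theorem main [Finite G] (hC : centralizer (pCore 2 G : Set G) ≤ pCore 2 G)
    (hu : ∀ x ∈ pCore 2 G, ∀ y ∈ pCore 2 G, orderOf x = 2 → orderOf y = 2 → x = y) :
    (∃ P : Sylow 2 G, (P : Subgroup G).Normal) ∨ Nonempty (G ≃* GL (Fin 2) (ZMod 3)) ∨
    (Nat.card G = 48 ∧ Nat.card (center G) = 2 ∧ Nonempty (G ⧸ center G ≃* Perm (Fin 4)) ∧
      ∀ P : Sylow 2 G, Nonempty ((P : Subgroup G) ≃* QuaternionGroup 4)) := by
  refine or_iff_not_imp_left.2 fun hn => ?_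
  set Q := pCore 2 G
  have hQ : IsPGroup 2 Q := Core.pCore_isPGroup 2
  have hQn : Q.Normal := inferInstance
  obtain ⟨g, ho, hg⟩ : ∃ g : G, (orderOf g).Coprime 2 ∧ g ≠ 1 := by
    by_contra h
    push Not at h
    have : IsPGroup 2 (⊤ : Subgroup G) := fun x => by
      obtain ⟨k, m, hm, e⟩ := Nat.exists_eq_two_pow_mul_odd (orderOf_pos (x : G)).ne'
      refine ⟨k, Subtype.ext (h _ (Nat.coprime_two_right.2 (hm.of_dvd_nat
        (orderOf_dvd_of_pow_eq_one ?_))))⟩
      rw [coe_pow, ← pow_mul, ← e, pow_orderOf_eq_one]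
    obtain ⟨P, hP⟩ := this.exists_le_sylow
    exact hn ⟨P, top_le_iff.1 hP ▸ inferInstance⟩
  have hgC : g ∉ centralizer (Q : Set G) := fun h => by
    have := hQ.dvd_orderOf (g := ⟨g, hC h⟩) (fun e => hg (congrArg Subtype.val e))
    rw [← orderOf_coe] at this
    exact absurd (Nat.Coprime.eq_one_of_dvd (Nat.coprime_comm.1 ho) this) (by norm_num)
  obtain ⟨e⟩ := q8_of_odd hQ hu (by rw [normalizer_eq_top]; trivial) ho hgC
  obtain ⟨e2⟩ := S3742.result
  have hQ8 : Nat.card Q = 8 := by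
    rw [Nat.card_congr e.toEquiv, Nat.card_eq_fintype_card, QuaternionGroup.card]
  let π : G →* Perm (Fin 4) :=
    ((MulAut.congr e).trans e2).toMonoidHom.comp (MulAut.conjNormal (H := Q))
  have hk : π.ker = centralizer (Q : Set G) := by
    ext x
    simp only [π, MonoidHom.mem_ker, MonoidHom.comp_apply, MulEquiv.coe_toMonoidHom,
      EmbeddingLike.map_eq_one_iff, mem_centralizer_iff, MulEquiv.ext_iff, Subtype.ext_iff,
      MulAut.conjNormal_apply, MulAut.one_apply, Subtype.forall, SetLike.mem_coe,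
      mul_inv_eq_iff_eq_mul]
    exact ⟨fun h a ha => (h a ha).symm, fun h a ha => (h a ha).symm⟩
  have hk2 : Nat.card π.ker = 2 := by
    have : π.ker = (center Q).map Q.subtype := by
      rw [hk]
      ext x
      refine ⟨fun h => ⟨⟨x, hC h⟩, mem_center_iff.2 fun a => Subtype.ext (h a a.2), rfl⟩, ?_⟩
      rintro ⟨x, hx, rfl⟩ a ha
      exact congrArg Subtype.val (mem_center_iff.1 hx ⟨a, ha⟩)
    rw [this, card_map_of_injective Q.subtype_injective, ← card_center_q8]
    exact Nat.card_congr (centerCongr e).toEquiv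
  have hc := card_mul_index π.ker
  rw [hk2, index_ker] at hc
  have hr : Nat.card π.range ∣ 24 := by
    have := card_subgroup_dvd_card π.range
    rwa [Nat.card_perm, Nat.card_fin] at this
  have h16 : ∀ P : Sylow 2 G, 16 ∣ Nat.card (P : Subgroup G) := fun P => by
    have hle : Q ≤ P := hQ.le_sylow_of_normal P
    have hlt := Core.card_lt_of_lt (lt_of_le_of_ne hle fun h => hn ⟨P, h ▸ inferInstance⟩)
    obtain ⟨k, hk⟩ := IsPGroup.iff_card.1 P.isPGroup'
    rw [hQ8, hk, show 8 = 2 ^ 3 from rfl, Nat.pow_lt_pow_iff_right one_lt_two] at hlt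
    rw [hk]
    exact pow_dvd_pow 2 (show 4 ≤ k from hlt)
  have h3 : 3 ∣ Nat.card π.range := by
    have h1 : orderOf (π g) ∣ Nat.card π.range := orderOf_dvd_natCard _ ⟨g, rfl⟩
    have h2 : orderOf (π g) ≠ 1 := fun h => hgC (hk ▸ orderOf_eq_one_iff.1 h)
    have h4 : (orderOf (π g)).Coprime (2 ^ 3) :=
      (ho.coprime_dvd_left (orderOf_map_dvd π g)).pow_right 3
    have h5 : orderOf (π g) ∣ 3 := h4.dvd_of_dvd_mul_left (h1.trans hr)
    rwa [((Nat.dvd_prime Nat.prime_three).1 h5).resolve_left h2] at h1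
  have h24 : Nat.card π.range = 24 := by
    obtain ⟨P⟩ : Nonempty (Sylow 2 G) := inferInstance
    have h1 := (h16 P).trans (card_subgroup_dvd_card _)
    rw [← hc] at h1
    exact Nat.dvd_antisymm hr (Nat.Coprime.mul_dvd_of_dvd_of_dvd (m := 8) (n := 3) (by norm_num)
      (Nat.dvd_of_mul_dvd_mul_left two_pos h1) h3)
  have hs : π.range = ⊤ := eq_top_of_card_eq _ (by rw [h24, Nat.card_perm, Nat.card_fin]; rfl)
  have hs' := MonoidHom.range_eq_top.1 hs
  have h48 : Nat.card G = 48 := by rw [← hc, h24]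
  obtain ⟨z, hz, hkz⟩ := Perm.exists_zpowers_eq_of_card_prime π.ker hk2
  have hzQ : z ∈ Q := hC (hk ▸ hkz ▸ mem_zpowers z)
  have hVQ : V4.comap π ≤ Q := Core.le_pCore inferInstance
    (V4_two.comap_of_ker_isPGroup π (IsPGroup.of_card (n := 1) hk2))
  by_cases ht : ∃ t : G, t * t = 1 ∧ π t ∉ V4
  · obtain ⟨t, ht, ht'⟩ := ht
    obtain ⟨ψ, hψ⟩ := exists_hom hs' hz hkz (fun x hx h => by
      by_cases h1 : x = 1
      · simp [h1]
      rw [hu x (hVQ hx) z hzQ (orderOf_eq_prime (by rw [sq, h]) h1) hz, ← MonoidHom.mem_ker, hkz]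
      exact mem_zpowers z) ht ht'
    have h1 : ψ.ker ⊓ Q = ⊥ := by
      by_contra h
      obtain ⟨x, hx⟩ := exists_prime_orderOf_dvd_card' (G := ↥(ψ.ker ⊓ Q)) 2 (by
        obtain ⟨k, hk⟩ := IsPGroup.iff_card.1 (hQ.to_inf_right (H := ψ.ker))
        rcases k with _ | k
        · exact absurd (eq_bot_of_card_eq _ hk) h
        · rw [hk]; exact dvd_pow_self 2 k.succ_ne_zero)
      exact hψ (hu x x.2.2 z hzQ (by rwa [orderOf_coe]) hz ▸ x.2.1)
    have h2 : ψ.ker ≤ Q := le_trans (commutator_eq_bot_iff_le_centralizer.1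
      (le_bot_iff.1 (h1 ▸ commutator_le_inf _ _))) hC
    have h3 : Function.Injective ψ := by
      rw [← MonoidHom.ker_eq_bot_iff, ← h1, inf_eq_left.2 h2]
    exact Or.inl ⟨MulEquiv.ofBijective ψ ((Nat.bijective_iff_injective_and_card ψ).2 ⟨h3, by
      rw [h48, Matrix.card_GL_field]; simp [Fin.prod_univ_succ]⟩)⟩
  push Not at ht
  have hZ : π.ker = center G := by
    refine le_antisymm ?_ ?_
    · rw [hkz, zpowers_le, mem_center_iff]
      intro x
      have := hu _ (‹Q.Normal›.conj_mem z hzQ x) z hzQ (by rw [Inv.orderOf_conj, hz]) hz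
      exact mul_inv_eq_iff_eq_mul.1 this
    · rw [hk]; exact center_le_centralizer _
  refine Or.inr ⟨h48, hZ ▸ hk2, ⟨(QuotientGroup.quotientMulEquivOfEq hZ.symm).trans
    (QuotientGroup.quotientKerEquivOfSurjective π hs')⟩, fun P => ?_⟩
  have hle : Q ≤ P := hQ.le_sylow_of_normal P
  have hP : Nat.card (P : Subgroup G) = 16 := by
    refine Nat.dvd_antisymm ?_ (h16 P)
    obtain ⟨k, hk⟩ := IsPGroup.iff_card.1 P.isPGroup'
    have := card_subgroup_dvd_card (P : Subgroup G)
    rw [h48, hk] at this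
    rw [hk]
    exact (Nat.Coprime.pow_left k (by norm_num : Nat.Coprime 2 3)).dvd_of_dvd_mul_right this
  have h2 : ∀ x : G, orderOf x = 2 → x ∈ Q := fun x hx =>
    hVQ (ht x (by rw [← sq, ← hx, pow_orderOf_eq_one]))
  rcases S0016.result 2 P.isPGroup' fun A B hA hB => by
    obtain ⟨x, hx, rfl⟩ := Perm.exists_zpowers_eq_of_card_prime A hA
    obtain ⟨y, hy, rfl⟩ := Perm.exists_zpowers_eq_of_card_prime B hB
    rw [← orderOf_coe] at hx hy
    rw [Subtype.ext (hu x (h2 _ hx) y (h2 _ hy) hx hy)] with h | ⟨-, m, ⟨e3⟩⟩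
  · haveI : IsCyclic Q := isCyclic_of_injective (inclusion hle) (inclusion_injective hle)
    haveI : IsCyclic (QuaternionGroup 2) := isCyclic_of_surjective e e.surjective
    have := mul_comm' (QuaternionGroup.a 1 : QuaternionGroup 2) (QuaternionGroup.xa 0)
    exact absurd this (by decide)
  · have h4 := Nat.card_congr e3.toEquiv
    rw [hP, Nat.card_eq_fintype_card, QuaternionGroup.card] at h4
    have : 2 ^ m = 4 := by omega
    exact ⟨this ▸ e3⟩

end Cfsg.Agent.Inv.GL23
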