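import Mathlib
import Cfsg.Agent.Fil.H
import Cfsg.Agent.Gp.Three
import Cfsg.Agent.GW.Quat
import Cfsg.Agent.Inv.NFour
import Cfsg.Agent.Inv.Pairs
import Cfsg.Agent.Inv.ZStar
import Cfsg.Agent.PGrp.MaxClass2
import Cfsg.Agent.S3308

/-! Groups whose Sylow 2-intersections have 2-rank at most one: basics. -/

set_option autoImplicit false
set_option linter.unusedSectionVars false

namespace Cfsg.Agent.LR

open Subgroup Cfsg.Agent.GW Cfsg.Agent.LocalEven Cfsg.Agent.BG Cfsg.Agent.Gs Cfsg.Agent.GsC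
open Cfsg.Agent.Perm (GQ)

variable {G : Type*} [Group G] [Finite G] {S T D E A L W : Subgroup G} {a b d g t : G}

/-- at most one involution -/
def U1 (D : Subgroup G) : Prop :=
  ∀ a ∈ D, ∀ b ∈ D, a * a = 1 → b * b = 1 → a ≠ 1 → b ≠ 1 → a = b

/-- Sylow intersections have at most one involution -/
def UI (G : Type*) [Group G] : Prop :=
  ∀ S T : Subgroup G, IsSylowIn 2 S ⊤ → IsSylowIn 2 T ⊤ → S ≠ T → U1 (S ⊓ T)

theorem U1.mono (h : U1 D) (hE : E ≤ D) : U1 E := fun a ha b hb => h a (hE ha) b (hE hb)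

theorem U1.cases (h : U1 D) (ha : a ∈ D) (hb : b ∈ D) (a2 : a * a = 1) (b2 : b * b = 1)
    (b1 : b ≠ 1) : a = 1 ∨ a = b := (em _).imp id fun a1 => h a ha b hb a2 b2 a1 b1

theorem u1_of_rank (hD : IsPGroup 2 D) (h : PRankLE 2 1 D) : U1 D := fun a ha b hb a2 b2 a1 b1 => by
  obtain ⟨z, hz, z2⟩ := exists_OZ hD fun e => a1 (mem_bot.1 (e ▸ ha))
  have k : ∀ x ∈ D, x * x = 1 → x ≠ 1 → x = z := fun x hx x2 x1 => by_contra fun hne =>
    S3185.not_rank h hz.1 hx z2 x2 x1 hne (hz.2.1 x hx).symm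
  rw [k a ha a2 a1, k b hb b2 b1]

theorem u1_of_cyc (h : IsCyclic D) : U1 D := fun a ha b hb a2 b2 a1 b1 => by_contra fun hne =>
  S3185.not_rank (S3308.rank_of_cyc h) ha hb (two_of_sq a2 a1) b2 b1 (Ne.symm hne)
    (congrArg Subtype.val (h.commGroup.mul_comm (⟨a, ha⟩ : D) ⟨b, hb⟩))

theorem not_u1 (ha : a ∈ D) (hb : b ∈ D) (a2 : a * a = 1) (b2 : b * b = 1) (a1 : a ≠ 1)
    (b1 : b ≠ 1) (hne : a ≠ b) : ¬ U1 D := fun h => hne (h a ha b hb a2 b2 a1 b1)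

theorem UI.eq (hU : UI G) (hS : IsSylowIn 2 S ⊤) (hT : IsSylowIn 2 T ⊤) (h1 : W ≤ S) (h2 : W ≤ T)
    (hW : ¬ U1 W) : S = T := by_contra fun h => hW ((hU S T hS hT h).mono (le_inf h1 h2))

theorem UI.u1 (hU : UI G) (hS : IsSylowIn 2 S ⊤) (hg : g ∉ 𝐍(S)) : U1 (S ⊓ cj g S) :=
  hU S _ hS (hS.cj_of_mem (mem_top g)) fun e => hg (cj_eq_self_iff.1 e.symm)

theorem UI.norm (hU : UI G) (hS : IsSylowIn 2 S ⊤) (h1 : W ≤ S) (h2 : W ≤ cj g S) (hW : ¬ U1 W) :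
    g ∈ 𝐍(S) := by_contra fun h => hW ((hU.u1 hS h).mono (le_inf h1 h2))

theorem lift_syl {Q : Type*} [Group Q] [Finite Q] (f : G →* Q) (hf : Function.Surjective f)
    {U : Subgroup Q} (hU : IsSylowIn 2 U ⊤) (hD : IsPGroup 2 D) (h : D ≤ U.comap f) :
    ∃ P, IsSylowIn 2 P ⊤ ∧ D ≤ P ∧ P.map f = U := by
  obtain ⟨P, hP, h2⟩ := exists_isSylowIn_le hD h
  exact ⟨P, hP.of_not_dvd_relIndex le_top (by
    rw [relIndex_top_right, index_comap_of_surjective _ hf, ← relIndex_top_right]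
    exact hU.not_dvd), h2,
    (map_comap_eq_self_of_surjective hf U ▸ hP.map f).eq_of_isPGroup hU.pgrp⟩

theorem inj_of_odd {Q : Type*} [Group Q] {f : G →* Q} (ho : Odd (Nat.card f.ker))
    (hD : IsPGroup 2 D) (ha : a ∈ D) (h : f a = 1) : a = 1 := Fil.eq_one_of hD ho ha h

theorem UI.quot (hU : UI G) {Q : Type*} [Group Q] [Finite Q] (f : G →* Q)
    (hf : Function.Surjective f) (ho : Odd (Nat.card f.ker)) : UI Q := fun S T hS hT h => by
  obtain ⟨D, hD⟩ := exists_isSylowIn 2 ((S ⊓ T).comap f)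
  obtain ⟨P, h0, h1, h2⟩ := lift_syl f hf hS hD.pgrp (hD.le.trans (comap_mono inf_le_left))
  obtain ⟨P', h0', h3, h4⟩ := lift_syl f hf hT hD.pgrp (hD.le.trans (comap_mono inf_le_right))
  have h6 := (hU P P' h0 h0' fun e => h (by rw [← h2, e, h4])).mono (le_inf h1 h3)
  have h5 := hD.map f
  rw [map_comap_eq_self_of_surjective hf] at h5
  rw [← h5.eq_of_isPGroup (hS.pgrp.to_le inf_le_left)]
  rintro _ ⟨x, hx, rfl⟩ _ ⟨y, hy, rfl⟩ x2 y2 x1 y1
  rw [h6 x hx y hy (inj_of_odd ho hD.pgrp (mul_mem hx hx) (by rw [map_mul, x2]))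
    (inj_of_odd ho hD.pgrp (mul_mem hy hy) (by rw [map_mul, y2]))
    (fun e => x1 (by rw [e, map_one])) fun e => y1 (by rw [e, map_one])]

theorem U1.gq (h : U1 D) (hD : IsPGroup 2 D) (hc : ¬ IsCyclic D) : ∃ a b n, GQ D a b n := by
  have k : ∀ H : Subgroup D, Nat.card H = 2 → ∃ x : D, x * x = 1 ∧ x ≠ 1 ∧ H = zpowers x :=
    fun H hH => by
    obtain ⟨x, hx, x2⟩ := exists_mem_orderOf_eq (p := 2) (H := H) (hH ▸ dvd_rfl)
    exact ⟨x, sq_of_two x2, ne_one_of_orderOf_eq x2, (eq_of_le_of_card_le (zpowers_le.2 hx)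
      (by rw [Nat.card_zpowers, x2, hH])).symm⟩
  rcases PGrp.isCyclic_or_quaternion_of_unique hD (fun H K hH hK => by
    obtain ⟨x, x2, x1, rfl⟩ := k H hH
    obtain ⟨y, y2, y1, rfl⟩ := k K hK
    rw [show x = y from Subtype.ext (h x x.2 y y.2 (congrArg Subtype.val x2) (congrArg Subtype.val y2)
      (fun e => x1 (Subtype.ext e)) fun e => y1 (Subtype.ext e))]) with e | ⟨-, m, -, ⟨e⟩⟩
  · exact absurd e hc
  · exact Perm.exists_gq e hc

theorem exists_four_elt {k : ℕ} (hd : d ^ 2 ^ k = 1) (h : d * d ≠ 1) :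
    ∃ w ∈ zpowers d, w * w ≠ 1 ∧ w * w * (w * w) = 1 := by
  induction k generalizing d with
  | zero => exact absurd (by rw [show d = 1 by simpa using hd, mul_one]) h
  | succ k ih =>
    by_cases h2 : d * d * (d * d) = 1
    · exact ⟨d, mem_zpowers d, h, h2⟩
    · obtain ⟨w, hw, k1⟩ := ih (d := d * d) (by rw [← pow_two, ← pow_mul, ← pow_succ', hd]) h2
      exact ⟨w, zpowers_le.2 (mul_mem (mem_zpowers d) (mem_zpowers d)) hw, k1⟩

theorem U1.small (h : U1 E) (hE : IsPGroup 2 E) (hA : A ≤ E) (hc : ¬ IsCyclic A) (hd : d ∈ E)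
    (hdc : d ∈ 𝐂(A)) : d * d = 1 := by
  by_contra h2
  obtain ⟨k, hk⟩ := isPGroup_iff_mem.1 hE d hd
  obtain ⟨w, hw, w1, w2⟩ := exists_four_elt hk h2
  have wE : w ∈ E := zpowers_le.2 hd hw
  have wc : w ∈ 𝐂(A) := zpowers_le.2 hdc hw
  obtain ⟨a, b, n, q⟩ := (h.mono hA).gq (hE.to_le hA) hc
  have z1 : a ^ 2 ^ (n + 1) ≠ 1 := ne_one_of_orderOf_eq q.z_two
  have hz : w * w = a ^ 2 ^ (n + 1) := h _ (mul_mem wE wE) _ (hA q.z_mem) w2 q.zz w1 z1
  have k : ∀ i ∈ A, i * i = a ^ 2 ^ (n + 1) → i * w ∈ zpowers a := fun i hi e => by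
    rcases h.cases (mul_mem (hA hi) wE) (hA q.z_mem) (by
      rw [mul_assoc, ← mul_assoc w, ← wc i hi, mul_assoc, hz, ← mul_assoc, e, q.zz]) q.zz z1 with e | e
    · rw [e]; exact one_mem _
    · rw [e]; exact Inv.MC.z_memX a _
  have h3 := k _ (pow_mem q.x_mem (2 ^ n)) (by rw [← pow_add, ← two_mul, ← pow_succ'])
  have h4 := mul_mem (mul_mem (k b q.y_mem q.bb) (inv_mem h3)) (pow_mem (mem_zpowers a) (2 ^ n))
  exact q.ny (by simpa [mul_assoc] using h4)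

theorem not_cyc (hT : IsSylowIn 2 T L) (hL : ¬ Group.IsSolvable L) : ¬ IsCyclic T := fun h =>
  hL (FGS.solvable_of_cyclic_two hT.toSylow (isCyclic_of_surjective _
    (subgroupOfEquivOfLe hT.le).symm.surjective))

theorem U1.central (h : U1 D) (hn : g ∈ 𝐍(D)) (ha : a ∈ D) (a2 : a * a = 1) : g ∈ cz a := by
  by_cases a1 : a = 1
  · rw [mem_cz, a1, mul_one, one_mul]
  exact mem_cz_of_conj (h _ (conj_mem_of_mem_normalizer hn ha) a ha
    (by rw [conj_mul, a2, mul_one, mul_inv_cancel]) a2 (by simpa using a1) a1)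

/-- `S` is the only Sylow subgroup over `W`. -/
def Uq (W S : Subgroup G) : Prop := ∀ T, IsSylowIn 2 T ⊤ → W ≤ T → T = S

theorem Uq.norm (hq : Uq W S) (hS : IsSylowIn 2 S ⊤) (h : W ≤ cj g S) : g ∈ 𝐍(S) :=
  cj_eq_self_iff.1 (hq _ (hS.cj_of_mem (mem_top g)) h)

theorem Uq.cz_le (hq : Uq (zpowers t) S) (hS : IsSylowIn 2 S ⊤) (ht : t ∈ S) : cz t ≤ 𝐍(S) :=
  fun c hc => hq.norm hS (zpowers_le.2 (conj_eq_of_mem_cz hc ▸ conj_mem_cj ht))

theorem Uq.conj (hq : Uq (zpowers t) S) (hg : g ∈ S) : Uq (zpowers (g * t * g⁻¹)) S :=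
  fun T hT h => by
  have := hq _ (hT.cj_of_mem (mem_top g⁻¹)) (zpowers_le.2 (mem_cj_inv.2 (h (mem_zpowers _))))
  rw [cj_eq_iff, inv_inv, cj_eq_of_mem hg] at this
  exact this

theorem as1 (hL : AS L) (hS : IsSylowIn 2 S ⊤) (hW : W ≤ OZ S) (hq : Uq W S) :
    GP L (OZ S) ∧ S ≤ L := by
  haveI := hL.normal
  have hV : SC (OZ S) := by
    obtain ⟨S, rfl⟩ := hS.exists_sylow_top
    exact sc_OZ S fun T w hT hwS _ _ _ _ hD => hT (Sylow.ext (hq _ (isSylowIn_top T) fun x hx =>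
      (hD.ge ⟨(hW hx).1, mem_cz.2 ((hW hx).2.1 w hwS).symm⟩).2))
  have hT := hS.inf_of_le_normalizer (N := L) le_top le_normalizer_of_normal
  have hG := AS_gp hL hV (OZ_ne_bot hS.pgrp fun e => hT.ne_bot (even_iff_two_dvd.1
    (Nat.not_odd_iff_even.1 hL.not_odd)) (by rw [e, bot_inf_eq]))
  refine ⟨hG, GP_le hG hS (fun _ h => h.1) (le_cent_comm.1 fun _ h => h.2.1) fun g hg =>
    hq.norm hS fun x hx => ?_⟩
  exact cj_mono g inf_le_left ((cj_eq_of_mem_normalizer hg.2).ge ⟨(hW hx).1, hG.le (hW hx)⟩)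

theorem as_ab (hG : GP L (OZ S)) (hS : IsPGroup 2 S) (hle : S ≤ L) (hE : ¬ SE L) : OZ S = S :=
  ((hG.syl hE).max _ hle hS fun _ h => h.1).symm

theorem as_se (hL : AS L) (hS : IsSylowIn 2 S ⊤) (hd : d ∈ OZ S) (d1 : d ≠ 1)
    (hq : Uq (zpowers d) S) : SE L := by
  obtain ⟨hG, hle⟩ := as1 hL hS (zpowers_le.2 hd) hq
  by_contra hE
  have h1 := hG.gen hE hd d1
  rw [as_ab hG hS.pgrp hle hE] at h1
  exact hL.not_solv (Fil.solv_of_norm (hS.mono hle le_top) (h1.trans (sup_le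
    (inf_le_right.trans (hq.cz_le hS hd.1)) inf_le_right)))

theorem as_dih (hL : AS L) (hS : IsSylowIn 2 S ⊤) (ht : t ∈ S) (t2 : t * t = 1)
    (hq : Uq (zpowers t) S) (ha : a ∈ S) (hgen : ∀ s ∈ S, s ∈ zpowers a ∨ s * t⁻¹ ∈ zpowers a)
    (hinv : t * a * t⁻¹ = a⁻¹) : t ∈ 𝐂(S) := by
  by_contra hc
  have inv : ∀ c ∈ zpowers a, t * c * t⁻¹ = c⁻¹ := by
    rintro _ ⟨n, rfl⟩
    simp only [← conj_zpow, hinv, inv_zpow]

  have cS : ∀ x ∈ cz a, x ∈ cz t → x ∈ 𝐂(S) := fun x h1 h2 => le_cz_iff.1 fun s hs => by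
    have h3 : zpowers a ≤ cz x := zpowers_le.2 (mem_cz_comm.1 h1)
    rcases hgen s hs with e | e
    · exact h3 e
    · simpa using mul_mem (h3 e) (mem_cz_comm.1 h2)
  have a2 : a * a ≠ 1 := fun e => hc (cS t (mem_cz_of_conj (by
    rw [hinv, inv_eq_iff_mul_eq_one, e])) (self_mem_cz t))
  obtain ⟨k, hk⟩ := isPGroup_iff_mem.1 hS.pgrp a ha
  obtain ⟨w, hw, s1, s2⟩ := exists_four_elt hk a2
  have hs : w * w ∈ zpowers a := mul_mem hw hw
  have sc : w * w ∈ 𝐂(S) := cS _ (zpowers_le.2 (self_mem_cz a) hs) (mem_cz_of_conj' (by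
    rw [inv _ hs, inv_eq_iff_mul_eq_one, s2]))
  have wS : w ∈ S := zpowers_le.2 ha hw
  have hw' : w * t * w⁻¹ = w * w * t := by
    rw [mul_assoc, mul_assoc w w, mul_right_inj, ← inv _ hw]
    simp [← mul_assoc, t2, inv_eq_of_mul_eq_one_right t2]
  have u1 : U1 (zpowers a) := u1_of_cyc inferInstance
  generalize w * w = s at *
  have sS : s ∈ S := zpowers_le.2 ha hs
  have key : ∀ g : G, g * s * g⁻¹ ∈ cz s := fun g => by
    have g2 : g * s * g⁻¹ * (g * s * g⁻¹) = 1 := by rw [conj_mul, s2, mul_one, mul_inv_cancel]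
    have fin : ∀ u : G, Uq (zpowers u) S → u ∈ S → g * s * g⁻¹ ∈ cz u → g * s * g⁻¹ ∈ cz s :=
      fun u h1 h2 h3 => mem_cz.2 (sc _ (hS.mem_of_mem_normalizer (mem_top _) (k := 1)
        (by rw [pow_one, pow_two, g2]) (h1.cz_le hS h2 h3)))
    rcases Nat.even_or_odd (orderOf (t * (g * s * g⁻¹))) with he | ho
    · obtain ⟨u2, c1, c2⟩ := Inv.half_power t2 g2 he
      generalize (t * (g * s * g⁻¹)) ^ (orderOf (t * (g * s * g⁻¹)) / 2) = u at u2 c1 c2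
      have uS : u ∈ S := hS.mem_of_mem_normalizer (mem_top _) (k := 1)
        (by rw [pow_one, pow_two, sq_of_two u2]) (hq.cz_le hS ht (mem_cz.2 c1.eq))
      have c3 : g * s * g⁻¹ ∈ cz u := mem_cz.2 c2.eq.symm
      rcases hgen u uS with e | e
      · exact congrArg cz (u1 u e s hs (sq_of_two u2) s2 (ne_one_of_orderOf_eq u2) s1) ▸ c3
      · have e2 : u * t⁻¹ * (u * t⁻¹) = 1 := by
          rw [mul_assoc, ← mul_assoc t⁻¹, ← c1.inv_right.eq, mul_assoc, ← mul_inv_rev, t2, inv_one,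
            mul_one, sq_of_two u2]
        rcases u1.cases e hs e2 s2 s1 with e3 | e3
        · rw [mul_inv_eq_one] at e3
          exact fin t hq ht (e3 ▸ c3)
        · rw [mul_inv_eq_iff_eq_mul, ← hw'] at e3
          exact fin u (e3 ▸ hq.conj wS) uS c3
    · obtain ⟨h, e⟩ := isConj_iff.1 (Inv.isConj_of_odd t2 g2 ho)
      have e' : t = h⁻¹ * g * s * (h⁻¹ * g)⁻¹ := by rw [← mul_right_inj h, ← mul_left_inj h⁻¹, e]; group
      have h1 := hq _ (hS.cj_of_mem (mem_top (h⁻¹ * g))) (zpowers_le.2 (e' ▸ conj_mem_cj sS))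
      refine absurd ?_ hc
      rw [← h1, ← cj_centralizer]
      exact e' ▸ conj_mem_cj sc
  have cm : normalClosure {s} ≤ 𝐂(normalClosure {s}) := by
    unfold normalClosure
    rw [centralizer_closure, closure_le]
    intro x hx y hy
    obtain ⟨x', e1, hx'⟩ := Group.mem_conjugatesOfSet_iff.1 hx
    obtain ⟨y', e2, hy'⟩ := Group.mem_conjugatesOfSet_iff.1 hy
    rw [Set.mem_singleton_iff.1 e1] at hx'
    rw [Set.mem_singleton_iff.1 e2] at hy'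
    obtain ⟨g, rfl⟩ := isConj_iff.1 hx'
    obtain ⟨h, rfl⟩ := isConj_iff.1 hy'
    have := mem_cz.1 (key (g⁻¹ * h))
    rw [← mul_right_inj g⁻¹, ← mul_left_inj g]
    convert this using 1 <;> group
  have := hL.solv_bot (Y := normalClosure {s}) (Group.isSolvable_of_comm fun x y =>
    Subtype.ext (cm y.2 x x.2)) le_normalizer_of_normal
  exact s1 (mem_bot.1 (this ▸ subset_normalClosure rfl))

theorem se_of_ti (hL : AS L) (hT : IsSylowIn 2 T L)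
    (h : ∀ t ∈ T, t ≠ 1 → ∀ g ∈ L, g * t * g⁻¹ ∈ T → g ∈ 𝐍(T)) : SE L := by
  obtain ⟨s, hs, s2⟩ := exists_mem_orderOf_eq_of_ne_bot hT.pgrp (hT.ne_bot (even_iff_two_dvd.1
    (Nat.not_odd_iff_even.1 hL.not_odd)))
  have k : ∀ x : L, orderOf x = 2 → (x : G) ∈ 𝐍(T) → (x : G) ∈ T := fun x x2 hx =>
    hT.mem_of_mem_normalizer x.2 (k := 1) (by
      rw [pow_one, ← x2, ← coe_pow, pow_orderOf_eq_one, coe_one]) hx
  refine ⟨𝐍(T).subgroupOf L, Inv.se_of (fun e => hL.not_solv (Fil.solv_of_norm hT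
    (subgroupOf_eq_top.1 e))) (s := ⟨s, hT.le hs⟩) (le_normalizer hs) (by rwa [← orderOf_coe])
    fun t ht t2 g hg => h t (k t t2 ht) (fun e => ne_one_of_orderOf_eq t2 (Subtype.ext e)) g g.2
      (k (g * t * g⁻¹) (by rw [← t2]; exact (MulAut.conj g).orderOf_eq t) hg)⟩

end Cfsg.Agent.LR
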