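import Mathlib
import Cfsg.Agent.Inv.LR1

/-! Groups whose Sylow 2-intersections have 2-rank at most one: a unique component. -/

set_option autoImplicit false
set_option linter.unusedSectionVars false

namespace Cfsg.Agent.LR

open Subgroup Cfsg.Agent.GW Cfsg.Agent.LocalEven Cfsg.Agent.BG Cfsg.Agent.Gs Cfsg.Agent.GsC
open Cfsg.Agent.Perm (GQ)

variable {G : Type*} [Group G] [Finite G] {S T D E A L L' W P : Subgroup G} {a b d g t z : G}

theorem exists_P' (hO : oOf (⊤ : Subgroup G) = ⊥) : ∃ P : Subgroup G, P.Normal ∧ IsPGroup 2 P ∧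
    ∀ x, (∀ L, PC ⊤ L → x ∈ Cent L) → x ∈ 𝐂(P) → x ∈ P := by
  obtain ⟨P, -, -, h1, h2, h3⟩ := exists_P (⊤ : Subgroup G)
  rw [hO] at h2 h3
  haveI nP : P.Normal := normalizer_eq_top_iff.1 (top_le_iff.1 h1)
  obtain ⟨k, hk⟩ := h2.exists_card_eq
  exact ⟨P, nP, .of_card (n := k) (by
      rw [← hk, QuoApi.card_quo_of_disjoint le_normalizer_of_normal (inf_bot_eq _)]),
    fun x k hx => h3 x (mem_top x) k (commutator_eq_bot_iff_le_centralizer.2
      (le_cent_comm.1 (zpowers_le.2 hx))).le⟩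

theorem not_solv_top (h : ¬ Group.IsSolvable G) : ¬ Group.IsSolvable (⊤ : Subgroup G) := fun _ =>
  h (Group.isSolvable_of_surjective (f := (⊤ : Subgroup G).subtype) fun x => ⟨⟨x, mem_top x⟩, rfl⟩)

theorem le_syl [P.Normal] (hP : IsPGroup 2 P) (hS : IsSylowIn 2 S ⊤) : P ≤ S :=
  hS.le_of_le_normalizer le_top hP le_normalizer_of_normal

theorem exists_pc (hU : UI G) (hO : oOf (⊤ : Subgroup G) = ⊥) (hns : ¬ Group.IsSolvable G) :
    ∃ L : Subgroup G, PC ⊤ L := by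
  by_contra hL
  obtain ⟨P, nP, h2, h3⟩ := exists_P' hO
  obtain ⟨S, hS⟩ := exists_isSylowIn 2 (⊤ : Subgroup G)
  obtain ⟨g, -, hg⟩ := SetLike.not_le_iff_exists.1 (mt (Fil.solv_of_norm hS) (not_solv_top hns))
  have u : U1 P := (hU.u1 hS hg).mono (le_inf (le_syl h2 hS) (le_syl h2 (hS.cj_of_mem (mem_top g))))
  obtain ⟨z, hz⟩ : ∃ z : P, {x : P | x * x = 1} ⊆ {1, z} := by
    by_cases h : ∃ z : P, z * z = 1 ∧ z ≠ 1
    · obtain ⟨z, z2, z1⟩ := h
      exact ⟨z, fun x hx => (u.cases x.2 z.2 (congrArg Subtype.val hx) (congrArg Subtype.val z2)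
        fun e => z1 (Subtype.ext e)).imp Subtype.ext Subtype.ext⟩
    · exact ⟨1, fun x hx => .inl (by_contra fun e => h ⟨x, hx, e⟩)⟩
  haveI := Gp.Three.solv_of_central h2 (fun x hx => mem_center_iff.2 fun y => Subtype.ext
    (mem_cz.1 (u.central (le_normalizer y.2) x.2 (congrArg Subtype.val hx))))
    ((Set.ncard_le_ncard hz).trans ((Set.ncard_insert_le _ _).trans (by simp)))
  haveI := Core.solvable_of_isPGroup h2
  refine hns (Group.isSolvable_of_ker_le_range P.subtype (MulAut.conjNormal (H := P)) fun x hx =>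
    ⟨⟨x, h3 x (fun L k => absurd ⟨L, k⟩ hL) fun y hy => ?_⟩, rfl⟩)
  have := congrArg (fun f : MulAut P => (f ⟨y, hy⟩ : G)) (MonoidHom.mem_ker.1 hx)
  simp only [MulAut.conjNormal_apply, MulAut.one_apply, mul_inv_eq_iff_eq_mul] at this
  exact this.symm

section
variable (hO : oOf (⊤ : Subgroup G) = ⊥) (hL : PC ⊤ L)
include hO hL

theorem cent_le : Cent L ≤ 𝐂(L) := fun _ hx _ hl => (Fil.cent_eq hO hL hx hl).symm

theorem cA (hU : UI G) (hS : IsSylowIn 2 S ⊤) : U1 (S ⊓ Cent L) := by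
  obtain ⟨g, hg, hg'⟩ := SetLike.not_le_iff_exists.1
    (mt (Fil.solv_of_norm (sylow_inf_sn hS hL.sn)) hL.not_solvable)
  refine (hU.u1 hS (g := g) fun k => hg' (le_normalizer_inf (L := zpowers g) (zpowers_le.2 k)
    (zpowers_le.2 (le_normalizer hg)) (mem_zpowers g))).mono
      (le_inf inf_le_left fun d hd => mem_cj.2 ?_)
  rw [mul_assoc, Fil.cent_eq hO hL hd.2 hg, inv_mul_cancel_left]
  exact hd.1

theorem ZL (hT : IsSylowIn 2 T L) : L ⊓ Cent L ≤ T := fun x hx => by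
  obtain ⟨s, -, o, ho, ⟨k, hk⟩, h1, h2⟩ := exists_two_odd x
  have := hL.oOf_le (hL.mem_oOf_of_odd (zpowers_le.2 hx ho) h1)
  rw [hO, mem_bot] at this
  rw [this, mul_one] at h2
  exact hT.mem_of_mem_normalizer hx.1 (h2 ▸ hk)
    (cent_le_norm' T (cent_anti hT.le (cent_le hO hL hx.2)))

theorem lift_mem (hT : IsSylowIn 2 T L) (ha : a ∈ L) (h : pr L a ∈ im L T) : a ∈ T := by
  obtain ⟨u, hu, e⟩ := (mem_im' (hT.le.trans le_normalizer)).1 h
  simpa using mul_mem (ZL hO hL hT ⟨L.mul_mem ha (L.inv_mem (hT.le hu)),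
    (pr_eq_iff (le_normalizer ha) (le_normalizer (hT.le hu))).1 e.symm⟩) hu

end

theorem nm [L.Normal] (g : G) : g ∈ 𝐍(L) := le_normalizer_of_normal (mem_top g)

/-- the projection onto the automorphisms of a normal component -/
noncomputable def ph (L : Subgroup G) [L.Normal] : G →* Gam L :=
  MonoidHom.mk' (pr L) fun a b => pr_mul (nm a) (nm b)

section
variable [L.Normal]

theorem ph_surj : Function.Surjective (ph L) := fun z => let ⟨x, _, e⟩ := pr_surj z; ⟨x, e⟩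

theorem map_ph (K : Subgroup G) : K.map (ph L) = im L K :=
  Subgroup.ext fun _ => (mem_im' le_normalizer_of_normal).symm

theorem ex_ph {K : Subgroup G} {v : Gam L} (h : v ∈ im L K) : ∃ k ∈ K, ph L k = v :=
  (mem_im' le_normalizer_of_normal).1 h

theorem ph_one : ph L a = 1 ↔ a ∈ Cent L := pr_eq_one (nm a)

theorem syl_ph (hS : IsSylowIn 2 S ⊤) : IsSylowIn 2 (im L S) ⊤ :=
  map_ph (L := L) S ▸ map_top_of_surjective _ (ph_surj (L := L)) ▸ hS.map (ph L)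

theorem two_le_Cent (hL : PC ⊤ L) [P.Normal] (hP : IsPGroup 2 P) : P ≤ Cent L :=
  (im_eq_bot le_normalizer_of_normal).1 (hL.as.solv_bot (Core.solvable_of_isPGroup (pgroup_im hP))
    (im_le_norm le_normalizer_of_normal le_normalizer_of_normal))

theorem uq_of (hU : UI G) (hS : IsSylowIn 2 S ⊤) (h1 : W ≤ S) (hW : ¬ U1 W) {W' : Subgroup (Gam L)}
    (h : W ≤ W'.comap (ph L)) : Uq W' (im L S) := fun T hT h2 => by
  obtain ⟨P, p1, p2, p3⟩ := lift_syl (ph L) ph_surj hT (hS.pgrp.to_le h1) (h.trans (comap_mono h2))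
  rw [← p3, hU.eq p1 hS p2 h1 hW, map_ph]

end

theorem mc_or_four (hT : IsPGroup 2 T) (hnc : ¬ IsCyclic T) : (∃ x y n, Inv.MC T x y n) ∨
    ∃ U ≤ T, IsKleinFour U ∧ T ≤ 𝐍(U) := by
  by_cases h : ∀ A : Subgroup T, A.Normal → IsMulCommutative A → IsCyclic A
  · obtain ⟨x, y, m, -, h2⟩ := PGrp.mc_of_normal_abelian_cyclic hT h hnc
    have := h2.map T.subtype_injective
    rw [← MonoidHom.range_eq_map, range_subtype] at this
    exact .inl ⟨x, y, m, this⟩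
  push Not at h
  obtain ⟨A, a1, a2, a3⟩ := h
  obtain ⟨U, u1, u2, u3⟩ := Inv.exists_normal_four_of_comm hT (map_subtype_le A)
    (le_normalizer_map_subtype A) inferInstance fun e =>
    a3 ((equivMapOfInjective A _ T.subtype_injective).isCyclic.2 e)
  exact .inr ⟨U, u1.trans (map_subtype_le A), u2, u3⟩

theorem not_u1_four (h2 : ∀ e ∈ E, e * e = 1) (h4 : 4 ≤ Nat.card E) : ¬ U1 E := by
  obtain ⟨a, ha, a1, -⟩ := exists_third h4 1
  obtain ⟨b, hb, b1, h⟩ := exists_third h4 a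
  exact not_u1 hb ha (h2 b hb) (h2 a ha) b1 a1 h

theorem central_of (hU : UI G) (hO : oddCore G = ⊥) (hS : IsSylowIn 2 S ⊤) (h : U1 (OZ S))
    (hz : z ∈ OZ S) (g : G) : g ∈ cz z := by
  obtain ⟨S, rfl⟩ := hS.exists_sylow_top
  have := Inv.zstar_elem (S := S) (w := z) ⟨hz.1, fun g hg => by_contra fun hne => ?_⟩ g
  · rw [hO, mem_bot, mul_inv_eq_one, mul_inv_eq_iff_eq_mul] at this
    exact mem_cz.2 this.symm
  have z1 : z ≠ 1 := fun e => hne (by simp [e])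
  have g2 := conj_sq hz.2.2 g
  have c1 : cj g S ≤ cz (g * z * g⁻¹) := le_cz_iff.2 (cj_centralizer g S ▸ conj_mem_cj hz.2.1)
  obtain ⟨c, hc, h1⟩ := ((hS.cj_of_mem (mem_top g)).mono c1 le_top).exists_le_cj
    (Q := OZ S ⊔ zpowers (g * z * g⁻¹)) (hS.pgrp.to_le (sup_le (fun _ h => h.1) (zpowers_le.2 hg)))
    (sup_le (fun x hx => mem_cz.2 (hx.2.1 _ hg).symm) (zpowers_le.2 (self_mem_cz _)))
  have h2 := hU.eq hS ((hS.cj_of_mem (mem_top g)).cj_of_mem (mem_top c))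
    (sup_le (fun _ (h : _ ∈ OZ _) => h.1) (zpowers_le.2 hg)) h1 (not_u1 (mem_sup_right (mem_zpowers _))
      (mem_sup_left hz) g2 hz.2.2 (conj_ne_one z1 g) z1 hne)
  refine hne (h _ ⟨hg, le_cz_iff.1 ?_, g2⟩ z hz g2 hz.2.2 (conj_ne_one z1 g) z1)
  rw [h2]
  exact cj_le_of_mem hc c1

theorem exists_W (hU : UI G) (hO : oddCore G = ⊥) (hL : PC ⊤ L) [L.Normal] (hS : IsSylowIn 2 S ⊤)
    (hn : ¬ U1 S) : ∃ W ≤ S, ¬ U1 W ∧ W ≤ (OZ (im L S)).comap (ph L) := by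
  by_cases h : U1 (OZ S)
  swap
  · exact ⟨OZ S, fun _ h => h.1, h, fun w hw =>
      ⟨pr_mem_im hw.1 (nm w), pr_mem_cent (nm w) hw.2.1, pr_sq (nm w) hw.2.2⟩⟩
  have k : ∀ z ∈ OZ S, ph L z = 1 := fun z hz => ph_one.2 (cent_le_Cent L fun l _ =>
    mem_cz.1 (central_of hU hO hS h hz l))
  rcases mc_or_four hS.pgrp (mt u1_of_cyc hn) with ⟨x, y, n, hM⟩ | ⟨U, u1, u2, u3⟩
  · obtain ⟨t, ht, t2, ht'⟩ : ∃ t ∈ S, t * t = 1 ∧ t ∉ zpowers x := by
      by_contra h1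
      push Not at h1
      exact hn fun a ha b hb a2 b2 =>
        u1_of_cyc (D := zpowers x) inferInstance a (h1 a ha a2) b (h1 b hb b2) a2 b2
    replace hM := hM.change ht ht'
    have z1 := k _ ⟨hM.z_mem, fun s hs => (hM.commute_z hs).eq, hM.zz⟩
    have h4 := hM.four t2
    have h5 := not_u1_four (fun _ => Inv.four_mul_self h4) (Inv.four_card h4).ge
    have h6 : closure {x ^ 2 ^ n, t} ≤ (zpowers (ph L t)).comap (ph L) :=
      (closure_le _).2 (Set.pair_subset (mem_comap.2 (z1 ▸ one_mem _)) (mem_zpowers (ph L t)))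
    refine ⟨_, hM.four_le, h5, h6.trans (comap_mono (zpowers_le.2 ⟨pr_mem_im ht (nm t),
      as_dih hL.as (syl_ph hS) (pr_mem_im ht (nm t)) (pr_sq (nm t) t2)
        (uq_of hU hS hM.four_le h5 h6) (a := ph L x) (pr_mem_im hM.x_mem (nm x)) (fun s hs => ?_) ?_,
      pr_sq (nm t) t2⟩))⟩
    · obtain ⟨s, hs', rfl⟩ := ex_ph hs
      rw [← MonoidHom.map_zpowers]
      exact ((hM.mem s).1 hs').imp (mem_map_of_mem _) fun e => by
        simpa using mem_map_of_mem (ph L) e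
    · change ph L t * ph L x * (ph L t)⁻¹ = _
      rw [← map_mul, ← map_inv, ← map_mul]
      rcases hM.act with e | ⟨-, e⟩ <;> simp [e, z1]
  obtain ⟨z, hz, zc, z2⟩ := exists_mem_inf_centralizer hS.pgrp (Inv.four_isPGroup u2) u3
    (ne_bot_of_card (by rw [Inv.four_card u2]; norm_num))
  have z1 := k z ⟨u1 hz, zc, sq_of_two z2⟩
  refine ⟨U, u1, not_u1_four (fun _ => Inv.four_mul_self u2) (Inv.four_card u2).ge, fun w hw =>
    ⟨pr_mem_im (u1 hw) (nm w), fun s hs => ?_, pr_sq (nm w) (Inv.four_mul_self u2 hw)⟩⟩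
  obtain ⟨s, hs', rfl⟩ := ex_ph hs
  by_cases w1 : w = 1
  · simp [w1]
  by_cases w2 : z = w
  · simp [← w2, z1]
  rw [← mul_inv_eq_iff_eq_mul, ← map_mul, ← map_inv, ← map_mul]
  rcases Inv.four_cases u2 hz hw (ne_one_of_orderOf_eq z2) w1 w2
    (conj_mem_of_mem_normalizer (u3 hs') hw) with e | e | e | e
  · exact absurd e (conj_ne_one w1 s)
  · rw [mul_inv_eq_iff_eq_mul, ← zc s hs', mul_right_inj] at e
    exact absurd e.symm w2
  · rw [e]
  · rw [e, map_mul, z1, one_mul]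

/-- The structure with a unique component. -/
structure One (S Y L : Subgroup G) : Prop where
  pc : PC ⊤ L
  nL : L.Normal
  nY : Y.Normal
  eq : Y = S ⊓ Cent L
  le : S ≤ Y ⊔ L
  se : SE (im L L)
  gq : ∃ a b n, GQ Y a b n
  e8 : ∃ E ≤ S, (∀ e ∈ E, e * e = 1) ∧ 8 ≤ Nat.card E

theorem exists_e8 (hO : oOf (⊤ : Subgroup G) = ⊥) (hL : PC ⊤ L) [L.Normal] (hS : IsSylowIn 2 S ⊤)
    (u : U1 (S ⊓ Cent L)) {n : ℕ} (q : GQ (S ⊓ Cent L) a b n) {V H : Subgroup (Gam L)}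
    (hB : BD (im L L) V (im L (S ⊓ L)) H) : ∃ E ≤ S, (∀ e ∈ E, e * e = 1) ∧ 8 ≤ Nat.card E := by
  have hT := sylow_inf_sn hS hL.sn
  have zY : L ⊓ Cent L ≤ S ⊓ Cent L := le_inf ((ZL hO hL hT).trans inf_le_left) inf_le_right
  have z2 : ∀ c ∈ L ⊓ Cent L, c * c = 1 := fun c hc => u.small hS.pgrp.to_inf_left le_rfl
    (gq_not_cyclic q) (zY hc) fun y hy => Fil.cent_eq hO hL hy.2 hc.1
  have sq : ∀ x ∈ L, ph L x ∈ V → x * x ∈ L ⊓ Cent L := fun x hx h =>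
    ⟨mul_mem hx hx, ph_one.1 (by rw [map_mul, hB.sq _ h])⟩
  have k : ∀ x ∈ L, ∀ y ∈ L, ph L x ∈ V → ph L y ∈ V → ph L x ≠ 1 → ph L y ≠ 1 → y * y = x * x :=
    fun x hx y hy h1 h2 x1 y1 => by
    obtain ⟨l, hl, e⟩ := hB.trans _ h1 _ h2 x1 y1
    obtain ⟨l, hl', rfl⟩ := ex_ph (hB.H_le hl).1
    have h3 : l * x * l⁻¹ * y⁻¹ ∈ L ⊓ Cent L := ⟨L.mul_mem (L.mul_mem (L.mul_mem hl' hx) (L.inv_mem hl'))
      (L.inv_mem hy), ph_one.1 (by simp [← e])⟩
    have h4 := conj_eq_of_cent (le_cent_comm.1 (cent_le hO hL) hl') (sq x hx h1).2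
    have h5 := Fil.cent_eq hO hL h3.2 hy
    have h6 := z2 _ h3
    have h7 : l * x * l⁻¹ = l * x * l⁻¹ * y⁻¹ * y := by group
    generalize l * x * l⁻¹ * y⁻¹ = c at *
    rw [← h4, ← conj_mul, h7, mul_assoc, ← mul_assoc y, ← h5, ← mul_assoc, ← mul_assoc, h6, one_mul]
  obtain ⟨v, hv, v1, -⟩ := exists_third hB.four 1
  obtain ⟨w, hw, w1, hne⟩ := exists_third hB.four v
  obtain ⟨x, hx, rfl⟩ := ex_ph (hB.le hv)
  obtain ⟨y, hy, rfl⟩ := ex_ph (hB.le hw)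
  have vw : ph L x * ph L y ≠ 1 := fun e => hne (mul_left_cancel (e.trans (hB.sq _ hv).symm))
  have z1 := ne_one_of_orderOf_eq q.z_two
  obtain ⟨i, hi, j, hj, e1, e2, e3⟩ : ∃ i ∈ S ⊓ Cent L, ∃ j ∈ S ⊓ Cent L, i * i = x * x ∧
      j * j = x * x ∧ i * j * (i * j) = x * x := by
    rcases u.cases (zY (sq x hx.2 hv)) q.z_mem (z2 _ (sq x hx.2 hv)) q.zz z1 with e | e
    · exact ⟨1, one_mem _, 1, one_mem _, by simp [e]⟩
    · exact ⟨a ^ 2 ^ n, pow_mem q.x_mem _, b, q.y_mem, by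
        rw [e, ← pow_add, ← two_mul, ← pow_succ'], e ▸ q.bb, e ▸ q.sq _
          (mul_mem (pow_mem q.x_mem _) q.y_mem) (q.mul_not_mem (Inv.MC.z_memX a n))⟩
  have m : ∀ l ∈ L, ∀ c ∈ S ⊓ Cent L, l * l = x * x → c * c = x * x → l * c * (l * c) = 1 :=
    fun l hl c hc h1 h2 => by
    rw [mul_assoc, ← mul_assoc c, Fil.cent_eq hO hL hc.2 hl, ← mul_assoc, ← mul_assoc, h1,
      mul_assoc, h2, z2 _ (sq x hx.2 hv)]
  have p1 : ph L (x * i) = ph L x := by rw [map_mul, ph_one.2 hi.2, mul_one]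
  have p2 : ph L (y * j) = ph L y := by rw [map_mul, ph_one.2 hj.2, mul_one]
  have x2 := m x hx.2 i hi rfl e1
  have y2 := m y hy.2 j hj (k x hx.2 y hy.2 hv hw v1 w1) e2
  have xy := Inv.commute_of_mul_self x2 y2 (by
    rw [mul_assoc x, ← mul_assoc i, Fil.cent_eq hO hL hi.2 hy.2, mul_assoc y, ← mul_assoc x]
    exact m _ (mul_mem hx.2 hy.2) _ (mul_mem hi hj) (k x hx.2 _ (mul_mem hx.2 hy.2) hv
      (by rw [map_mul]; exact mul_mem hv hw) v1 (by rwa [map_mul])) e3)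
  have xS := mul_mem hx.1 hi.1
  have yS := mul_mem hy.1 hj.1
  generalize x * i = x' at *
  generalize y * j = y' at *
  have hK := Inv.isKleinFour_closure (two_of_sq x2 fun e => v1 (by rw [← p1, e, map_one]))
    (two_of_sq y2 fun e => w1 (by rw [← p2, e, map_one])) xy fun e => hne (by rw [← p1, ← p2, e])
  have KS : closure {x', y'} ≤ S := (closure_le _).2 (Set.pair_subset xS yS)
  have z3 := ph_one.2 q.z_mem.2
  obtain ⟨c1, c2⟩ := Inv.exists_eight_of_four hK (c := a ^ 2 ^ (n + 1)) (fun s hs => mem_cz.1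
    (u.central (le_normalizer_inf le_normalizer (le_normalizer_of_normal.trans
      (norm_le_norm_Cent L)) (KS hs)) q.z_mem q.zz)) q.zz fun h => by
    rcases (Inv.mem_closure_commute_iff x2 y2 xy).1 h with e | e | e | e
    · exact z1 e
    · exact v1 (by rw [← p1, ← e, z3])
    · exact w1 (by rw [← p2, ← e, z3])
    · exact vw (by rw [← p1, ← p2, ← map_mul, ← e, z3])
  exact ⟨_, sup_le KS (zpowers_le.2 q.z_mem.1), c2, c1.ge⟩

theorem one (hU : UI G) (hO : oOf (⊤ : Subgroup G) = ⊥) (hO' : oddCore G = ⊥) (hL : PC ⊤ L)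
    (uq : ∀ L', PC ⊤ L' → L' = L) (hS : IsSylowIn 2 S ⊤) (hT : IsSylowIn 2 T ⊤) (hne : S ≠ T)
    (hc : ¬ IsCyclic (S ⊓ T : Subgroup G)) (hn : ¬ U1 S) : One S (S ⊓ Cent L) L := by
  haveI nL : L.Normal := normal_iff_cj.2 fun g => uq _ (hL.cj_of_norm (le_normalizer (mem_top g)))
  have N : ∀ {K : Subgroup G}, K ≤ 𝐍(L) := @fun _ => le_normalizer_of_normal
  obtain ⟨W, w1, w2, w3⟩ := exists_W hU hO' hL hS hn
  have hS' := syl_ph (L := L) hS
  obtain ⟨hG, hle⟩ := as1 hL.as hS' le_rfl (uq_of hU hS w1 w2 w3)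
  have hR := sylow_inf_sn hS hL.sn
  have e1 := (sylow_im le_normalizer hR).max _ hle hS'.pgrp (im_mono inf_le_left)
  have u := cA hO hL hU hS
  have CN : Cent L ≤ 𝐍(S) := fun c hc => by_contra fun h => by
    obtain ⟨P, nP, p2, p3⟩ := exists_P' hO
    have p4 := le_inf (le_syl p2 hS) (le_syl p2 (hS.cj_of_mem (mem_top c)))
    refine h (le_normalizer (le_syl p2 hS (p3 c (fun L' h => uq L' h ▸ hc) fun d hd => (mem_cz.1
      (((hU.u1 hS h).mono p4).central (nm c) hd ((hU.u1 hS h).small hS.pgrp.to_inf_left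
        (le_inf inf_le_left fun x hx => mem_cj.2 ?_) (not_cyc hR hL.not_solvable) (p4 hd)
          (cent_anti inf_le_right (cent_le hO hL (two_le_Cent hL p2 hd)))))).symm)))
    rw [mul_assoc, ← Fil.cent_eq hO hL hc hx.2, inv_mul_cancel_left]
    exact hx.1
  have hY := hS.inf_of_le_normalizer le_top (N.trans (norm_le_norm_Cent L))
  have nY : (S ⊓ Cent L).Normal := normal_of_cj_le fun g => by
    have := cj_le_of_mem_normalizer (norm_le_norm_Cent L (nm g)) hY.le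
    exact hY.le_of_le_normalizer' this (isPGroup_cj g hY.pgrp)
      (this.trans (le_normalizer_inf CN le_normalizer))
  have hE : SE (im L L) := by
    by_cases h : S ⊓ Cent L = ⊥
    · by_contra hE
      obtain ⟨a, b, n, q⟩ := (hU S T hS hT hne).gq hS.pgrp.to_inf_left hc
      refine ne_one_of_orderOf_eq q.z_two (mem_bot.1 (h ▸ q.bb ▸ ⟨mul_mem q.y_mem.1 q.y_mem.1,
        ph_one.1 ?_⟩))
      rw [map_mul]
      exact ((as_ab hG hS'.pgrp hle hE).ge (pr_mem_im q.y_mem.1 (nm b))).2.2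
    obtain ⟨z, hz, z2⟩ := exists_mem_orderOf_eq_of_ne_bot hY.pgrp h
    have z1 := ne_one_of_orderOf_eq z2
    obtain ⟨d, hd, d2, d1, dz⟩ : ∃ d ∈ W, d * d = 1 ∧ d ≠ 1 ∧ d ≠ z := by
      by_contra k
      push Not at k
      exact w2 fun a ha b hb a2 b2 a1 b1 => (k a ha a2 a1).trans (k b hb b2 b1).symm
    exact as_se hL.as hS' (w3 hd) (fun e => dz (u d ⟨w1 hd, ph_one.1 e⟩ z hz d2 (sq_of_two z2) d1 z1))
      (uq_of hU hS (sup_le (zpowers_le.2 (w1 hd)) (zpowers_le.2 hz.1)) (not_u1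
        (mem_sup_left (mem_zpowers d)) (mem_sup_right (mem_zpowers z)) d2 (sq_of_two z2) d1 z1 dz)
        (sup_le (zpowers_le.2 (mem_zpowers (ph L d)))
          (zpowers_le.2 (mem_comap.2 ((ph_one (L := L)).2 hz.2 ▸ one_mem _)))))
  obtain ⟨V, H, hB⟩ := hL.as.exists_BD hE (hS'.mono hle le_top)
  obtain ⟨g, -, rfl⟩ := hS.conj hT
  have h1 : S ⊓ cj g S ≤ S ⊓ Cent L := fun d hd => ⟨hd.1, ph_one.1 (by_contra fun d1 => hne ?_)⟩
  · obtain ⟨a, b, n, q⟩ := u.gq hY.pgrp fun k => hc (FGS.isCyclic_of_le' h1 k)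
    refine ⟨hL, nL, nY, rfl, fun s hs => ?_, hE, ⟨a, b, n, q⟩, exists_e8 hO hL hS u q (e1 ▸ hB)⟩
    obtain ⟨x, hx, e⟩ := (mem_im' N).1 (e1 ▸ pr_mem_im hs (nm s))
    simpa using mul_mem (mem_sup_left (T := L) (show s * x⁻¹ ∈ S ⊓ Cent L from
      ⟨S.mul_mem hs (S.inv_mem hx.1), (pr_eq_iff (nm s) (nm x)).1 e.symm⟩)) (mem_sup_right hx.2)
  have h2 := inv_mem (hB.ti _ (pr_mem_im hd.1 (nm d)) d1 (pr L g)⁻¹ (by
    rw [← pr_inv (nm g), ← pr_conj (nm _) (nm _), inv_inv]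
    exact pr_mem_im (mem_cj.1 hd.2) (nm _)))
  rw [inv_inv, ← cj_eq_self_iff, ← im_cj N (nm g)] at h2
  exact (hT.eq_of_le hS (hS.le_of_le_normalizer' le_top hT.pgrp
    (((im_le_im N N).1 h2.le).trans (sup_le le_normalizer CN)))).symm

end Cfsg.Agent.LR
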