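import Mathlib
import Cfsg.Agent.Inv.LR2
import Cfsg.Agent.S2117
import Cfsg.Agent.Classical.SL2Basic

/-! Groups whose Sylow 2-intersections have 2-rank at most one: two components. -/

set_option autoImplicit false
set_option linter.unusedSectionVars false

namespace Cfsg.Agent.LR

open Subgroup Cfsg.Agent.GW Cfsg.Agent.LocalEven Cfsg.Agent.BG Cfsg.Agent.Gs Cfsg.Agent.GsC
open Cfsg.Agent.Perm (GQ)

variable {G : Type*} [Group G] [Finite G] {S T D E A L L' K : Subgroup G} {a b d g t z : G} {n : ℕ}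

/-- Two distinct components. -/
structure Tw (S L L' : Subgroup G) : Prop where
  ui : UI G
  hO : oOf (⊤ : Subgroup G) = ⊥
  syl : IsSylowIn 2 S ⊤
  pc : PC ⊤ L
  pc' : PC ⊤ L'
  ne : L ≠ L'

namespace Tw
variable (h : Tw S L L')
include h

theorem symm : Tw S L' L := ⟨h.ui, h.hO, h.syl, h.pc', h.pc, h.ne.symm⟩

theorem le : L' ≤ Cent L := h.pc.le_Cent_of_ne h.pc' h.ne

theorem comm : L' ≤ 𝐂(L) := h.le.trans (cent_le h.hO h.pc)

theorem tA : S ⊓ L' ≤ S ⊓ Cent L := inf_le_inf_left S h.le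

theorem u : U1 (S ⊓ Cent L) := cA h.hO h.pc h.ui h.syl

theorem sy : IsSylowIn 2 (S ⊓ L) L := sylow_inf_sn h.syl h.pc.sn

theorem nc : ¬ IsCyclic (S ⊓ L : Subgroup G) := not_cyc h.sy h.pc.not_solvable

theorem gq : ∃ a b n, GQ (S ⊓ L) a b n := (h.symm.u.mono h.symm.tA).gq h.sy.pgrp h.nc

theorem le_cj (hg : g ∈ L) : S ⊓ L' ≤ cj g S := fun x hx => mem_cj.2 (by
  rw [mul_assoc, ← h.comm hx.2 g hg, inv_mul_cancel_left]; exact hx.1)

theorem NS : L ⊓ 𝐍((S ⊓ L : Subgroup G)) ≤ 𝐍(S) := fun g hg => by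
  obtain ⟨a, b, n, q⟩ := h.gq
  have k : S ⊓ L ⊔ S ⊓ L' ≤ S := sup_le inf_le_left inf_le_left
  exact h.ui.norm h.syl k (sup_le ((cj_eq_of_mem_normalizer hg.2).ge.trans (cj_mono g inf_le_left))
    (h.le_cj hg.1)) fun u => ne_one_of_orderOf_eq q.z_two (q.bb ▸ u.small (h.syl.pgrp.to_le k)
      le_sup_right h.symm.nc (mem_sup_left q.y_mem) (cent_anti inf_le_right (h.symm.comm q.y_mem.2)))

theorem se : SE (im L L) := by
  refine se_of_ti h.pc.as (sylow_im le_normalizer h.sy) fun t ht t1 g hg k => ?_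
  obtain ⟨t, ht', rfl⟩ := (mem_im' (inf_le_right.trans le_normalizer)).1 ht
  obtain ⟨g, hg', rfl⟩ := (mem_im' le_normalizer).1 hg
  have g1 := le_normalizer hg'
  have t2 := le_normalizer ht'.2
  refine pr_mem_norm (inf_le_right.trans le_normalizer) g1 (le_normalizer_inf (L := zpowers g)
    (zpowers_le.2 (by_contra fun hn => t1 ?_)) (zpowers_le.2 g1) (mem_zpowers g))
  rw [← pr_conj g1 t2] at k
  have d1 := lift_mem h.hO h.pc h.sy (conj_mem_of_mem_normalizer g1 ht'.2) k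
  have d2 : g * t * g⁻¹ ∈ S ⊓ cj g S := ⟨d1.1, conj_mem_cj ht'.1⟩
  have u := h.ui.u1 h.syl hn
  have hA := le_inf inf_le_left (h.le_cj hg')
  obtain ⟨a, b, n, q⟩ := h.symm.gq
  have : g * t * g⁻¹ ∈ Cent L := by
    rcases u.cases d2 (hA q.z_mem) (u.small h.syl.pgrp.to_inf_left hA h.symm.nc d2
      (cent_anti inf_le_right (h.symm.comm d1.2))) q.zz (ne_one_of_orderOf_eq q.z_two) with e | e
    · exact e ▸ one_mem _
    · exact e ▸ h.le q.z_mem.2
  exact (pr_eq_one t2).2 ((mem_normalizer_iff.1 (norm_le_norm_Cent L g1) t).2 this)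

theorem bd : ∃ H, BD (im L L) (im L (S ⊓ L)) (im L (S ⊓ L)) H := by
  obtain ⟨V, H, hB⟩ := h.pc.as.exists_BD h.se (sylow_im le_normalizer h.sy)
  rcases hB.cases with e | ⟨e, -⟩
  · exact ⟨H, by rwa [← e] at hB⟩
  obtain ⟨a, b, n, q⟩ := h.gq
  have a1 := le_normalizer q.x_mem.2
  have b1 := le_normalizer q.y_mem.2
  refine absurd (le_sup_of_le_left ?_) (Fil.not_two_gen e hB.central hB.sq hB.four
    (pr_mem_im q.x_mem a1) (pr_mem_im q.y_mem b1))
  rw [← im_zpowers a1, ← im_zpowers b1, ← im_sup (zpowers_le.2 a1) (zpowers_le.2 b1)]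
  refine im_mono fun s hs => ((q.mem s).1 hs).elim mem_sup_left fun e => ?_
  simpa using mul_mem (mem_sup_left (T := zpowers b) e) (mem_sup_right (mem_zpowers b))

theorem zc (q : GQ (S ⊓ L) a b n) : a ^ 2 ^ (n + 1) ∈ Cent L := by
  obtain ⟨H, hB⟩ := h.bd
  have b1 := le_normalizer q.y_mem.2
  rw [← q.bb, ← pr_eq_one (mul_mem b1 b1), pr_mul b1 b1]
  exact hB.sq _ (pr_mem_im q.y_mem b1)

open H2.Schur in
theorem sl : Nonempty (L ≃* Matrix.SpecialLinearGroup (Fin 2) (ZMod 5)) := by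
  obtain ⟨H, hB⟩ := h.bd
  haveI := h.pc.as.simple
  have hab : PLocal.AbelianTwo (im L L) := .of_sylow hB.syl.toSylow
    ⟨⟨fun x y => Subtype.ext (Subtype.ext (hB.central y.2 _ x.2))⟩⟩
  obtain ⟨F, _, _, h5, hq, ⟨e⟩⟩ := L2E_mod (((se_cases h.se).imp_right fun k => k.elim
    (FGS.not_abelianTwo_sz · hab) (FGS.not_abelianTwo_u3 · hab)).elim id False.elim)
  haveI : Group.IsPerfect L := ⟨by
    rw [← Subgroup.map_subtype_inj, ← MonoidHom.range_eq_map, range_subtype, map_subtype_commutator,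
      h.pc.perf]⟩
  haveI := perfect_SL2 (F := F) (by omega)
  have hk : (e.toMonoidHom.comp (imHom (L := L) (K := L) le_normalizer)).ker =
      (Cent L).subgroupOf L := imHom_ker (L := L) (K := L) le_normalizer ▸ Subgroup.ext fun x => by simp
  obtain ⟨h1, h2⟩ := Fil.cover (S2117.result (F := F) (by omega) (by omega))
    (ξ := e.toMonoidHom.comp (imHom le_normalizer)) ⟨e.surjective.comp (imHom_surj _),
      hk ▸ fun x hx => mem_center_iff.2 fun y => Subtype.ext (Fil.cent_eq h.hO h.pc hx y.2).symm⟩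
  obtain ⟨a, b, n, q⟩ := h.gq
  have h3 : (Cent L).subgroupOf L ≠ ⊥ := fun k => ne_one_of_orderOf_eq q.z_two
    (congrArg Subtype.val (mem_bot.1 (k.le (x := ⟨_, q.z_mem.2⟩) (h.zc q))) :)
  rw [hk, Classical.SLBasic.card_center_SL, Nat.card_eq_fintype_card (α := F), Fintype.card_fin]
    at h1 h2
  rcases hq with hq | hq
  · rw [show Nat.gcd 2 (Fintype.card F - 1) = 1 from Nat.coprime_two_left.2 (Nat.odd_iff.2 (by omega)),
      Nat.dvd_one, card_eq_one] at h1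
    exact absurd h1 h3
  · obtain ⟨e'⟩ := (h2 (by rw [hq]; norm_num)).resolve_left h3
    haveI : Fact (Nat.Prime 5) := ⟨by norm_num⟩
    obtain ⟨r⟩ := Classical.Congr.nonempty_ringEquiv (K := F) (F := ZMod 5) (by
      rw [Nat.card_eq_fintype_card, hq, Nat.card_zmod])
    exact ⟨e'.trans (Classical.Congr.slCongr r)⟩

theorem dec {s : G} (hs : s ∈ S ⊓ 𝐍(L)) : ∃ u ∈ S ⊓ L, s * u⁻¹ ∈ Cent L := by
  obtain ⟨H, hB⟩ := h.bd
  have N : S ⊓ L ≤ 𝐍(L) := inf_le_right.trans le_normalizer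
  obtain ⟨v, hv, vc, v2⟩ := exists_mem_inf_centralizer (P := im L (S ⊓ 𝐍(L)))
    (pgroup_im h.syl.pgrp.to_inf_left) hB.syl.pgrp (im_le_norm N (le_normalizer_inf
      (inf_le_left.trans le_normalizer) inf_le_right)) (ne_bot_of_card (by have := hB.four; omega))
  have k : im L (S ⊓ L) ≤ 𝐂(im L (S ⊓ 𝐍(L))) := fun w hw => by
    by_cases w1 : w = 1
    · exact w1 ▸ one_mem _
    obtain ⟨x, hx, rfl⟩ := hB.trans v hv w hw (ne_one_of_orderOf_eq v2) w1
    have h1 := hB.H_le hx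
    rw [← im_norm_sylow le_normalizer h.sy] at h1
    exact conj_mem_of_mem_normalizer (normalizer_le_normalizer_centralizer _ (im_le_norm
      inf_le_right (le_normalizer_inf h.NS (inf_le_left.trans (le_normalizer.trans le_normalizer))) h1)) vc
  obtain ⟨j, hj⟩ := isPGroup_iff_mem.1 h.syl.pgrp s hs.1
  obtain ⟨u, hu, e⟩ := (mem_im' N).1 (h.pc.as.two_inner hB.syl hB.central (k := j)
    (by rw [← pr_pow hs.2, hj, pr_one]) (le_cent_comm.1 k (pr_mem_im hs hs.2)))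
  exact ⟨u, hu, (pr_eq_iff hs.2 (N hu)).1 e.symm⟩

theorem third (hK : PC ⊤ K) : K = L ∨ K = L' := by
  by_contra k
  push Not at k
  have h1 : Tw S L K := ⟨h.ui, h.hO, h.syl, h.pc, hK, k.1.symm⟩
  have h2 : Tw S L' K := ⟨h.ui, h.hO, h.syl, h.pc', hK, k.2.symm⟩
  obtain ⟨a, b, n, q⟩ := h1.symm.gq
  exact ne_one_of_orderOf_eq q.z_two (q.bb ▸ h.u.small h.syl.pgrp.to_inf_left h.tA h.symm.nc
    (h1.tA q.y_mem) (cent_anti inf_le_right (h2.comm q.y_mem.2)))

theorem cj_or (g : G) : cj g L = L ∨ cj g L = L' :=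
  h.third (h.pc.cj_of_norm (le_normalizer (mem_top g)))

theorem norm_le : 𝐍(L) ≤ 𝐍(L') := fun g hg => cj_eq_self_iff.1 ((h.symm.cj_or g).resolve_right
  fun e => h.ne (cj_inj.1 ((cj_eq_of_mem_normalizer hg).trans e.symm)))

theorem exists_z : ∃ z ∈ L ⊓ L', z ≠ 1 ∧ z * z = 1 ∧
    ∀ c ∈ S, c ∈ Cent L → c ∈ Cent L' → c = 1 ∨ c = z := by
  obtain ⟨a, b, n, q⟩ := h.gq
  obtain ⟨a', b', n', q'⟩ := h.symm.gq
  have z1 := ne_one_of_orderOf_eq q.z_two
  have z2 : a ^ 2 ^ (n + 1) ∈ S ⊓ Cent L := ⟨q.z_mem.1, h.zc q⟩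
  exact ⟨_, ⟨q.z_mem.2, h.u _ (h.tA q'.z_mem) _ z2 q'.zz q.zz (ne_one_of_orderOf_eq q'.z_two) z1 ▸
    q'.z_mem.2⟩, z1, q.zz, fun c h1 h2 h3 => h.u.cases ⟨h1, h2⟩ z2 (h.u.small h.syl.pgrp.to_inf_left
      h.tA h.symm.nc ⟨h1, h2⟩ (cent_anti inf_le_right (cent_le h.hO h.pc' h3))) q.zz z1⟩

theorem normal : (L ⊔ L').Normal := normal_of_cj_le fun g => by
  rw [cj_sup]
  exact sup_le ((h.cj_or g).elim (·.le.trans le_sup_left) (·.le.trans le_sup_right))
    ((h.symm.cj_or g).elim (·.le.trans le_sup_right) (·.le.trans le_sup_left))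

theorem index : Odd (L ⊔ L').index ∨ ∃ k, Odd k ∧ (L ⊔ L').index = 2 * k := by
  have h1 : L ⊔ L' ≤ 𝐍(L) := sup_le le_normalizer (h.pc.le_norm h.pc')
  have h2 : 𝐍(L).index = 1 ∨ 𝐍(L).index = 2 := by
    by_cases k : 𝐍(L) = ⊤
    · exact .inl (index_eq_one.2 k)
    obtain ⟨a, -, ha⟩ := SetLike.not_le_iff_exists.1 (mt top_le_iff.1 k)
    refine .inr (index_eq_two_iff_exists_notMem_and.2 ⟨a, ha, fun b => (em _).symm.imp (fun hb => ?_) id⟩)
    have k : ∀ g ∉ 𝐍(L), cj g L = L' := fun g hg => (h.cj_or g).resolve_left (mt cj_eq_self_iff.1 hg)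
    rw [← cj_eq_self_iff, cj_mul, k a ha]
    exact (h.symm.cj_or b).resolve_left fun e => h.ne (cj_inj.1 ((k b hb).trans e.symm))
  haveI : 𝐍(L).Normal := h2.elim normal_of_index_eq_one normal_of_index_eq_two
  obtain ⟨z, hz, -, -, z3⟩ := h.exists_z
  have h3 : Odd ((L ⊔ L').relIndex 𝐍(L)) := Nat.not_even_iff_odd.1 fun e =>
    (h.syl.inf_of_le_normalizer le_top le_normalizer_of_normal).not_dvd_of_le (fun s hs => by
      obtain ⟨u, hu, e⟩ := h.dec hs
      have c1 := S.mul_mem hs.1 (S.inv_mem hu.1)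
      obtain ⟨u', hu', e'⟩ := h.symm.dec ⟨c1, h.norm_le (Cent_le L e)⟩
      have : s * u⁻¹ * u'⁻¹ ∈ L := (z3 _ (S.mul_mem c1 (S.inv_mem hu'.1))
        (mul_mem e (inv_mem (h.le hu'.2))) e').elim (· ▸ one_mem _) (· ▸ hz.1)
      simpa using mul_mem (mul_mem (mem_sup_left (T := L') this) (mem_sup_right hu'.2))
        (mem_sup_left hu.2)) (even_iff_two_dvd.1 e)
  rw [← relIndex_mul_index h1]
  exact h2.imp (fun e => by rwa [e, mul_one]) fun e => ⟨_, h3, by rw [e, mul_comm]⟩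

theorem iso : ∃ (Z : Subgroup (Matrix.SpecialLinearGroup (Fin 2) (ZMod 5) ×
    Matrix.SpecialLinearGroup (Fin 2) (ZMod 5))) (_ : Z.Normal), Z = zpowers (-1, -1) ∧
    Nonempty ((L ⊔ L' : Subgroup G) ≃* (Matrix.SpecialLinearGroup (Fin 2) (ZMod 5) ×
      Matrix.SpecialLinearGroup (Fin 2) (ZMod 5)) ⧸ Z) := by
  obtain ⟨e⟩ := h.sl
  obtain ⟨e'⟩ := h.symm.sl
  obtain ⟨z, hz, z1, z2, z3⟩ := h.exists_z
  haveI : Fact (Nat.Prime 5) := ⟨by norm_num⟩
  have k : ∀ (M : Subgroup G) (f : M ≃* Matrix.SpecialLinearGroup (Fin 2) (ZMod 5)), z ∈ M →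
      (f.symm (-1) : G) = z := fun M f hM => by
    rw [← (Classical.SL2Basic.eq_of_mul_self_eq_one (show (2 : ZMod 5) ≠ 0 by decide +revert) (g := f ⟨z, hM⟩) (by
      rw [← map_mul, f.map_eq_one_iff]; exact Subtype.ext z2)).resolve_left fun e =>
        z1 (congrArg Subtype.val (f.map_eq_one_iff.1 e)), f.symm_apply_apply]
  let ψ := (L.subtype.comp e.symm.toMonoidHom).noncommCoprod (L'.subtype.comp e'.symm.toMonoidHom)
    fun x y => h.comm (e'.symm y).2 _ (e.symm x).2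
  have hr : ψ.range = L ⊔ L' := by
    refine (MonoidHom.noncommCoprod_range ..).trans ?_
    rw [MonoidHom.range_comp, MonoidHom.range_comp,
      MonoidHom.range_eq_top.2 e.symm.surjective, MonoidHom.range_eq_top.2 e'.symm.surjective,
      ← MonoidHom.range_eq_map, ← MonoidHom.range_eq_map, range_subtype, range_subtype]
  refine ⟨ψ.ker, inferInstance, le_antisymm (fun x hx => ?_) (zpowers_le.2 ?_),
    ⟨(MulEquiv.subgroupCongr hr.symm).trans (QuotientGroup.quotientKerEquivRange ψ).symm⟩⟩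
  · have h1 : (e.symm x.1 : G) * e'.symm x.2 = 1 := hx
    have h2 : (e.symm x.1 : G) ∈ L' := by
      rw [eq_inv_of_mul_eq_one_left h1]
      exact inv_mem (e'.symm x.2).2
    rcases z3 _ (ZL h.hO h.pc h.sy ⟨(e.symm x.1).2, h.le h2⟩).1 (h.le h2) (h.symm.le (e.symm x.1).2)
      with h3 | h3
    · rw [h3, one_mul] at h1
      rw [show x = 1 from Prod.ext (e.symm.map_eq_one_iff.1 (Subtype.ext h3))
        (e'.symm.map_eq_one_iff.1 (Subtype.ext h1))]
      exact one_mem _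
    · rw [h3, ← z2, mul_right_inj] at h1
      rw [show x = (-1, -1) from Prod.ext (e.symm.injective (Subtype.ext (h3.trans (k L e hz.1).symm)))
        (e'.symm.injective (Subtype.ext (h1.trans (k L' e' hz.2).symm)))]
      exact mem_zpowers _
  · change (e.symm (-1) : G) * e'.symm (-1) = 1
    rw [k L e hz.1, k L' e' hz.2, z2]

end Tw

end Cfsg.Agent.LR
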