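import Mathlib
import Cfsg.Agent.Inv.LR1
import Cfsg.Agent.LocalEven.CentSyl

/-! Simple groups with a maximal Sylow 2-subgroup of order 128: the local configuration. -/

set_option autoImplicit false
set_option linter.unusedSectionVars false

namespace Cfsg.Agent.MX

open Subgroup Cfsg.Agent.GW Cfsg.Agent.LocalEven Cfsg.Agent.BG Cfsg.Agent.Gs Cfsg.Agent.GsC
open Cfsg.Agent.LR Cfsg.Agent.BG.Amb

variable {G : Type*} [Group G] [Finite G] {S S' T D E R A B X : Subgroup G}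
  {a b d g h k t u v w x y z : G}

/-- index two -/
def I2 (A B : Subgroup G) : Prop := A ≤ B ∧ A.relIndex B = 2

theorem I2.mul (h : I2 A B) (hx : x ∈ B) (hy : y ∈ B) (x1 : x ∉ A) (y1 : y ∉ A) : x * y ∈ A := by
  have := (mul_mem_iff_of_index_two (H := A.subgroupOf B) h.2 (a := ⟨x, hx⟩) (b := ⟨y, hy⟩)).2
    (by simp [mem_subgroupOf, x1, y1])
  exact this

theorem I2.card (h : I2 A B) : Nat.card B = 2 * Nat.card A := by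
  rw [← card_mul_relIndex h.1, h.2, mul_comm]

theorem I2.of_card (h : A ≤ B) (hc : Nat.card B = 2 * Nat.card A) : I2 A B :=
  ⟨h, Nat.eq_of_mul_eq_mul_left (Nat.card_pos (α := A)) (by rw [card_mul_relIndex h, hc, mul_comm])⟩

theorem I2.of (h : A ≤ B) (ht : t ∈ B) (t1 : t ∉ A) (hx : ∀ x ∈ B, x ∈ A ∨ x * t ∈ A) : I2 A B :=
  ⟨h, index_eq_two_iff.2 ⟨⟨t, ht⟩, fun b => by
    simp only [mem_subgroupOf, coe_mul]
    rcases hx b b.2 with e | e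
    · exact .inr ⟨e, fun k => t1 ((A.mul_mem_cancel_left e).1 k)⟩
    · exact .inl ⟨e, fun k => t1 ((A.mul_mem_cancel_left k).1 e)⟩⟩⟩

theorem I2.or (h : I2 A B) (ht : t ∈ B) (t1 : t ∉ A) (hx : x ∈ B) : x ∈ A ∨ x * t ∈ A :=
  (em _).imp id fun e => h.mul hx ht e t1

theorem I2.norm (h : I2 A B) : B ≤ 𝐍(A) := le_norm_of_conj_mem fun b hb a ha => by
  by_cases e : b ∈ A
  · exact mul_mem (mul_mem e ha) (inv_mem e)
  · exact h.mul (mul_mem hb (h.1 ha)) (inv_mem hb) (fun k => e ((A.mul_mem_cancel_right ha).1 k))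
      fun k => e (inv_mem_iff.1 k)

theorem I2.le (h : I2 A B) (ht : t ∈ B) (t1 : t ∉ A) (h1 : A ≤ X) (h2 : t ∈ X) : B ≤ X :=
  fun _ hx => (h.or ht t1 hx).elim (h1 ·) fun e => (X.mul_mem_cancel_right h2).1 (h1 e)

theorem I2.ex (h : I2 A B) : ∃ t ∈ B, t ∉ A := by
  by_contra! k
  have := h.2
  rw [relIndex_eq_one.2 k] at this
  omega

theorem I2.inf (h : I2 A B) (hE : E ≤ B) (ht : t ∈ E) (t1 : t ∉ A) : I2 (E ⊓ A) E :=
  I2.of inf_le_left ht (fun k => t1 k.2) fun x hx =>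
    (h.or (hE ht) t1 (hE hx)).imp (⟨hx, ·⟩) (⟨mul_mem hx ht, ·⟩)

theorem I2.cj (h : I2 A B) (g : G) : I2 (cj g A) (cj g B) :=
  ⟨cj_mono g h.1, by rw [relIndex_cj, h.2]⟩

theorem two_le (h : A ≤ B) (ht : t ∈ B) (t1 : t ∉ A) : 2 * Nat.card A ≤ Nat.card B := by
  have h1 := card_mul_relIndex h
  have h2 : A.relIndex B ≠ 1 := fun e => t1 (relIndex_eq_one.1 e ht)
  have h3 : A.relIndex B ≠ 0 := fun e => by
    rw [e, mul_zero] at h1; exact Nat.card_pos.ne h1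
  rw [← h1, mul_comm]
  exact Nat.mul_le_mul_left _ (by omega)

theorem i2_sup (t2 : t * t ∈ A) (hn : t ∈ 𝐍(A)) (t1 : t ∉ A) : I2 A (A ⊔ zpowers t) := by
  refine I2.of le_sup_left (mem_sup_right (mem_zpowers t)) t1 fun x hx => ?_
  obtain ⟨a, ha, _, ⟨n, rfl⟩, rfl⟩ := (mem_sup_iff_of_le_normalizer' (zpowers_le.2 hn)).1 hx
  have k : ∀ m : ℤ, t ^ (2 * m) ∈ A := fun m => by
    rw [zpow_mul, zpow_two]; exact zpow_mem t2 m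
  obtain ⟨m, rfl | rfl⟩ := Int.even_or_odd' n
  · exact .inl (mul_mem ha (k m))
  · refine .inr ?_
    rw [mul_assoc, ← zpow_add_one, show 2 * m + 1 + 1 = 2 * (m + 1) by ring]
    exact mul_mem ha (k _)

theorem ex_sq (hB : IsPGroup 2 B) (h : A < B) : ∃ y ∈ B, y ∈ 𝐍(A) ∧ y ∉ A ∧ y * y ∈ A := by
  obtain ⟨x, h1, h2, h3⟩ := exists_mem_normalizer_of_lt hB h
  obtain ⟨k, hk⟩ := isPGroup_iff_mem.1 hB x h1
  have hk' : x ^ 2 ^ k ∈ A := hk ▸ one_mem _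
  clear hk
  induction k generalizing x with
  | zero => exact absurd (by simpa using hk') h3
  | succ k ih =>
    by_cases e : x * x ∈ A
    · exact ⟨x, h1, h2, h3, e⟩
    · exact ih (x * x) (mul_mem h1 h1) (mul_mem h2 h2) e
        (by rwa [← pow_two, ← pow_mul, ← pow_succ'])

theorem conj_sq (a2 : a * a = 1) (g : G) : g * a * g⁻¹ * (g * a * g⁻¹) = 1 := by
  rw [conj_mul, a2, mul_one, mul_inv_cancel]

theorem conj_ne (a1 : a ≠ 1) (g : G) : g * a * g⁻¹ ≠ 1 := by simpa using a1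

theorem cz_conj (h : g ∈ cz a) : g * a * g⁻¹ = a := by rw [mem_cz.1 h, mul_inv_cancel_right]

theorem OZ_le : OZ D ≤ D := fun _ h => h.1

theorem OZ_cz (hz : z ∈ OZ D) : D ≤ cz z := fun x hx => mem_cz.2 (hz.2.1 x hx)

theorem conj_OZ (hz : z ∈ OZ D) (g : G) : g * z * g⁻¹ ∈ OZ (cj g D) :=
  ⟨conj_mem_cj hz.1, by rw [← cj_centralizer]; exact conj_mem_cj hz.2.1, conj_sq hz.2.2 g⟩

theorem conj_OZ' (hz : z ∈ OZ D) (hg : g ∈ 𝐍(D)) : g * z * g⁻¹ ∈ OZ D := by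
  have := conj_OZ hz g
  rwa [cj_eq_of_mem_normalizer hg] at this

theorem cj_OZ (g : G) : cj g (OZ D) = OZ (cj g D) :=
  le_antisymm (cj_le_iff'.2 fun _ hx => conj_OZ hx g) fun x hx => by
    have := conj_OZ hx g⁻¹
    rwa [cj_inv_cj, inv_inv, ← mem_cj] at this

theorem u1_of_ti (hR : IsPGroup 2 R) (ti : ∀ g, ∀ x ∈ R, x ≠ 1 → g * x * g⁻¹ ∈ R → g ∈ R)
    (hh : h ∉ R) : U1 R := fun a ha b hb a2 b2 a1 b1 => by
  obtain ⟨t, ht, t2⟩ := exists_OZ hR fun e => a1 (mem_bot.1 (e ▸ ha))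
  have t1 := ne_one_of_orderOf_eq t2
  have k : ∀ a ∈ R, a * a = 1 → a ≠ 1 → a = t := fun a ha a2 a1 => by
    have s2 := conj_sq ht.2.2 h
    rcases Nat.even_or_odd (orderOf (a * (h * t * h⁻¹))) with e | e
    · obtain ⟨h1, h2, h3⟩ := Inv.half_power a2 s2 e
      set i := (a * (h * t * h⁻¹)) ^ (orderOf (a * (h * t * h⁻¹)) / 2)
      have h4 : i ∈ R := ti i a ha a1 (by rwa [h2.eq, mul_inv_cancel_right])
      have h5 : h⁻¹ * i * h⁻¹⁻¹ ∈ R := ti _ t ht.1 t1 (by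
        rw [show h⁻¹ * i * h⁻¹⁻¹ * t * (h⁻¹ * i * h⁻¹⁻¹)⁻¹ = h⁻¹ * (i * (h * t * h⁻¹) * i⁻¹) * h
          by group, h3.eq]
        simpa [mul_assoc] using ht.1)
      exact absurd (inv_mem_iff.1 (ti _ i h4 (ne_one_of_orderOf_eq h1) h5)) hh
    · obtain ⟨c, hc⟩ := isConj_iff.1 (Inv.isConj_of_odd a2 s2 e).symm
      have h1 : c * h * t * (c * h)⁻¹ = a := by rw [← hc]; group
      rw [← h1, cz_conj (OZ_cz ht (ti _ t ht.1 t1 (h1 ▸ ha)))]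
  rw [k a ha a2 a1, k b hb b2 b1]

/-- the hypotheses -/
structure Mx (G : Type*) [Group G] : Prop where
  nc : ¬ IsMulCommutative G
  mx : ∀ S K : Subgroup G, IsSylowIn 2 S ⊤ → S ≤ K → K = S ∨ K = ⊤
  cd : ∀ S : Subgroup G, IsSylowIn 2 S ⊤ → Nat.card S = 128

/-- 2-central involution with 2-group centralizer -/
def J (z : G) : Prop := z * z = 1 ∧ z ≠ 1 ∧ IsSylowIn 2 (cz z) ⊤

theorem J.conj (h : J z) (g : G) : J (g * z * g⁻¹) :=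
  ⟨conj_sq h.1 g, conj_ne h.2.1 g, cj_cz g z ▸ h.2.2.cj_of_mem (mem_top g)⟩

/-- intersection of two centralizers -/
def Pr (D : Subgroup G) : Prop :=
  ∃ z w, J z ∧ J w ∧ z * w = w * z ∧ cz z ≠ cz w ∧ D = cz z ⊓ cz w

/-- maximal such -/
def Cf (D : Subgroup G) : Prop := Pr D ∧ ∀ E : Subgroup G, Pr E → Nat.card E ≤ Nat.card D

theorem Cf.cj (h : Cf D) (g : G) : Cf (cj g D) := by
  obtain ⟨⟨z, w, h1, h2, h3, h4, rfl⟩, h5⟩ := h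
  exact ⟨⟨_, _, h1.conj g, h2.conj g, by rw [conj_mul, conj_mul, h3],
    by rwa [← cj_cz, ← cj_cz, Ne, cj_inj], by rw [cj_inf, cj_cz, cj_cz]⟩,
    fun E hE => by rw [card_cj]; exact h5 E hE⟩

theorem Cf.cV (h : Cf D) : 𝐂(OZ D) ≤ D := by
  obtain ⟨⟨z, w, h1, h2, h3, -, rfl⟩, -⟩ := h
  exact fun x hx => ⟨mem_cz.2 (hx z ⟨⟨mem_cz.2 rfl, mem_cz.2 h3⟩, fun y hy => mem_cz.1 hy.1, h1.1⟩).symm,
    mem_cz.2 (hx w ⟨⟨mem_cz.2 h3.symm, mem_cz.2 rfl⟩, fun y hy => mem_cz.1 hy.2, h2.1⟩).symm⟩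

theorem Cf.cD (h : Cf D) : 𝐂(D) ≤ D := (Amb.cent_anti OZ_le).trans h.cV

theorem Cf.two (h : Cf D) : IsPGroup 2 D := by
  obtain ⟨⟨z, w, h1, -, -, -, rfl⟩, -⟩ := h
  exact h1.2.2.pgrp.to_le inf_le_left

theorem Cf.OZ (h : Cf D) (hS : D ≤ S) : OZ S ≤ OZ D := fun _ hz =>
  ⟨h.cD (Amb.cent_anti hS hz.2.1), Amb.cent_anti hS hz.2.1, hz.2.2⟩

variable [IsSimpleGroup G] (m : Mx G)
include m

theorem Mx.czS (hS : IsSylowIn 2 S ⊤) (u1 : u ≠ 1) (h : S ≤ cz u) : cz u = S :=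
  (m.mx S _ hS h).resolve_right fun e => u1 (mem_bot.1 (center_bot m.nc ▸
    mem_center_iff.2 fun g => mem_cz.1 (e ▸ mem_top g)))

theorem Mx.nS (hS : IsSylowIn 2 S ⊤) (hX : IsPGroup 2 X) (h0 : X ≠ ⊥) (h : S ≤ 𝐍(X)) :
    𝐍(X) = S := (m.mx S _ hS h).resolve_right fun e => by
  obtain ⟨z, hz, z2⟩ := exists_OZ hX h0
  rw [((normalizer_eq_top_iff.1 e).eq_bot_or_eq_top).resolve_left h0] at hz
  exact ne_one_of_orderOf_eq z2 (mem_bot.1 (center_bot m.nc ▸ mem_center_iff.2 fun g =>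
    hz.2.1 g (mem_top g)))

theorem Mx.ne_bot (hS : IsSylowIn 2 S ⊤) : S ≠ ⊥ := fun e => by
  have := m.cd S hS
  rw [e, card_bot] at this
  omega

theorem Mx.nSS (hS : IsSylowIn 2 S ⊤) (h : cj g S = S) : g ∈ S :=
  m.nS hS hS.pgrp (m.ne_bot hS) le_normalizer ▸ cj_eq_self_iff.1 h

theorem Mx.ex_z (hS : IsSylowIn 2 S ⊤) : ∃ z ∈ OZ S, J z ∧ cz z = S := by
  obtain ⟨z, hz, z2⟩ := exists_OZ hS.pgrp (m.ne_bot hS)
  have h := m.czS hS (ne_one_of_orderOf_eq z2) (OZ_cz hz)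
  exact ⟨z, hz, ⟨hz.2.2, ne_one_of_orderOf_eq z2, h.symm ▸ hS⟩, h⟩

theorem Mx.ex_Cf : ∃ D : Subgroup G, Cf D := by
  obtain ⟨S, hS⟩ := exists_isSylowIn 2 (⊤ : Subgroup G)
  obtain ⟨z, hz, h1, h2⟩ := m.ex_z hS
  have h3 : ¬ ∀ g ∈ (⊤ : Subgroup G), g * z * g⁻¹ ∈ S → g * z * g⁻¹ = z := fun h =>
    h1.2.1 ((as_top m.nc).one_of_wk le_rfl hS hz.1 h)
  push Not at h3
  obtain ⟨g, -, h3, h4⟩ := h3
  obtain ⟨D, h⟩ := Set.Finite.exists_maximalFor (fun E : Subgroup G => Nat.card E)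
    {E : Subgroup G | Pr E} (Set.toFinite _)
    ⟨_, z, _, h1, h1.conj g, (hz.2.1 _ h3).symm, fun e => h4 (cz_conj (h2.symm ▸ m.nSS hS
      (by rw [← h2, cj_cz, ← e]))), rfl⟩
  exact ⟨D, h.1, fun E hE => h.le hE⟩

theorem Mx.uq (h : Cf D) (hS : IsSylowIn 2 S ⊤) (hT : IsSylowIn 2 T ⊤) (h1 : D ≤ S) (h2 : D ≤ T)
    (aS : a ∈ S) (aT : a ∈ T) (aD : a ∉ D) : S = T := by
  by_contra hne
  obtain ⟨z, hz, h3, rfl⟩ := m.ex_z hS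
  obtain ⟨w, hw, h4, rfl⟩ := m.ex_z hT
  have h5 := h.2 _ ⟨z, w, h3, h4, (h.OZ h1 hz).2.1 w (h.OZ h2 hw).1 |>.symm, hne, rfl⟩
  exact aD (eq_of_le_of_card_le (le_inf h1 h2) h5 ▸ ⟨aS, aT⟩)

theorem Mx.not_two (h : Cf D) : ¬ IsPGroup 2 𝐍(D) := fun h0 => by
  obtain ⟨S, hS, h1⟩ := exists_isSylowIn_le h0 le_top
  obtain ⟨z, w, h2, h3, -, h4, e⟩ := h.1
  have k : ∀ T, IsSylowIn 2 T ⊤ → D < T → T = S := fun T hT hl => by
    obtain ⟨a, k1, k2, k3⟩ := exists_mem_normalizer_of_lt hT.pgrp hl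
    exact m.uq h hT hS hl.le (le_normalizer.trans h1) k1 (h1 k2) k3
  refine h4 ((k _ h2.2.2 (e ▸ lt_of_le_of_ne inf_le_left fun e => h4 ?_)).trans
    (k _ h3.2.2 (e ▸ lt_of_le_of_ne inf_le_right fun e => h4 ?_)).symm)
  · exact h2.2.2.eq_of_le h3.2.2 (inf_eq_left.1 e)
  · exact (h3.2.2.eq_of_le h2.2.2 (inf_eq_right.1 e)).symm

omit m in
/-- the configuration -/
structure Cx (D R S : Subgroup G) : Prop where
  m : Mx G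
  cf : Cf D
  sR : IsSylowIn 2 R 𝐍(D)
  sS : IsSylowIn 2 S ⊤
  RS : R ≤ S

theorem Mx.ex_Cx : ∃ D R S : Subgroup G, Cx D R S := by
  obtain ⟨D, h⟩ := m.ex_Cf
  obtain ⟨R, hR⟩ := exists_isSylowIn 2 𝐍(D)
  obtain ⟨S, hS, h1⟩ := exists_isSylowIn_le hR.pgrp le_top
  exact ⟨D, R, S, m, h, hR, hS, h1⟩

omit m
namespace Cx
variable (c : Cx D R S)
include c

theorem DR : D ≤ R := c.sR.le_of_le_normalizer le_normalizer c.cf.two c.sR.le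

theorem DS : D ≤ S := c.DR.trans c.RS

theorem mem (hx : x ∈ S) (hn : x ∈ 𝐍(D)) : x ∈ R :=
  c.sR.max (S ⊓ 𝐍(D)) inf_le_right (c.sS.pgrp.to_le inf_le_left) (le_inf c.RS c.sR.le) ▸ ⟨hx, hn⟩

theorem ex_h : ∃ h ∈ 𝐍(D), h ∉ R := by
  by_contra! k
  exact c.m.not_two c.cf (c.sR.pgrp.to_le k)

theorem ex_z : ∃ z ∈ OZ S, z ∈ OZ D ∧ J z ∧ cz z = S := by
  obtain ⟨z, h1, h2⟩ := c.m.ex_z c.sS
  exact ⟨z, h1, c.cf.OZ c.DS h1, h2⟩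

theorem nS (hX : X ≤ S) (hz : z ∈ X) (z1 : z ≠ 1) (h : S ≤ 𝐍(X)) : 𝐍(X) = S :=
  c.m.nS c.sS (c.sS.pgrp.to_le hX) (ne_bot_of_mem hz z1) h

theorem lt : R < S := lt_of_le_of_ne c.RS fun e => by
  obtain ⟨h, h1, h2⟩ := c.ex_h
  obtain ⟨z, -, hz, j, -⟩ := c.ex_z
  exact h2 (e ▸ c.nS c.DS hz.1 j.2.1 (e ▸ c.sR.le) ▸ h1)

theorem ltD : D < R := lt_of_le_of_ne c.DR fun e => by
  obtain ⟨x, h1, h2, h3⟩ := exists_mem_normalizer_of_lt c.sS.pgrp (e ▸ c.lt : D < S)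
  exact h3 (e ▸ c.mem h1 h2)

theorem ti (hh : h ∈ 𝐍(D)) (ha : a ∈ R) (aD : a ∉ D) (k : h * a * h⁻¹ ∈ S) : h ∈ R :=
  c.mem (c.m.nSS c.sS (c.m.uq c.cf (c.sS.cj_of_mem (mem_top h)) c.sS
    ((cj_eq_of_mem_normalizer hh).ge.trans (cj_mono h c.DS)) c.DS (conj_mem_cj (c.RS ha)) k
    fun e => aD (conj_mem_cj_iff.1 ((cj_eq_of_mem_normalizer hh).ge e)))) hh

theorem cj (hy : y ∈ 𝐍(R)) : Cx (cj y D) R S :=
  ⟨c.m, c.cf.cj y, by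
    have := c.sR.cj y
    rwa [cj_eq_of_mem_normalizer hy, cj_normalizer] at this, c.sS, c.RS⟩

theorem cR : Nat.card R ≤ 64 := by
  obtain ⟨x, h1, h2⟩ := SetLike.exists_of_lt c.lt
  have := two_le c.RS h1 h2
  rw [c.m.cd S c.sS] at this
  omega

theorem F1 (ha : a ∈ R) (hb : b ∈ R) (aD : a ∉ D) (bD : b ∉ D) (a2 : a * a ∈ D) (b2 : b * b ∈ D) :
    a * b ∈ D := by
  obtain ⟨h, h1, h2⟩ := c.ex_h
  have k0 : ∀ x : 𝐍(D), quoMk D x ∈ quo D R → (x : G) ∈ R := fun x hx => by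
    obtain ⟨y, y1, y2⟩ := QuoApi.mem_quo.1 hx
    exact (R.mul_mem_cancel_left (inv_mem y1)).1 (c.DR (QuoApi.quoMk_eq_iff.1 y2))
  have k := u1_of_ti (QuoApi.isPGroup_quo c.sR.pgrp D) (h := quoMk D ⟨h, h1⟩) (fun g x hx x1 e => by
    obtain ⟨g, rfl⟩ := QuotientGroup.mk_surjective g
    obtain ⟨x, x2, rfl⟩ := QuoApi.mem_quo.1 hx
    exact QuoApi.mk_mem_quo (c.ti g.2 x2 (fun e => x1 (QuoApi.quoMk_eq_one_iff.2 e))
      (c.RS (k0 (g * x * g⁻¹) e)))) (fun e => h2 (k0 _ e))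
    (quoMk D ⟨a, c.sR.le ha⟩) (QuoApi.mk_mem_quo ha) (quoMk D ⟨b, c.sR.le hb⟩) (QuoApi.mk_mem_quo hb)
    (by rw [← map_mul]; exact QuoApi.quoMk_eq_one_iff.2 a2)
    (by rw [← map_mul]; exact QuoApi.quoMk_eq_one_iff.2 b2)
    (fun e => aD (QuoApi.quoMk_eq_one_iff.1 e)) fun e => bD (QuoApi.quoMk_eq_one_iff.1 e)
  simpa [mul_assoc] using mul_mem a2 (QuoApi.quoMk_eq_iff.1 k)

end Cx

/-- `a` acts as a transvection on `V` -/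
def Tv (V : Subgroup G) (a : G) : Prop := ∀ v ∈ V, ∀ w ∈ V, v ∉ cz a → w ∉ cz a → v * w ∈ cz a

theorem cz_comm : a ∈ cz b ↔ b ∈ cz a := by rw [mem_cz, mem_cz, eq_comm]

theorem conj_cz : g * a * g⁻¹ ∈ cz (g * b * g⁻¹) ↔ a ∈ cz b := by rw [← cj_cz, conj_mem_cj_iff]

theorem Tv.conj (h : Tv (OZ D) a) (hg : g ∈ 𝐍(D)) : Tv (OZ D) (g * a * g⁻¹) := fun v hv w hw h1 h2 => by
  rw [← cj_cz, mem_cj] at *
  have k : ∀ v ∈ OZ D, g⁻¹ * v * g ∈ OZ D := fun v hv => by simpa using conj_OZ' hv (inv_mem hg)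
  simpa [mul_assoc] using h _ (k v hv) _ (k w hw) h1 h2

theorem Cx.idx (c : Cx D R S) (ha : a ∈ R) (aD : a ∉ D) (tv : Tv (OZ D) a) : I2 D R := by
  obtain ⟨h, h1, h2⟩ := c.ex_h
  obtain ⟨z, -, hz, -, e⟩ := c.ex_z
  have K : ∀ x ∈ R, x ∉ D → ∀ g ∈ 𝐍(D), ∀ k ∈ 𝐍(D), k * z * k⁻¹ ∈ cz (g * x * g⁻¹) →
      g * z * g⁻¹ = k * z * k⁻¹ ∧ k⁻¹ * g ∈ R := fun x hx xD g hg k hk h => by
    have h3 : k⁻¹ * g ∈ R := c.ti (mul_mem (inv_mem hk) hg) hx xD (by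
      rw [cz_comm, ← cj_cz, mem_cj, e] at h
      simpa [mul_assoc] using h)
    refine ⟨?_, h3⟩
    conv_rhs => rw [← cz_conj (e.ge (c.RS h3))]
    group
  have L : ∀ x ∈ R, x * (h * z * h⁻¹) * x⁻¹ = h * z * h⁻¹ → x ∈ D := fun x hx k => by_contra fun xD =>
    h2 (by simpa using (K x hx xD 1 (one_mem _) h h1 (by
      simpa using cz_comm.1 (mem_cz_of_conj k))).2)
  refine I2.of c.DR (inv_mem ha) (fun k => aD (inv_mem_iff.1 k)) fun r hr => ?_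
  by_contra! hc
  have aN := c.sR.le ha
  have h3 := mul_mem (c.sR.le hr) h1
  have n1 : h * z * h⁻¹ ∉ cz a := fun k => aD (L a ha (cz_conj (cz_comm.1 k)))
  have n2 : r * h * z * (r * h)⁻¹ ∉ cz a := fun k => h2 ((R.mul_mem_cancel_left hr).1 (by
    simpa using inv_mem (K a ha aD 1 (one_mem _) _ h3 (by simpa using k)).2))
  have n3 : h * z * h⁻¹ ∉ cz (r * h * a * (r * h)⁻¹) := fun k => hc.1 (L r hr
    (Eq.trans (by group) (K a ha aD _ h3 _ h1 k).1))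
  have n4 : a * h * z * (a * h)⁻¹ ∉ cz (r * h * a * (r * h)⁻¹) := fun k => hc.2 (by
    have := conj_mem_of_mem_normalizer aN (L (a⁻¹ * r) (mul_mem (inv_mem ha) hr) (by
      rw [show a⁻¹ * r * (h * z * h⁻¹) * (a⁻¹ * r)⁻¹ = a⁻¹ * (r * h * z * (r * h)⁻¹) * a by group,
        (K a ha aD _ h3 _ (mul_mem aN h1) k).1]
      group))
    simpa [mul_assoc] using this)
  have p1 := tv.conj h3 _ (conj_OZ' hz h1) _ (conj_OZ' hz (mul_mem aN h1)) n3 n4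
  have p2 := cz_conj (cz_comm.1 (tv _ (conj_OZ' hz h1) _ (conj_OZ' hz h3) n1 n2))
  have p3 : r * h * z * (r * h)⁻¹ ∈ cz (r * h * a * (r * h)⁻¹) := conj_cz.2 (cz_comm.1 (e.ge (c.RS ha)))
  have p4 : a * (r * h) * z * (a * (r * h))⁻¹ =
      (h * z * h⁻¹ * (a * h * z * (a * h)⁻¹))⁻¹ * (r * h * z * (r * h)⁻¹) := by
    rw [mul_inv_rev (h * z * h⁻¹), inv_eq_of_mul_eq_one_right (conj_sq hz.2.2 h), mul_assoc _ (h * z * h⁻¹),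
      ← p2]
    group
  refine n2 (cz_comm.1 (mem_cz_of_conj ?_))
  conv_rhs => rw [(K a ha aD _ h3 _ (mul_mem aN h3) (p4 ▸ mul_mem (inv_mem p1) p3)).1]
  group

end Cfsg.Agent.MX
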