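import Mathlib
import Cfsg.Agent.Inv.MX1

/-! Simple groups with a maximal Sylow 2-subgroup of order 128: pushing up. -/

set_option autoImplicit false
set_option linter.unusedSectionVars false

namespace Cfsg.Agent.MX

open Subgroup Cfsg.Agent.GW Cfsg.Agent.LocalEven Cfsg.Agent.BG Cfsg.Agent.Gs Cfsg.Agent.GsC
open Cfsg.Agent.LR Cfsg.Agent.BG.Amb

variable {G : Type*} [Group G] [Finite G] [IsSimpleGroup G] {S S' T D E F F' R A B X Z C : Subgroup G}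
  {a b d e e' f g h k t u u' v w x y z : G}

theorem zp2 (a2 : a * a = 1) (h : x ∈ zpowers a) : x = 1 ∨ x = a :=
  (mem_sup_zpowers_inv (X := ⊥) a2 (norm_bot.ge (mem_top a)) (mem_sup_right h)).imp mem_bot.1
    fun k => by rw [eq_inv_of_mul_eq_one_left (mem_bot.1 k), inv_eq_of_mul_eq_one_right a2]

theorem two_le' (ha : a ∈ A) (a1 : a ≠ 1) : 2 ≤ Nat.card A := by
  simpa using two_le (bot_le (a := A)) ha (by simpa using a1)

theorem four_le (ha : a ∈ A) (hb : b ∈ A) (a2 : a * a = 1) (a1 : a ≠ 1) (b1 : b ≠ 1) (ab : b ≠ a) :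
    4 ≤ Nat.card A := by
  have h1 := two_le (zpowers_le.2 ha) hb fun k => (zp2 a2 k).elim b1 ab
  have h2 := two_le' (mem_zpowers a) a1
  omega

theorem inv2 (a2 : a * a = 1) : a⁻¹ = a := inv_eq_of_mul_eq_one_right a2

theorem norm_le_norm_OZ (hg : g ∈ 𝐍(D)) : g ∈ 𝐍(OZ D) :=
  cj_eq_self_iff.1 (by rw [cj_OZ, cj_eq_of_mem_normalizer hg])

theorem tv_small (h8 : Nat.card (OZ D) ≤ 8) (hn : a ∈ 𝐍(D)) (a2 : a * a ∈ D) : Tv (OZ D) a := by
  intro v hv w hw v1 w1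
  by_contra vw
  have k1 : ∀ v ∈ OZ D, v * (a * v * a⁻¹) ∈ OZ D ⊓ cz a := fun v hv =>
    ⟨mul_mem hv (conj_OZ' hv hn), cz_comm.1 (mem_cz_of_conj (by
      calc _ = a * v * a⁻¹ * (a * a * v * (a * a)⁻¹) := by group
        _ = _ := by rw [cz_conj (OZ_cz hv a2), hv.2.1 _ (conj_OZ' hv hn).1]))⟩
  have k2 : ∀ v ∈ OZ D, v ∉ cz a → v * (a * v * a⁻¹) ≠ 1 := fun v hv h e => h (cz_comm.1
    (mem_cz_of_conj (by rw [eq_inv_of_mul_eq_one_right e, inv2 hv.2.2])))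
  have h4 := four_le (k1 v hv) (k1 w hw) (k1 v hv).1.2.2 (k2 v hv v1) (k2 w hw w1) fun e =>
    k2 _ (mul_mem hv hw) vw (by
      rw [← (k1 v hv).1.2.2]
      nth_rw 2 [← e]
      rw [mul_assoc v _ (w * _), ← mul_assoc (a * v * a⁻¹), ← (conj_OZ' hv hn).2.1 w hw.1]
      group)
  have vn : v ∈ 𝐍((OZ D ⊓ cz a : Subgroup G)) :=
    Amb.cent_le_norm _ (Amb.cent_anti (inf_le_left.trans OZ_le) hv.2.1)
  have h5 := two_le (le_sup_left (b := zpowers v)) (mem_sup_right (mem_zpowers v))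
    fun k : v ∈ OZ D ⊓ cz a => v1 k.2
  have h6 := two_le (sup_le inf_le_left (zpowers_le.2 hv)) hw fun k =>
    (mem_sup_zpowers_inv hv.2.2 vn k).elim (w1 ·.2) fun k => vw (hw.2.1 v hv.1 ▸ k.2)
  omega

/-- an involution with centralizer `F` of index two in `D` -/
structure Pb (D F : Subgroup G) (e u : G) : Prop where
  i2 : I2 F D
  eD : e ∈ D
  e2 : e * e = 1
  uV : u ∈ OZ D
  u1 : u ≠ 1
  ins : F ≤ cz e
  out : ∀ d ∈ D, d ∉ F → d * e * d⁻¹ = e * u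

theorem Pb.conj (p : Pb D F e u) (hg : g ∈ 𝐍(D)) :
    Pb D (cj g F) (g * e * g⁻¹) (g * u * g⁻¹) :=
  ⟨cj_eq_of_mem_normalizer hg ▸ p.i2.cj g, conj_mem_of_mem_normalizer hg p.eD, conj_sq p.e2 g,
    conj_OZ' p.uV hg, conj_ne p.u1 g, cj_cz g e ▸ cj_mono g p.ins, fun d hd h => by
      rw [conj_mul, ← p.out _ (inv_conj_mem_of_mem_normalizer hg hd) (mt mem_cj.2 h)]; group⟩

theorem Pb.mem (p : Pb D F e u) (hd : d ∈ D) (h : d ∈ cz e) : d ∈ F := by_contra fun k =>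
  p.u1 (by simpa [cz_conj h] using p.out d hd k)

theorem Pb.V (p : Pb D F e u) : OZ D ≤ F := fun _ hv => p.mem hv.1 (cz_comm.1 (OZ_cz hv p.eD))

theorem Pb.eV (p : Pb D F e u) : e ∉ OZ D := fun h => by
  obtain ⟨t, h1, h2⟩ := p.i2.ex
  exact h2 (p.mem h1 (OZ_cz h h1))

theorem Pb.eq (p : Pb D F e u) (q : Pb D F' e' u') (h : e' * e ∈ OZ D) : F' = F ∧ u' = u := by
  have k : ∀ d ∈ D, d * e' * d⁻¹ = e' * e * (d * e * d⁻¹) := fun d hd => by
    rw [← cz_conj (OZ_cz h hd), conj_mul, mul_assoc e', p.e2, mul_one]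
  have k1 : F ≤ F' := fun d hd => q.mem (p.i2.1 hd) (mem_cz_of_conj (by
    rw [k d (p.i2.1 hd), cz_conj (p.ins hd), mul_assoc, p.e2, mul_one]))
  have k2 : F = F' := eq_of_le_of_card_le k1 (by have := p.i2.card; have := q.i2.card; omega)
  obtain ⟨t, h1, h2⟩ := p.i2.ex
  have k3 := k t h1
  rw [p.out t h1 h2, q.out t h1 (k2 ▸ h2), mul_assoc, ← mul_assoc e, p.e2, one_mul] at k3
  exact ⟨k2.symm, mul_left_cancel k3⟩

theorem Pb.nc (p : Pb D F e u) (q : Pb D F' e' u') (h : e' ∉ F) : u' = u := by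
  have h1 := p.out _ q.eD h
  have h2 := q.out _ p.eD fun k => h (p.mem q.eD (cz_comm.1 (q.ins k)))
  rw [inv2 q.e2] at h1
  rw [inv2 p.e2, q.uV.2.1 _ q.eD] at h2
  rw [← mul_one u', ← q.e2, ← mul_assoc, ← h2, mul_assoc, mul_assoc, ← mul_assoc e', h1,
    ← mul_assoc, p.e2, one_mul]

theorem Cx.nV (c : Cx D R S) (hy : y ∈ S) (yN : y ∈ 𝐍(R)) (yR : y ∉ R) :
    ¬ OZ (LocalEven.cj y D) ≤ OZ D := fun h => by
  have h1 : OZ (LocalEven.cj y D) = OZ D := eq_of_le_of_card_le h (by rw [← cj_OZ, card_cj])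
  exact yR (c.mem hy (mem_normalizer_of_cj_le fun x hx => c.cf.cV fun v hv =>
    ((h1.ge hv).2.1 x hx).symm))

theorem Cx.caseB (c : Cx D R S) (hy : y ∈ S) (yN : y ∈ 𝐍(R)) (yR : y ∉ R) (y2 : y * y ∈ R) :
    ¬ OZ (LocalEven.cj y D) ≤ D := fun hB => by
  have c' := c.cj yN
  have yy : LocalEven.cj y (LocalEven.cj y D) = D := by rw [cj_cj, cj_eq_of_mem_normalizer (c.sR.le y2)]
  have hB' : OZ D ≤ LocalEven.cj y D := by
    have := cj_mono y hB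
    rwa [cj_OZ, yy] at this
  obtain ⟨e, he, eV⟩ := SetLike.not_le_iff_exists.1 (c.nV hy yN yR)
  obtain ⟨d, hd, de⟩ : ∃ d ∈ D, d ∉ cz e := by
    by_contra! k
    exact eV ⟨hB he, fun d hd => mem_cz.1 (k d hd), he.2.2⟩
  have dD : d ∉ LocalEven.cj y D := fun k => de (OZ_cz he k)
  obtain ⟨a, ha, an, aD, a2⟩ := ex_sq c.sR.pgrp c.ltD
  set F := D ⊓ LocalEven.cj y D with hF
  have VF : OZ D ≤ F := le_inf OZ_le hB'
  have eF : e ∈ F := ⟨hB he, he.1⟩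
  have cR := c.cR
  have iR : I2 D R := c.idx ha aD (tv_small (by
    have h1 := two_le VF eF eV
    have h2 := two_le (show F ≤ D from inf_le_left) hd fun k => dD k.2
    have h3 := two_le c.DR ha aD
    omega) an a2)
  have iR' : I2 (LocalEven.cj y D) R := cj_eq_of_mem_normalizer yN ▸ iR.cj y
  have iF : I2 F D := iR'.inf c.DR hd dD
  have hu := mul_mem he (conj_OZ' he (iR'.norm (c.DR hd)))
  set u := e * (d * e * d⁻¹) with hu'
  have out : ∀ x ∈ D, x ∉ F → x * e * x⁻¹ = e * u := fun x hx xF => by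
    have := cz_conj (OZ_cz he (iF.mul (inv_mem hd) hx (fun k => dD (inv_mem_iff.1 k).2) xF).2)
    rw [hu', ← mul_assoc, he.2.2, one_mul]
    conv_rhs => rw [← this]
    group
  have uV : u ∈ OZ D := ⟨hB hu, fun x hx => mem_cz.1 (by
    by_cases k : x ∈ F
    · exact OZ_cz hu k.2
    · have h1 := cz_conj (OZ_cz he (iF.mul hx hx k k).2)
      have h2 := out x hx k
      refine mem_cz_of_conj (mul_left_cancel (a := e * u) ?_)
      rw [mul_assoc e u u, hu.2.2, mul_one]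
      conv_rhs => rw [← h1]
      rw [← h2, conj_mul, ← h2]
      group), hu.2.2⟩
  have p : Pb D F e u := ⟨iF, hB he, he.2.2, uV, fun k => de (mem_cz_of_conj (by
    rw [eq_inv_of_mul_eq_one_right k, inv2 he.2.2])), fun x hx => OZ_cz he hx.2, out⟩
  obtain ⟨h, h1, h2⟩ := c.ex_h
  obtain ⟨z, z0, hz, j, ez⟩ := c.ex_z
  have hS : ∀ g ∈ 𝐍(D), g ∉ R → g ∉ S := fun g g1 g2 g3 => g2 (c.mem g3 g1)
  have nF : Nat.card R = 64 → ∀ g, LocalEven.cj g F = F → g ∈ S := fun k g hg => by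
    have i : I2 R S := .of_card c.RS (by rw [c.m.cd S c.sS, k])
    exact c.nS (inf_le_left.trans c.DS) (VF hz) j.2.1 (i.le hy yR (le_norm_inf iR.norm iR'.norm)
      (cj_eq_self_iff.1 (by rw [cj_inf, yy, inf_comm]))) ▸ cj_eq_self_iff.1 hg
  have uz : Nat.card (OZ D) ≤ 4 → h * u * h⁻¹ ≠ u := fun k hk => by
    by_cases e : u = z
    · exact hS h h1 h2 (ez ▸ e ▸ mem_cz_of_conj hk)
    have h3 := four_le (A := OZ D ⊓ OZ (LocalEven.cj y D)) ⟨hz, c'.cf.OZ c'.DS z0⟩ ⟨uV, hu⟩ j.1 j.2.1 p.u1 e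
    obtain ⟨v, v1, v2⟩ := SetLike.not_le_iff_exists.1 (yy ▸ c'.nV hy yN yR)
    have h4 := two_le (inf_le_left (b := OZ (LocalEven.cj y D))) v1 fun k => v2 k.2
    omega
  have iW := i2_sup (he.2.2 ▸ one_mem (OZ D)) (norm_le_norm_OZ (le_normalizer (hB he))) eV
  have WF : OZ D ⊔ zpowers e ≤ F := sup_le VF (zpowers_le.2 eF)
  have eW : e ∈ OZ D ⊔ zpowers e := mem_sup_right (mem_zpowers e)
  have n1 := iR.card
  have n2 := iF.card
  have n3 := iW.card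
  have q := p.conj h1
  by_cases hW : F ≤ OZ D ⊔ zpowers e
  · have k : ∀ g (hg : g ∈ 𝐍(D)), g * e * g⁻¹ ∈ F → LocalEven.cj g F = F ∧ g * u * g⁻¹ = u := fun g hg k =>
      p.eq (p.conj hg) (iW.mul (hW k) eW (p.conj hg).eV eV)
    have h3 : ¬ Nat.card (OZ D) ≤ 4 := fun h3 =>
      uz h3 ((em _).elim (fun e => (k h h1 e).2) (p.nc q))
    have h4 : Nat.card R = 64 := by
      have h5 := card_dvd_of_le c.RS
      rw [c.m.cd S c.sS] at h5
      have h6 := card_le_of_le WF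
      exact (by decide : ∀ n ≤ 64, 32 < n → n ∣ 128 → n = 64) _ cR (by omega) h5
    have h5 := mul_mem an h1
    have q' := p.conj h5
    have m1 : h * e * h⁻¹ ∉ F := fun e => hS h h1 h2 (nF h4 h (k h h1 e).1)
    have m2 : a * h * e * (a * h)⁻¹ ∉ F := fun e =>
      hS _ h5 (fun k => h2 ((R.mul_mem_cancel_left ha).1 k)) (nF h4 _ (k _ h5 e).1)
    rcases iW.or eW eV (hW (iF.mul q'.eD q.eD m2 m1)) with hv | hv
    · refine h2 (inv_mem_iff.1 (c.ti (inv_mem h1) ha aD (nF h4 _ ?_)))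
      rw [inv_inv, mul_assoc, cj_mul, (q.eq q' hv).1, cj_inv_cj]
    · have r1 := p.out _ q.eD m1
      have r2 := q'.e2
      have r3 := q.e2
      have r4 := hv.2.1 _ (mul_mem p.eD q.eD)
      have r6 := hv.2.2
      generalize a * h * e * (a * h)⁻¹ = e2 at *
      generalize h * e * h⁻¹ = e1 at *
      have r5 : e2 = e2 * e1 * e * (e * e1) := by
        rw [mul_assoc, ← mul_assoc e, p.e2, one_mul, mul_assoc, r3, mul_one]
      generalize e2 * e1 * e = v at *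
      exact p.u1 (calc u = e * (e * u) := by rw [← mul_assoc, p.e2, one_mul]
        _ = v * v * (e * e1 * (e * e1)) := by rw [r6, ← r1, inv2 r3]; group
        _ = v * (e * e1 * v) * (e * e1) := by rw [r4]; group
        _ = 1 := by rw [← r2, r5]; group)
  · obtain ⟨t, t1, t2⟩ := SetLike.not_le_iff_exists.1 hW
    have h3 := two_le WF t1 t2
    have h4 := four_le hz (conj_OZ' hz h1) j.1 j.2.1 (conj_ne j.2.1 h) fun e =>
      hS h h1 h2 (ez ▸ mem_cz_of_conj e)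
    have h5 := uz (by omega)
    have h6 : h * e * h⁻¹ ∈ F := by_contra fun e => h5 (p.nc q e)
    have h7 : F ≤ LocalEven.cj h F := (I2.of_card WF (by omega)).le h6 (fun k =>
      h5 (p.eq q (iW.mul k eW q.eV eV)).2) (sup_le q.V (zpowers_le.2 (q.mem p.eD
        (cz_comm.1 (p.ins h6))))) (conj_mem_cj eF)
    exact hS h h1 h2 (nF (by omega) h (eq_of_le_of_card_le h7 (card_cj h F).le).symm)

theorem comm_of_four (hC : IsPGroup 2 C) (h4 : Nat.card C ≤ 4) (hx : x ∈ C) : C ≤ cz x := by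
  intro y hy
  by_contra k
  obtain ⟨z, hz, z2⟩ := exists_OZ hC (ne_bot_of_mem hy fun e => k (e ▸ one_mem _))
  have h1 := four_le (A := C ⊓ cz x) ⟨hz.1, cz_comm.1 (OZ_cz hz hx)⟩ ⟨hx, mem_cz.2 rfl⟩ hz.2.2
    (ne_one_of_orderOf_eq z2) (fun e => k (cz_comm.1 (e ▸ one_mem _))) fun e => k (e ▸ OZ_cz hz hy)
  have h2 := two_le (show C ⊓ cz x ≤ C from inf_le_left) hy fun e => k e.2
  omega

/-- the structure `R = D₈ × C` -/
structure St (D R S Z C : Subgroup G) (a e f : G) : Prop where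
  c : Cx D R S
  iR : I2 D R
  iD : I2 Z D
  iZ : I2 C Z
  aR : a ∈ R
  aD : a ∉ D
  a2 : a * a = 1
  eZ : e ∈ Z
  eC : e ∉ C
  e2 : e * e = 1
  fD : f ∈ D
  fZ : f ∉ Z
  f2 : f * f = 1
  Zc : ∀ x ∈ Z, R ≤ cz x
  ZD : ∀ x ∈ D, x ∈ cz a → x ∈ Z
  Df : D ≤ cz f
  rel : a * f * a⁻¹ = f * e
  noS : ∀ x ∈ C, x ≠ 1 → ∀ g, ¬ S ≤ cz (g * x * g⁻¹)
  c4 : Nat.card C ≤ 4

theorem Cx.st (c : Cx D R S) : ∃ Z C a e f, St D R S Z C a e f := by
  obtain ⟨y, hy, yN, yR, y2⟩ := ex_sq c.sS.pgrp c.lt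
  have c' := c.cj yN
  obtain ⟨a, ha, aD⟩ := SetLike.not_le_iff_exists.1 (c.caseB hy yN yR y2)
  have aR := c'.DR ha.1
  have an := c.sR.le aR
  have tv : Tv (OZ D) a := fun v hv w hw v1 w1 => OZ_cz ha (c'.F1 (c.DR hv.1) (c.DR hw.1)
    (fun k => v1 (OZ_cz ha k)) (fun k => w1 (OZ_cz ha k)) (hv.2.2 ▸ one_mem _) (hw.2.2 ▸ one_mem _))
  have iR := c.idx aR aD tv
  have iR' : I2 (LocalEven.cj y D) R := cj_eq_of_mem_normalizer yN ▸ iR.cj y
  obtain ⟨h, h1, h2⟩ := c.ex_h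
  obtain ⟨z, z0, hz, j, ez⟩ := c.ex_z
  have K : ∀ g ∈ 𝐍(D), g * z * g⁻¹ ∈ cz a → g ∈ R := fun g hg k =>
    inv_mem_iff.1 (c.ti (inv_mem hg) aR aD (by
      rw [cz_comm, ← cj_cz, ez, mem_cj] at k
      rwa [inv_inv]))
  have hw := conj_OZ' hz h1
  have w1 : h * z * h⁻¹ ∉ cz a := fun k => h2 (K h h1 k)
  have w2 : a * (h * z * h⁻¹) * a⁻¹ ∉ cz a := fun k => w1 (conj_cz.1 (by rwa [mul_inv_cancel_right]))
  have he := mul_mem hw (conj_OZ' hw an)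
  have ea := tv _ hw _ (conj_OZ' hw an) w1 w2
  set e := h * z * h⁻¹ * (a * (h * z * h⁻¹) * a⁻¹) with he'
  have act : ∀ v ∈ OZ D, v ∉ cz a → a * v * a⁻¹ = v * e := fun v hv k => by
    rw [he', ← mul_assoc, ← cz_conj (cz_comm.1 (tv _ hv _ hw k w1)), conj_mul, mul_assoc v, hw.2.2, mul_one]
  have hf := conj_OZ' he h1
  have bS : h * a * h⁻¹ ∉ S := fun k => h2 (c.ti h1 aR aD k)
  have zV := conj_OZ' hz (inv_mem h1)
  have fa : h * e * h⁻¹ ∉ cz a := fun k => bS (c.RS (K _ (conj_mem_of_mem_normalizer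
      (le_normalizer h1) an) (by
    have := act _ zV fun k => h2 (inv_mem_iff.1 (K _ (inv_mem h1) k))
    rw [show h * a * h⁻¹ * z * (h * a * h⁻¹)⁻¹ = h * (a * (h⁻¹ * z * h⁻¹⁻¹) * a⁻¹) * h⁻¹ by group,
      this, show h * (h⁻¹ * z * h⁻¹⁻¹ * e) * h⁻¹ = z * (h * e * h⁻¹) by group]
    exact mul_mem (cz_comm.1 (ez.ge (c.RS aR))) k)))
  have eb : e ∉ cz (h * a * h⁻¹) := fun k => by
    have k1 := ((cz _).mul_mem_cancel_left (conj_cz.2 (cz_comm.1 (ez.ge (c.RS aR))))).1 k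
    rw [← cj_cz, mem_cj] at k1
    have k2 := K (h⁻¹ * a * h⁻¹⁻¹) (conj_mem_of_mem_normalizer (le_normalizer (inv_mem h1)) an)
      (by simpa [mul_assoc] using k1)
    exact h2 (inv_mem_iff.1 (c.ti (inv_mem h1) aR aD (c.RS k2)))
  have iD : I2 (D ⊓ cz a) D := .of inf_le_left hf.1 (fun k => fa k.2) fun x hx =>
    (iR'.or (c.DR hf.1) (fun k => fa (OZ_cz ha k)) (c.DR hx)).imp (⟨hx, OZ_cz ha ·⟩)
      (⟨mul_mem hx hf.1, OZ_cz ha ·⟩)
  have iD' := iD.cj h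
  rw [cj_inf, cj_eq_of_mem_normalizer h1, cj_cz] at iD'
  have iZ := iD'.inf (E := D ⊓ cz a) inf_le_left ⟨he.1, ea⟩ fun k => eb k.2
  set C := D ⊓ cz a ⊓ (D ⊓ cz (h * a * h⁻¹))
  have up : ∀ X, C ≤ X → e ∈ X → h * e * h⁻¹ ∈ X → a ∈ X → R ≤ X := fun X k1 k2 k3 k4 =>
    iR.le aR aD (iD.le hf.1 (fun k => fa k.2) (iZ.le ⟨he.1, ea⟩ (fun k => eb k.2.2) k1 k2) k3) k4
  have no : ∀ x ∈ C, x ≠ 1 → D ≤ cz x → ∀ g, ¬ S ≤ cz (g * x * g⁻¹) := fun x hx x1 hD g k => by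
    rw [← cj_cz, le_cj_iff] at k
    have hT := c.sS.cj_of_mem (mem_top g⁻¹)
    have k1 := c.m.czS hT x1 k
    exact bS (c.m.uq c.cf hT c.sS (k1 ▸ hD) c.DS (k1 ▸ cz_comm.1 hx.1.2) (c.RS aR) aD ▸
      k1 ▸ cz_comm.1 hx.2.2)
  have CR : C ≤ R := fun x hx => c.DR hx.1.1
  have n1 := iR.card
  have n2 := iD.card
  have n3 := iZ.card
  have c4 : Nat.card C ≤ 4 := by
    by_contra h4
    have h5 : Nat.card R = 64 := by
      have h5 := card_dvd_of_le c.RS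
      rw [c.m.cd S c.sS] at h5
      exact (by decide : ∀ n ≤ 64, 32 < n → n ∣ 128 → n = 64) _ c.cR (by omega) h5
    have i : I2 R S := .of_card c.RS (by rw [c.m.cd S c.sS, h5])
    have k : ∀ x, C ≤ cz x → x ∈ 𝐍(C) := fun x hx => Amb.cent_le_norm _ fun y hy => mem_cz.1 (hx hy)
    have RC : R ≤ 𝐍(C) := up _ le_normalizer (k _ fun x hx => OZ_cz he hx.1.1)
      (k _ fun x hx => OZ_cz hf hx.1.1) (k _ fun x hx => hx.1.2)
    have RC' : R ≤ 𝐍(LocalEven.cj y C) := by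
      rw [← cj_normalizer, ← cj_eq_of_mem_normalizer yN]; exact cj_mono y RC
    have h6 : C ⊓ LocalEven.cj y C = ⊥ := by
      by_contra h6
      obtain ⟨x, hx, x1, x2⟩ := exists_mem_inf_centralizer c.sS.pgrp
        (c.sS.pgrp.to_le (inf_le_left.trans (CR.trans c.RS))) (i.le hy yR (le_norm_inf RC RC')
        (cj_eq_self_iff.1 (by rw [cj_inf, cj_cj, cj_eq_of_mem_normalizer (RC y2), inf_comm]))) h6
      exact no x hx.1 (ne_one_of_orderOf_eq x2) (fun d hd => mem_cz.2 (x1 d (c.DS hd))) 1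
        fun s hs => by simpa using mem_cz.2 (x1 s hs)
    have CR' := cj_le_of_mem_normalizer yN CR
    have h7 := Core.card_sup_of_disjoint (CR'.trans RC) (disjoint_iff.2 h6)
    rw [card_cj, show Nat.card C = 8 by omega] at h7
    have h8 := eq_of_le_of_card_le (sup_le CR CR') (by omega)
    exact fa (h8.ge.trans (sup_le (fun x hx => hx.1.2) ((cj_mono y (show C ≤ D from fun x hx => hx.1.1)).trans
      (OZ_cz ha))) (c.DR hf.1))
  have Cc : ∀ x ∈ C, R ≤ cz x := fun x hx => up _ (comm_of_four (c.sR.pgrp.to_le CR) c4 hx)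
    (cz_comm.1 (OZ_cz he hx.1.1)) (cz_comm.1 (OZ_cz hf hx.1.1)) (cz_comm.1 hx.1.2)
  have Re : R ≤ cz e := iR.le aR aD (OZ_cz he) (cz_comm.1 ea)
  exact ⟨_, C, a, e, _, c, iR, iD, iZ, aR, aD, ha.2.2, ⟨he.1, ea⟩, fun k => eb k.2.2, he.2.2, hf.1,
    fun k => fa k.2, hf.2.2, fun x hx r hr => cz_comm.1 (iZ.le ⟨he.1, ea⟩ (fun k => eb k.2.2)
      (fun x hx => cz_comm.1 (Cc x hx hr)) (cz_comm.1 (Re hr)) hx), fun x h1 h2 => ⟨h1, h2⟩,
    OZ_cz hf, act _ hf fa, fun x hx x1 => no x hx x1 (c.DR.trans (Cc x hx)), c4⟩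

end Cfsg.Agent.MX
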