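import Mathlib
import Cfsg.Agent.Inv.MX2
import Cfsg.Agent.PLocal.Extremal

/-! Simple groups with a maximal Sylow 2-subgroup of order 128: fusion and transfer. -/

set_option autoImplicit false
set_option linter.unusedSectionVars false

namespace Cfsg.Agent.MX

open Subgroup Cfsg.Agent.GW Cfsg.Agent.LocalEven Cfsg.Agent.BG Cfsg.Agent.Gs Cfsg.Agent.GsC
open Cfsg.Agent.LR Cfsg.Agent.BG.Amb

variable {G : Type*} [Group G] [Finite G] [IsSimpleGroup G] {S D R P N Z C : Subgroup G}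
  {a c d e f g h k s t u v w x y z : G}

theorem comm_le3 (hS : S ≤ closure {x, y, w}) (n1 : x ∈ 𝐍(N)) (n2 : y ∈ 𝐍(N)) (n3 : w ∈ 𝐍(N))
    (c1 : x * y * x⁻¹ * y⁻¹ ∈ N) (c2 : x * w * x⁻¹ * w⁻¹ ∈ N) (c3 : y * w * y⁻¹ * w⁻¹ ∈ N) :
    ⁅S, S⁆ ≤ N := by
  have hn : closure {x, y, w} ≤ 𝐍(N) := (closure_le _).2 (by rintro _ (rfl | rfl | rfl) <;> assumption)
  have sy : ∀ a b : G, a * b * a⁻¹ * b⁻¹ ∈ N → b * a * b⁻¹ * a⁻¹ ∈ N := fun a b h => by
    simpa [mul_assoc] using inv_mem h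
  have k : ∀ a : G, (∀ b ∈ ({x, y, w} : Set G), a * b * a⁻¹ * b⁻¹ ∈ N) →
      ∀ b ∈ closure {x, y, w}, a * b * a⁻¹ * b⁻¹ ∈ N := fun a h b hb => by
    induction hb using closure_induction with
    | mem b hb => exact h b hb
    | one => simp
    | mul b b' hb _ h1 h2 =>
      simpa [mul_assoc] using mul_mem h1 (conj_mem_of_mem_normalizer (hn hb) h2)
    | inv b hb h1 =>
      simpa [mul_assoc] using inv_conj_mem_of_mem_normalizer (hn hb) (inv_mem h1)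
  refine commutator_le.2 fun a ha b hb => k a (fun b hb => sy _ _ (k b ?_ a (hS ha))) b (hS hb)
  rcases hb with rfl | rfl | rfl <;> rintro _ (rfl | rfl | rfl) <;>
    first | assumption | (apply sy; assumption) | simp

theorem Mx.tr (m : Mx G) (hS : IsSylowIn 2 S ⊤) (hc : c ∈ S) (c2 : c * c = 1) (h1 : c ∉ ⁅S, S⁆)
    (hP : IsPGroup 2 P) (Pc : P ≤ cz c)
    (h2 : ∀ g, g⁻¹ * c * g ∈ S → cj g⁻¹ P ≤ S → c * (g⁻¹ * c * g) ∈ ⁅S, S⁆) : False := by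
  have k : ∀ x : S, Abelianization.of x = 1 ↔ (x : G) ∈ ⁅S, S⁆ := fun x => by
    rw [← MonoidHom.mem_ker, Abelianization.ker_of, ← map_subtype_commutator]
    exact ⟨fun h => ⟨x, h, rfl⟩, fun ⟨y, h, e⟩ => Subtype.ext e ▸ h⟩
  haveI : NeZero (Monoid.exponent (Abelianization S)) := ⟨Monoid.exponent_ne_zero_of_finite⟩
  obtain ⟨ψ, hψ⟩ := CommGroup.exists_apply_ne_one_of_hasEnoughRootsOfUnity (Abelianization S) ℂ
    (mt (k ⟨c, hc⟩).1 h1)
  obtain ⟨g, hg, e, hle⟩ := PLocal.exists_extremal_conj (ψ.comp Abelianization.of) (y := c)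
    (by rw [sq, c2]) (c := -1) (orderOf_eq_prime (by simp) (by
      rw [Ne, ← Units.val_inj]; norm_num)) (by
      have := hS.not_dvd
      rw [relIndex_top_right] at this
      exact Nat.odd_iff.2 (by omega)) (fun g hg => by
      rw [← Units.val_eq_one, ← Units.val_inj, Units.val_neg, Units.val_one, ← mul_self_eq_one_iff,
        ← Units.val_mul, ← map_mul, Units.val_eq_one]
      rw [show (⟨_, hg⟩ * ⟨_, hg⟩ : S) = 1 from Subtype.ext (by simpa using conj_sq c2 g⁻¹), map_one]) (by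
      have h3 : commutator G = ⊤ := by
        refine (Normal.eq_bot_or_eq_top inferInstance).resolve_left fun e => m.nc ?_
        exact ⟨⟨fun a b => commutatorElement_eq_one_iff_mul_comm.1
          (mem_bot.1 (e ▸ commutator_mem_commutator (mem_top a) (mem_top b)))⟩⟩
      exact Abelianization.commutator_subset_ker _ (h3 ▸ mem_top c)) hP Pc
  have := congrArg ψ ((k (⟨c, hc⟩ * ⟨_, hg⟩)).2 (h2 g hg hle))
  rw [map_mul, map_mul, map_one, show ψ (Abelianization.of ⟨_, hg⟩) = 1 from e, mul_one] at this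
  exact hψ this

namespace St
variable (q : St D R S Z C a e f)
include q

theorem ZR : Z ≤ R := q.iD.1.trans q.iR.1
theorem CR : C ≤ R := q.iZ.1.trans q.ZR
theorem fR : f ∈ R := q.iR.1 q.fD
theorem e1 : e ≠ 1 := fun k => q.eC (k ▸ one_mem _)

theorem rel' : a⁻¹ * f * a⁻¹⁻¹ = f * e := by rw [inv2 q.a2]; exact q.rel

theorem cm (hx : x ∈ Z) (hy : y ∈ R) : x * y = y * x := (mem_cz.1 (q.Zc x hx hy)).symm

theorem cen (hx : R ≤ cz x) : x ∈ Z :=
  q.ZD x (q.c.cf.cD fun _ hd => mem_cz.1 (hx (q.iR.1 hd))) (cz_comm.1 (hx q.aR))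

theorem nZ (hg : g ∈ 𝐍(R)) : g ∈ 𝐍(Z) := mem_normalizer_of_cj_le (cj_le_iff'.2 fun x hx => q.cen (by
  rw [← cj_cz, ← cj_eq_of_mem_normalizer hg]; exact cj_mono g (q.Zc x hx)))

theorem sq (hx : x ∈ Z) : ∃ y ∈ C, x * x = y * y := (q.iZ.or q.eZ q.eC hx).elim (⟨x, ·, rfl⟩)
  fun k => ⟨_, k, by rw [mul_assoc, ← mul_assoc e, ← q.cm hx (q.ZR q.eZ), mul_assoc x, q.e2, mul_one]⟩

theorem sq' (hx : x * a * f ∈ Z) : ∃ y ∈ C, x * x = y * y * e := by
  obtain ⟨y, h1, h2⟩ := q.sq hx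
  have h3 := q.cm hx (mul_mem q.fR q.aR)
  have h4 : x = x * a * f * (f * a) := by
    rw [mul_assoc, ← mul_assoc f, q.f2, one_mul, mul_assoc, q.a2, mul_one]
  generalize x * a * f = v at *
  refine ⟨y, h1, ?_⟩
  calc _ = v * (f * a * v) * (f * a) := by rw [h4]; group
    _ = v * v * (f * (a * f * a⁻¹)) := by rw [← h3, inv2 q.a2]; group
    _ = _ := by rw [h2, q.rel, ← mul_assoc f, q.f2, one_mul]

theorem nD (hg : g ∈ S) (hn : g ∈ 𝐍(Z)) (h : g * f * g⁻¹ ∈ D) : g ∈ R :=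
  q.c.mem hg (mem_normalizer_of_cj_le ((q.iD.cj g).le (conj_mem_cj q.fD)
    (mt conj_mem_cj_iff.1 q.fZ) ((cj_eq_of_mem_normalizer hn).le.trans q.iD.1) h))

theorem cls (hx : x ∈ R) : x ∈ D ∨ x * a ∈ Z ∨ x * a * f ∈ Z :=
  (q.iR.or q.aR q.aD hx).imp id (q.iD.or q.fD q.fZ)

theorem sw (hg : g ∈ S ⊓ 𝐍(R)) (gR : g ∉ R) : g * f * g⁻¹ * a ∈ Z := by
  rcases q.cls (conj_mem_of_mem_normalizer hg.2 q.fR) with k | k | k
  · exact absurd (q.nD hg.1 (q.nZ hg.2) k) gR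
  · exact k
  · obtain ⟨y, h1, h2⟩ := q.sq' k
    rw [conj_sq q.f2, eq_comm, mul_eq_one_iff_inv_eq] at h2
    exact absurd (h2 ▸ inv_mem (mul_mem h1 h1)) q.eC

theorem mv (hg : g ∈ S ⊓ 𝐍(R)) (gR : g ∉ R) (hx : x ∈ R) (h : g * x * g⁻¹ * x⁻¹ ∈ Z) :
    x ∈ Z ∨ x * a * f ∈ Z := by
  rcases q.cls hx with k | k | k
  · refine (q.iD.or q.fD q.fZ k).imp id fun k1 => absurd (q.nD hg.1 (q.nZ hg.2) ?_) gR
    have := mul_mem (inv_mem (mul_mem (q.iD.1 h) k)) (q.iD.1 (conj_mem_of_mem_normalizer (q.nZ hg.2) k1))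
    simpa [mul_assoc] using this
  · have h1 := conj_mem_of_mem_normalizer (q.nZ hg.2) (mul_mem k (inv_mem (q.sw (inv_mem hg)
      (mt inv_mem_iff.1 gR))))
    have h2 := mul_mem (mul_mem (inv_mem q.fD) (q.iD.1 (mul_mem (inv_mem h1) h))) (q.iD.1 k)
    exact absurd (by simpa [mul_assoc] using h2) q.aD
  · exact .inr k

theorem RT : R ≤ S ⊓ 𝐍(R) := le_inf q.c.RS le_normalizer

theorem iT : I2 R (S ⊓ 𝐍(R)) := by
  obtain ⟨g, h1, h2, h3⟩ := exists_mem_normalizer_of_lt q.c.sS.pgrp q.c.lt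
  refine .of q.RT ⟨h1, h2⟩ h3 fun x hx => (em _).imp id fun k => ?_
  have := conj_mem_of_mem_normalizer (q.nZ hx.2) (mul_mem (q.sw ⟨h1, h2⟩ h3)
    (inv_mem (q.sw (inv_mem hx) (mt inv_mem_iff.1 k))))
  exact q.nD (mul_mem hx.1 h1) (q.nZ (mul_mem hx.2 h2)) (by
    simpa [mul_assoc] using mul_mem (q.iD.1 this) q.fD)

theorem Z2 (hx : x ∈ S) (x2 : x * x = 1) (h : ∀ d ∈ S ⊓ 𝐍(R), d * x * d⁻¹ * x⁻¹ ∈ Z) : x ∈ Z := by
  have h1 : x ∈ R := q.c.mem hx (mem_normalizer_of_cj_le (cj_le_iff'.2 fun d hd => by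
    simpa [mul_assoc] using mul_mem (inv_mem (q.iD.1 (h d (q.RT (q.iR.1 hd))))) hd))
  obtain ⟨g, h2, h3⟩ := q.iT.ex
  refine (q.mv h2 h3 h1 (h g h2)).resolve_right fun k => ?_
  obtain ⟨y, h1, h2⟩ := q.sq' k
  rw [x2, eq_comm, mul_eq_one_iff_inv_eq] at h2
  exact q.eC (h2 ▸ inv_mem (mul_mem h1 h1))

theorem ext (hx : x ∈ S) (x2 : x * x = 1) (h1 : P ≤ S) (h2 : P ≤ cz x) (h3 : 64 ≤ Nat.card P) :
    x ∈ Z := q.Z2 hx x2 fun d hd => by
  by_cases k : d ∈ cz x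
  · rw [cz_conj k, mul_inv_cancel]; exact one_mem _
  have i : I2 (S ⊓ cz x) S := .of_card inf_le_left (by
    have h4 := two_le (show S ⊓ cz x ≤ S from inf_le_left) hd.1 fun e => k e.2
    have h5 := card_le_of_le (le_inf h1 h2)
    have := q.c.m.cd S q.c.sS
    omega)
  have k1 : ∀ t ∈ S ⊓ cz x, t ∈ cz (d * x * d⁻¹) := fun t ht => by
    rw [← cj_cz, mem_cj]; exact (inv_conj_mem_of_mem_normalizer (i.norm hd.1) ht).2
  refine q.cen (q.c.RS.trans (i.le hd.1 (fun e => k e.2) (fun t ht => cz_comm.1 (mul_mem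
    (cz_comm.1 (k1 t ht)) (inv_mem (cz_comm.1 ht.2)))) (mem_cz_of_conj ?_)))
  have k2 := cz_conj (i.mul hd.1 hd.1 (fun e => k e.2) fun e => k e.2).2
  have k3 := mem_cz.1 (k1 x ⟨hx, mem_cz.2 rfl⟩)
  calc _ = d * d * x * (d * d)⁻¹ * (d * x⁻¹ * d⁻¹) := by group
    _ = _ := by rw [k2, inv2 x2, k3]

theorem om (hU : U1 C) (hc : c ∈ C) (c2 : c * c = 1) (c1 : c ≠ 1) (hz : z ∈ Z) (zC : z ∉ C)
    (z2 : z * z = 1) (hx : x ∈ Z) (x2 : x * x = 1) : x = 1 ∨ x = c ∨ x = z ∨ x = c * z := by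
  rcases q.iZ.or hz zC hx with k | k
  · exact (hU.cases k hc x2 c2 c1).imp id .inl
  · have : x = x * z * z := by rw [mul_assoc, z2, mul_one]
    rcases hU.cases k hc (by rw [mul_assoc, ← mul_assoc z, ← q.cm hx (q.ZR hz), mul_assoc x, z2,
      mul_one, x2]) c2 c1 with e | e <;> rw [this, e] <;> simp

theorem ex_z : ∃ z ∈ OZ S, z ∈ Z ∧ z ∉ C ∧ z ≠ 1 := by
  obtain ⟨z, h1, -, h2, -⟩ := q.c.ex_z
  exact ⟨z, h1, q.cen (q.c.RS.trans (OZ_cz h1)), fun k => q.noS z k h2.2.1 1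
    (by simpa using OZ_cz h1), h2.2.1⟩

theorem fin (hU : U1 C) (hc : c ∈ C) (c2 : c * c = 1) (c1 : c ≠ 1) (h1 : P ≤ S) (h2 : P ≤ cz c)
    (h3 : 64 ≤ Nat.card P) (h4 : ⁅S, S⁆ ≤ zpowers h) : False := by
  obtain ⟨z, z0, hz, zC, z1⟩ := q.ex_z
  have k : ∀ g, g * c * g⁻¹ ∈ S → cj g P ≤ S → g * c * g⁻¹ = c ∨ g * c * g⁻¹ = c * z :=
    fun g g1 g2 => by
      rcases q.om hU hc c2 c1 hz zC z0.2.2 (q.ext g1 (conj_sq c2 g) g2 (cj_cz g c ▸ cj_mono g h2)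
        (by rwa [card_cj])) (conj_sq c2 g) with e | e | e | e
      exacts [absurd e (conj_ne c1 g), .inl e, absurd (e ▸ OZ_cz z0) (q.noS c hc c1 g), .inr e]
  have cS := q.c.RS (q.CR hc)
  obtain ⟨s, s1, s2⟩ := SetLike.not_le_iff_exists.1 (q.noS c hc c1 1)
  have zS : z ∈ ⁅S, S⁆ := by
    have := commutator_mem_commutator (inv_mem cS) s1
    rcases k s (mul_mem (mul_mem s1 cS) (inv_mem s1)) (cj_le_of_mem s1 h1) with e | e
    · exact absurd (by simpa using mem_cz_of_conj e) s2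
    · rwa [commutatorElement_def, inv_inv, mul_assoc, mul_assoc, ← mul_assoc s, e,
        inv_mul_cancel_left] at this
  refine q.c.m.tr q.c.sS cS c2 (fun e => zC (u1_of_cyc (D := zpowers h) inferInstance c (h4 e) z
    (h4 zS) c2 z0.2.2 c1 z1 ▸ hc)) (q.c.sS.pgrp.to_le h1) h2 fun g g1 g2 => ?_
  rcases k g⁻¹ (by rwa [inv_inv]) g2 with e | e <;> rw [inv_inv] at e <;> rw [e]
  · rw [c2]; exact one_mem _
  · rwa [← mul_assoc, c2, one_mul]

theorem one (h1 : Nat.card C = 1) : Nat.card (S ⊓ cz f : Subgroup G) ≤ 4 := by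
  obtain ⟨z, z0, hz, zC, -⟩ := q.ex_z
  have h2 : D ≤ _ := fun x hx => hx
  have h3 : S ⊓ cz f ≤ D := fun x hx => q.c.cf.cD fun d hd => mem_cz.1 (q.iD.le q.fD q.fZ
    (q.iZ.le hz zC (card_eq_one.1 h1 ▸ bot_le) (cz_comm.1 (OZ_cz z0 hx.1))) (cz_comm.1 hx.2) hd)
  have := card_le_of_le h3
  have := q.iD.card
  have := q.iZ.card
  omega

theorem two (h2 : Nat.card C = 2) : False := by
  obtain ⟨c, hc, c2'⟩ := exists_mem_orderOf_eq (p := 2) (H := C) (h2 ▸ dvd_rfl)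
  have c2 := sq_of_two c2'
  have c1 := ne_one_of_orderOf_eq c2'
  have hU : U1 C := u1_of_cyc (isCyclic_of_prime_card (p := 2) h2)
  have C2 : ∀ x ∈ C, x * x = 1 := fun x hx => by
    have := pow_card_eq_one' (x := (⟨x, hx⟩ : C))
    rw [h2, pow_two] at this
    exact congrArg Subtype.val this
  have Z2 : ∀ x ∈ Z, x * x = 1 := fun x hx => by
    obtain ⟨y, h1, h2⟩ := q.sq hx
    rw [h2, C2 y h1]
  obtain ⟨z, z0, hz, zC, z1⟩ := q.ex_z
  have cZ := q.iZ.1 hc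
  have cS := q.c.RS (q.CR hc)
  have om := fun x hx => q.om hU hc c2 c1 hz zC z0.2.2 (x := x) hx (Z2 x hx)
  have gen : ∀ X : Subgroup G, c ∈ X → z ∈ X → Z ≤ X := fun X k1 k2 x hx => by
    rcases om x hx with e | e | e | e <;> rw [e]
    exacts [one_mem _, k1, k2, mul_mem k1 k2]
  have mvc : ∀ y ∈ S ⊓ 𝐍(Z), y * c * y⁻¹ = c ∨ y * c * y⁻¹ = c * z := fun y hy => by
    rcases om _ (conj_mem_of_mem_normalizer hy.2 cZ) with e | e | e | e
    exacts [absurd e (conj_ne c1 y), .inl e, absurd (e ▸ OZ_cz z0) (q.noS c hc c1 y), .inr e]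
  have SZ : S ≤ 𝐍(Z) := by
    by_contra k
    obtain ⟨s, s1, s2, s3⟩ := exists_mem_normalizer_of_lt q.c.sS.pgrp
      (lt_of_le_of_ne (inf_le_left (b := 𝐍(Z))) fun e => k (inf_eq_left.1 e))
    refine s3 ⟨s1, mem_normalizer_of_cj_le (cj_le_iff.2 (gen _ (mem_cj_inv.2 ?_) (mem_cj_inv.2 (by
      rwa [cz_conj (OZ_cz z0 s1)]))))⟩
    refine q.Z2 (mul_mem (mul_mem s1 cS) (inv_mem s1)) (conj_sq c2 s) fun d hd => ?_
    have k1 : d * (s * c * s⁻¹) * d⁻¹ * (s * c * s⁻¹)⁻¹ =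
        s * (c * (c⁻¹ * (s⁻¹ * d * s * c * (s⁻¹ * d * s)⁻¹)) * c⁻¹) * s⁻¹ := by group
    rcases mvc _ (inv_conj_mem_of_mem_normalizer s2 ⟨hd.1, q.nZ hd.2⟩) with e | e <;> rw [k1, e]
    · simpa using one_mem Z
    · rwa [inv_mul_cancel_left, cz_conj (OZ_cz z0 cS), cz_conj (OZ_cz z0 s1)]
  obtain ⟨s, s1, s2⟩ := SetLike.not_le_iff_exists.1 (q.noS c hc c1 1)
  rw [one_mul, inv_one, mul_one] at s2
  have sw : ∀ x ∈ S, x ∉ cz c → x * c * x⁻¹ = c * z := fun x hx k =>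
    (mvc x ⟨hx, SZ hx⟩).resolve_left fun e => k (mem_cz_of_conj e)
  have iU : I2 (S ⊓ cz c) S := .of inf_le_left s1 (s2 ·.2) fun x hx => (em _).imp (⟨hx, ·⟩)
    fun k => ⟨mul_mem hx s1, mem_cz_of_conj (by
      rw [show x * s * c * (x * s)⁻¹ = x * (s * c * s⁻¹) * x⁻¹ by group, sw s s1 s2, ← conj_mul,
        sw x hx k, cz_conj (OZ_cz z0 hx), mul_assoc, z0.2.2, mul_one])⟩
  set U := S ⊓ cz c
  have RU : R ≤ U := le_inf q.c.RS (q.Zc c cZ)
  have UZ : ∀ u ∈ U, ∀ x ∈ Z, x * u = u * x := fun u hu x hx =>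
    mem_cz.1 (gen _ (cz_comm.1 hu.2) (cz_comm.1 (OZ_cz z0 hu.1)) hx)
  have nD : ∀ g ∈ S, g * f * g⁻¹ ∈ D → g ∈ R := fun g hg => q.nD hg (SZ hg)
  have fU := RU q.fR
  have xU := conj_mem_of_mem_normalizer (iU.norm s1) fU
  have x2 := conj_sq q.f2 s
  set x := s * f * s⁻¹ with hx
  have hU' := mul_mem fU xU
  set h := f * x with hh
  have fh : ∀ i : ℤ, f * h ^ i * f⁻¹ = h ^ (-i) := fun i => by
    rw [← conj_zpow, zpow_neg, ← inv_zpow, hh, mul_inv_rev, inv2 x2, ← mul_assoc, q.f2, one_mul]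
  have fN : f ∈ 𝐍(zpowers h) := mem_normalizer_of_cj_le (cj_le_iff'.2 (by
    rintro _ ⟨i, rfl⟩; exact fh i ▸ zpow_mem (mem_zpowers h) _))
  have fN' : f ∈ 𝐍((Z ⊔ zpowers h : Subgroup G)) := le_norm_sup (A := zpowers f) (zpowers_le.2 (SZ fU.1))
    (zpowers_le.2 fN) (mem_zpowers f)
  have dec : ∀ w ∈ Z ⊔ zpowers h ⊔ zpowers f, ∃ y ∈ Z, ∃ i : ℤ, w = y * h ^ i ∨ w = y * h ^ i * f :=
    fun w hw => by
    have k := fun w => (mem_sup_iff_of_le_normalizer' (x := w) (zpowers_le.2 (SZ hU'.1))).1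
    rcases mem_sup_zpowers_inv q.f2 fN' hw with e | e <;> obtain ⟨y, k1, _, ⟨i, rfl⟩, k2⟩ := k _ e
    · exact ⟨y, k1, i, .inl k2.symm⟩
    · exact ⟨y, k1, i, .inr (by rw [show y * h ^ i = w * f from k2, mul_assoc, q.f2, mul_one])⟩
  set W := Z ⊔ zpowers h ⊔ zpowers f
  have WU : W ≤ U := sup_le (sup_le (q.ZR.trans RU) (zpowers_le.2 hU')) (zpowers_le.2 fU)
  have hW : h ∈ W := mem_sup_left (mem_sup_right (mem_zpowers h))
  have fW : f ∈ W := mem_sup_right (mem_zpowers f)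
  have DW : D ≤ W := q.iD.le q.fD q.fZ (le_sup_left.trans le_sup_left) fW
  have xW : x ∈ W := (W.mul_mem_cancel_left fW).1 hW
  have xD : x ∉ D := fun k => s2 (RU (nD s s1 k)).2
  have RW : R ≤ W := by
    obtain ⟨r, r1, r2, r3⟩ := exists_mem_normalizer_of_lt (q.c.sS.pgrp.to_le (WU.trans inf_le_left))
      (lt_of_le_of_ne DW fun e => xD (e ▸ xW))
    exact q.iR.le (q.c.mem (WU r1).1 r2) r3 DW r1
  have cf : ∀ i j : ℤ, h ^ j * (h ^ i * f) * (h ^ j)⁻¹ = h ^ (i + 2 * j) * f := fun i j => by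
    calc _ = h ^ j * h ^ i * (f * h ^ (-j) * f⁻¹) * f := by group
      _ = _ := by rw [fh]; group
  have UW : U ≤ W := by
    by_contra k
    obtain ⟨u, u1, u2, u3⟩ := exists_mem_normalizer_of_lt (q.c.sS.pgrp.to_le inf_le_left)
      (lt_of_le_of_ne WU fun e => k e.ge)
    obtain ⟨y, y1, i, e | e⟩ := dec _ (conj_mem_of_mem_normalizer u2 fW)
    · have k1 := conj_sq q.f2 u
      have hi := zpow_mem hU' i
      rw [e, mul_assoc, ← mul_assoc (h ^ i), ← UZ _ hi y y1, mul_assoc, ← mul_assoc, Z2 y y1,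
        one_mul] at k1
      have k2 : W ≤ cz (u * f * u⁻¹) := e ▸ sup_le (sup_le (fun v hv => mem_cz.2
        (UZ _ (mul_mem (RU (q.ZR y1)) hi) v hv)) (zpowers_le.2 (cz_comm.1 (mul_mem (mem_cz.2
          (UZ h hU' y y1)) (zpow_mem (mem_cz.2 rfl) i))))) (zpowers_le.2 (cz_comm.1 (mul_mem
          (mem_cz.2 (UZ f fU y y1)) (cz_comm.1 (mem_cz_of_conj (by rw [fh, zpow_neg, inv2 k1]))))))
      rw [← cj_cz, le_cj_iff, cj_eq_of_mem_normalizer (inv_mem u2)] at k2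
      exact xD (q.c.cf.cD fun d hd => mem_cz.1 (q.iD.le q.fD q.fZ
        (fun v hv => mem_cz.2 (UZ x xU v hv)) (cz_comm.1 (k2 xW)) hd))
    · have k1 : ∀ j : ℤ, h ^ j * u * f * (h ^ j * u)⁻¹ = y * (h ^ (i + 2 * j) * f) := fun j => by
        rw [← cf, show h ^ j * u * f * (h ^ j * u)⁻¹ = h ^ j * (u * f * u⁻¹) * (h ^ j)⁻¹ by group, e,
          mul_assoc y, ← conj_mul, ← UZ _ (zpow_mem hU' j) y y1, mul_inv_cancel_right]
      have k2 := fun j : ℤ => mul_mem (zpow_mem hU' j) u1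
      obtain ⟨j, rfl | rfl⟩ := Int.even_or_odd' i
      · exact u3 ((W.mul_mem_cancel_left (zpow_mem hW (-j))).1 (RW (nD _ (k2 _).1 (by
          rw [k1]; simpa using mul_mem (q.iD.1 y1) q.fD))))
      · have k3 : s⁻¹ * (h ^ (-j - 1) * u) * f * (s⁻¹ * (h ^ (-j - 1) * u))⁻¹ = s⁻¹ * y * s * f := by
          calc _ = s⁻¹ * (h ^ (-j - 1) * u * f * (h ^ (-j - 1) * u)⁻¹) * s := by group
            _ = s⁻¹ * (y * (h⁻¹ * f)) * s := by rw [k1]; group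
            _ = _ := by rw [hh, mul_inv_rev, inv2 x2, hx]; group
        exact s2 (inv_mem_iff.1 ((U.mul_mem_cancel_right (k2 _)).1 (RU (nD _ (mul_mem (inv_mem s1)
          (k2 _).1) (k3 ▸ mul_mem (q.iD.1 (inv_conj_mem_of_mem_normalizer (SZ s1) y1)) q.fD))))).2
  have sN : s ∈ 𝐍(zpowers h) := mem_normalizer_of_cj_le (by
    rw [cj_zpowers, zpowers_le]
    obtain ⟨i, k⟩ : ∃ i : ℤ, s * s * f * (s * s)⁻¹ = h ^ i * f := by
      obtain ⟨y, y1, i, e | e⟩ := dec _ (UW (iU.mul s1 s1 (s2 ·.2) (s2 ·.2))) <;>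
        refine ⟨0 + 2 * i, ?_⟩ <;> rw [e, ← cf, UZ _ (zpow_mem hU' i) y y1] <;>
        exact .trans (b := h ^ i * (y * f * y⁻¹) * (h ^ i)⁻¹) (by group) (by
          rw [cz_conj (cz_comm.1 (q.Zc y y1 q.fR)), zpow_zero, one_mul])
    have : s * h * s⁻¹ = f * (h * h ^ i) * f⁻¹ := by
      calc _ = x * (s * s * f * (s * s)⁻¹) := by rw [hh, hx]; group
        _ = f * f * x * (h ^ i * f) := by rw [k, q.f2, one_mul]
        _ = _ := by rw [inv2 q.f2, mul_assoc f f x, ← hh]; group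
    exact this ▸ conj_mem_of_mem_normalizer fN (mul_mem (mem_zpowers h) (zpow_mem (mem_zpowers h) i)))
  have cN : c ∈ 𝐍(zpowers h) := Amb.cent_le_norm _ (by rw [Gs.cent_zpowers]; exact cz_comm.1 hU'.2)
  have gS : ∀ X : Subgroup G, f ∈ X → c ∈ X → s ∈ X → S ≤ X := fun X k1 k2 k3 => by
    have k4 := mul_mem (mul_mem k3 k1) (inv_mem k3)
    exact iU.le s1 (s2 ·.2) (UW.trans (sup_le (sup_le (gen X k2 ((X.mul_mem_cancel_left k2).1
      (sw s s1 s2 ▸ mul_mem (mul_mem k3 k2) (inv_mem k3)))) (zpowers_le.2 (mul_mem k1 k4)))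
      (zpowers_le.2 k1))) k3
  have zN : z ∈ zpowers h := by
    obtain ⟨u, u1, u2, u3⟩ := exists_mem_inf_centralizer q.c.sS.pgrp (q.c.sS.pgrp.to_le
      (zpowers_le.2 hU'.1)) (gS _ fN cN sN) (ne_bot_of_mem (mem_zpowers h) fun e => xD (by
        rw [eq_inv_of_mul_eq_one_right e]; exact inv_mem q.fD))
    have u4 : S ≤ cz u := fun t ht => mem_cz.2 (u2 t ht)
    rcases om u (q.cen (q.c.RS.trans u4)) with e | e | e | e
    · exact absurd e (ne_one_of_orderOf_eq u3)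
    · exact absurd (u4 s1) (e ▸ s2)
    · exact e ▸ u1
    · exact absurd (cz_comm.1 (((cz s).mul_mem_cancel_right (cz_comm.1 (OZ_cz z0 s1))).1
        (e ▸ cz_comm.1 (u4 s1)))) s2
  refine q.fin hU hc c2 c1 (P := U) inf_le_left inf_le_right (by
    have := iU.card; have := q.c.m.cd S q.c.sS; omega) (comm_le3 (gS _ (subset_closure (by simp))
    (subset_closure (by simp)) (subset_closure (by simp))) fN cN sN ?_ ?_ ?_)
  · rw [cz_conj fU.2, mul_inv_cancel]; exact one_mem _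
  · have : f * s * f⁻¹ * s⁻¹ = h := by rw [hh, hx, inv2 q.f2]; group
    exact this ▸ mem_zpowers h
  · have : c * s * c⁻¹ * s⁻¹ = c * (s * c * s⁻¹) := by rw [inv2 c2]; group
    rwa [this, sw s s1 s2, ← mul_assoc, c2, one_mul]

theorem P3 (i : I2 (S ⊓ 𝐍(R)) S) (hs : s ∈ S) (hx : x ∈ Z) : s * x * s⁻¹ ∈ R := by
  by_contra k
  have T := fun y (hy : y ∈ R) => conj_mem_of_mem_normalizer (i.norm hs) (q.RT hy)
  have hT := T x (q.ZR hx)
  have cx : ∀ y ∈ R, s * y * s⁻¹ ∈ cz (s * x * s⁻¹) := fun y hy => conj_cz.2 (q.Zc x hx hy)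
  set w := s * x * s⁻¹
  have k1 : ∀ p ∈ R ⊓ cz w, p ∈ Z ∨ p * a * f ∈ Z := fun p hp => q.mv hT k hp.1 (by
    rw [cz_conj (cz_comm.1 hp.2), mul_inv_cancel]; exact one_mem _)
  have k2 : ∀ p ∈ R ⊓ cz w, R ⊓ cz w ≤ cz p := fun p hp r hr => by
    rcases k1 p hp with e1 | e1
    · exact q.Zc p e1 hr.1
    rcases k1 r hr with e2 | e2
    · exact cz_comm.1 (q.Zc r e2 hp.1)
    have h1 : p⁻¹ * r ∈ cz p := by
      have := q.Zc _ (mul_mem e2 (inv_mem e1)) hp.1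
      rw [cz_comm] at this
      simpa [mul_assoc] using mul_mem (mul_mem (inv_mem (mem_cz.2 rfl : p ∈ cz p)) this) (mem_cz.2 rfl)
    exact ((cz p).mul_mem_cancel_left (inv_mem (mem_cz.2 rfl))).1 h1
  have k3 : ∀ y ∈ R, ∀ X : Subgroup G, R ⊓ cz w ≤ X → w ∈ X → s * y * s⁻¹ ∈ X := fun y hy X h1 h2 =>
    (q.iT.or hT k (T y hy)).elim (fun e => h1 ⟨e, cx y hy⟩) fun e =>
      (X.mul_mem_cancel_right h2).1 (h1 ⟨e, mul_mem (cx y hy) (mem_cz.2 rfl)⟩)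
  have k4 := cz_conj (conj_cz.1 (k3 a q.aR _ (fun p hp => cz_comm.1 (k3 f q.fR _ (k2 p hp)
    (cz_comm.1 hp.2))) (cz_comm.1 (cx f q.fR))))
  exact q.e1 (by simpa [k4] using q.rel)

theorem four (h4 : Nat.card C = 4) : False := by
  have n1 := q.iR.card
  have n2 := q.iD.card
  have n3 := q.iZ.card
  have n4 := q.iT.card
  have iS : I2 (S ⊓ 𝐍(R)) S := .of_card inf_le_left (by rw [q.c.m.cd S q.c.sS]; omega)
  obtain ⟨s, s1, s2, gR⟩ : ∃ s ∈ S, s ∉ S ⊓ 𝐍(R) ∧ s * f * s⁻¹ ∉ R := by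
    obtain ⟨s, s1, s2⟩ := iS.ex
    by_cases k : s * f * s⁻¹ ∈ R
    swap
    · exact ⟨s, s1, s2, k⟩
    obtain ⟨t, t1, t2⟩ := q.iT.ex
    refine ⟨s * t, mul_mem s1 t1.1, fun e => s2 ((Subgroup.mul_mem_cancel_right _ t1).1 e), fun e =>
      s2 ⟨s1, mem_normalizer_of_cj_le (cj_le_iff.2 (q.iR.le q.aR q.aD (q.iD.le q.fD q.fZ
        (fun x hx => mem_cj_inv.2 (q.P3 iS s1 hx)) (mem_cj_inv.2 k)) (mem_cj_inv.2 ?_)))⟩⟩
    simpa [mul_assoc] using mul_mem (inv_mem e) (q.P3 iS s1 (q.sw t1 t2))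
  have sN := iS.norm s1
  have gT := conj_mem_of_mem_normalizer sN (q.RT q.fR)
  have g2 := conj_sq q.f2 s
  have gc : ∀ x ∈ Z, s * f * s⁻¹ ∈ cz (s * x * s⁻¹) := fun x hx => conj_cz.2 (q.Zc x hx q.fR)
  set g := s * f * s⁻¹ with hg
  set T := S ⊓ 𝐍(R)
  have up : ∀ x, R ≤ cz x → g ∈ cz x → T ≤ cz x := fun x => q.iT.le gT gR
  have upS : ∀ x, T ≤ cz x → s * x * s⁻¹ = x → S ≤ cz x := fun x h1 h2 =>
    iS.le s1 s2 h1 (mem_cz_of_conj h2)
  have noS : ∀ x ∈ C, S ≤ cz x → x = 1 := fun x hx h => by_contra fun k =>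
    q.noS x hx k 1 (by simpa using h)
  have ss : s * s ∈ T := iS.mul s1 s1 s2 s2
  have hC : C ⊓ LocalEven.cj s C = ⊥ := by
    by_contra k
    obtain ⟨x, ⟨x1, x3⟩, x2⟩ := exists_mem_orderOf_eq_of_ne_bot
      (q.c.sR.pgrp.to_le (inf_le_left.trans q.CR)) k
    have x4 : s⁻¹ * x * s ∈ C := mem_cj.1 x3
    have t1 : T ≤ cz x := up x (q.Zc x (q.iZ.1 x1)) (by simpa [mul_assoc] using gc _ (q.iZ.1 x4))
    have t2 : s * x * s⁻¹ = s⁻¹ * x * s := by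
      conv_rhs => rw [← cz_conj (t1 ss)]
      group
    have t3 : T ≤ cz (s * x * s⁻¹) := by
      rw [← cj_cz, ← cj_eq_of_mem_normalizer sN]; exact cj_mono s t1
    have t4 := noS _ (mul_mem x1 (t2 ▸ x4)) (upS _ (fun t ht => cz_comm.1 (mul_mem (cz_comm.1 (t1 ht))
      (cz_comm.1 (t3 ht)))) (by
      rw [← conj_mul, q.cm (q.iZ.1 x1) (t2 ▸ q.CR x4)]
      congr 1
      rw [t2]; group))
    exact ne_one_of_orderOf_eq x2 (noS x x1 (upS x t1 (by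
      rw [eq_inv_of_mul_eq_one_right t4, inv2 (sq_of_two x2)])))
  obtain ⟨k, k1, k2⟩ : ∃ k ∈ C, s * k * s⁻¹ ∉ Z := by
    by_contra! k
    have := Core.card_mul_card_le q.iZ.1 (cj_le_iff'.2 k)
    rw [hC, card_bot, card_cj, n3, h4] at this
    omega
  have kZ := q.iZ.1 k1
  have k3 := (q.mv gT gR (q.P3 iS s1 kZ) (by
    rw [cz_conj (gc k kZ), mul_inv_cancel]; exact one_mem _)).resolve_left k2
  have C4 : ∀ x ∈ C, x * x * (x * x) = 1 := fun x hx => by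
    have := pow_card_eq_one' (x := (⟨x, hx⟩ : C))
    rw [h4, show 4 = 2 + 2 from rfl, pow_add, pow_two] at this
    exact congrArg Subtype.val this
  have c1 : k * k ≠ 1 := fun e => by
    obtain ⟨y, h1, h2⟩ := q.sq' k3
    rw [conj_sq e, eq_comm, mul_eq_one_iff_inv_eq] at h2
    exact q.eC (h2 ▸ inv_mem (mul_mem h1 h1))
  have hc := mul_mem k1 k1
  have kC : zpowers k = C := eq_of_le_of_card_le (zpowers_le.2 k1) (h4 ▸ four_le
    (mul_mem (mem_zpowers k) (mem_zpowers k)) (mem_zpowers k) (C4 k k1) c1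
    (fun e => c1 (by rw [e, mul_one])) fun e => c1 (by
      rw [show k = 1 from mul_left_cancel (e.symm.trans (mul_one k).symm), mul_one]))
  have hU : U1 C := u1_of_cyc (kC ▸ inferInstance)
  have sq : ∀ x ∈ Z, x * x = 1 ∨ x * x = k * k := fun x hx => by
    obtain ⟨y, h1, h2⟩ := q.sq hx
    exact h2 ▸ hU.cases (mul_mem h1 h1) hc (C4 y h1) (C4 k k1) c1
  have gZ := q.nZ gT.2
  have Tc : T ≤ cz (k * k) := up _ (q.Zc _ (q.iZ.1 hc)) (mem_cz_of_conj (by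
    rw [← conj_mul]
    exact (sq _ (conj_mem_of_mem_normalizer gZ kZ)).resolve_left (by
      rw [conj_mul]; exact conj_ne c1 g)))
  have o1 := q.sw gT gR
  have b2 := conj_sq q.f2 g
  have bR : g * f * g⁻¹ ∈ R := conj_mem_of_mem_normalizer gT.2 q.fR
  have gb : g * (g * f * g⁻¹) * g⁻¹ = f := by
    calc _ = g * g * f * (g * g)⁻¹ := by group
      _ = f := by rw [g2]; group
  set b := g * f * g⁻¹ with hb
  have rel : b * f * b⁻¹ = f * e := by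
    calc _ = b * a * (a⁻¹ * f * a⁻¹⁻¹) * (b * a)⁻¹ := by group
      _ = _ := by rw [q.rel',
        cz_conj (cz_comm.1 (q.Zc _ o1 (mul_mem q.fR (q.ZR q.eZ))))]
  have fe := q.cm q.eZ q.fR
  have hh : f * g * (f * g) = f * b := by rw [hb, inv2 g2]; group
  have h4' : f * b * (f * b) = e := by
    calc _ = f * (b * f * b⁻¹) := by rw [inv2 b2]; group
      _ = _ := by rw [rel, ← mul_assoc, q.f2, one_mul]
  have ge : g * e * g⁻¹ = e := by
    calc _ = b * f * b⁻¹ * f := by rw [← h4', ← conj_mul, ← conj_mul, ← hb, gb, inv2 b2]; group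
      _ = _ := by rw [rel, ← fe, mul_assoc, q.f2, mul_one]
  have Te : T ≤ cz e := up e (q.Zc e q.eZ) (mem_cz_of_conj ge)
  have om := fun x => q.om hU hc (C4 k k1) c1 q.eZ q.eC q.e2 (x := x)
  have To : ∀ x ∈ Z, x * x = 1 → g ∈ cz x := fun x h1 h2 => by
    rw [cz_comm]
    rcases om x h1 h2 with e | e | e | e <;> rw [e]
    exacts [one_mem _, cz_comm.1 (Tc gT), cz_comm.1 (Te gT),
      mul_mem (cz_comm.1 (Tc gT)) (cz_comm.1 (Te gT))]
  set h := f * g with hh'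
  have eN : e ∈ zpowers h := by
    rw [← h4', ← hh]; exact mul_mem (mul_mem (mem_zpowers h) (mem_zpowers h)) (mul_mem (mem_zpowers h) (mem_zpowers h))
  have hT : h ∈ T := mul_mem (q.RT q.fR) gT
  have Rf : ∀ r ∈ R, ∃ u, (u = 1 ∨ u = e) ∧ r * f * r⁻¹ = f * u := fun r hr => by
    rcases q.iR.or q.aR q.aD hr with k | k
    · exact ⟨1, .inl rfl, by rw [cz_conj (q.Df k), mul_one]⟩
    · refine ⟨e, .inr rfl, ?_⟩
      calc _ = r * a * (a⁻¹ * f * a⁻¹⁻¹) * (r * a)⁻¹ := by group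
        _ = _ := by rw [q.rel', ← conj_mul, cz_conj (q.Df k),
          cz_conj (q.Zc e q.eZ (q.iR.1 k))]
  have hi : h⁻¹ = g * f := by rw [hh', mul_inv_rev, inv2 g2, inv2 q.f2]
  -- the element `y` with `s k s⁻¹ = y h²`
  obtain ⟨y, y1, y2⟩ : ∃ y ∈ Z, s * k * s⁻¹ = y * (h * h) := by
    refine ⟨_, mul_mem k3 (inv_mem o1), ?_⟩
    calc _ = s * k * s⁻¹ * a * (f * f) * (b * a)⁻¹ * b := by rw [q.f2]; group
      _ = s * k * s⁻¹ * a * f * ((b * a)⁻¹ * f) * b := by rw [q.cm (inv_mem o1) q.fR]; group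
      _ = _ := by rw [hh]; group
  have he : h * h * e = e * (h * h) := mem_cz.1 (Te (mul_mem hT hT))
  have hhR : h * h ∈ R := hh ▸ mul_mem q.fR bR
  have gy : g * y * g⁻¹ = y * e := by
    have k4 : g * (h * h) * g⁻¹ = e * (h * h) := by
      calc _ = b * f * b⁻¹ * b := by rw [hh, ← conj_mul, ← hb, gb]; group
        _ = _ := by rw [rel, ← fe, hh, mul_assoc]
    have := cz_conj (gc k kZ)
    rw [y2, ← conj_mul, k4, ← mul_assoc] at this
    conv_rhs => rw [← mul_right_cancel this, mul_assoc _ e, q.e2, mul_one]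
  have w1 := mul_mem y1 (inv_mem kZ)
  have w2 : y * k⁻¹ * (y * k⁻¹) = 1 := by
    calc _ = y * (k⁻¹ * y) * k⁻¹ := by group
      _ = y * y * (k * k)⁻¹ := by rw [← q.cm y1 (inv_mem (q.ZR kZ))]; group
      _ = 1 := by rw [(sq y y1).resolve_left fun k => q.e1 (by
        simpa [cz_conj (To y y1 k)] using gy), mul_inv_cancel]
  have gk : g * k * g⁻¹ = k * e := by
    calc _ = (g * (y * k⁻¹) * g⁻¹)⁻¹ * (g * y * g⁻¹) := by group
      _ = _ := by rw [gy, cz_conj (To _ w1 w2)]; group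
  have sh : s * h * s⁻¹ = g * (s * s * f * (s * s)⁻¹) := by rw [hh', hg]; group
  have h4 : h * h * (h * h) = e := by rw [hh, h4']
  have key : s * h * s⁻¹ ∈ zpowers h ∧ s * e * s⁻¹ = e ∧ s * (y * k⁻¹) * s⁻¹ * y = k := by
    have k0 : ∀ u, u = 1 ∨ u = e → u ∈ zpowers h ∧ ∀ t ∈ T, t * u * (t * u) = t * t := by
      rintro u (hu | hu) <;> rw [hu]
      · exact ⟨one_mem _, by simp⟩
      · exact ⟨eN, fun t ht => by
          rw [mul_assoc, ← mul_assoc e, ← mem_cz.1 (Te ht), mul_assoc t, q.e2, mul_one]⟩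
    have k4 : s * s * k * (s * s)⁻¹ =
        s * (y * k⁻¹) * s⁻¹ * (y * (h * h)) * (s * h * s⁻¹ * (s * h * s⁻¹)) := by
      calc _ = s * (s * k * s⁻¹) * s⁻¹ := by group
        _ = s * (y * k⁻¹) * s⁻¹ * (s * k * s⁻¹) * (s * h * s⁻¹ * (s * h * s⁻¹)) := by
          nth_rw 1 [y2]; group
        _ = _ := by rw [y2]
    have k5 : s * e * s⁻¹ = s * h * s⁻¹ * (s * h * s⁻¹) * (s * h * s⁻¹ * (s * h * s⁻¹)) := by
      rw [← h4]; group
    by_cases r : s * s ∈ R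
    · obtain ⟨u, u1, u2⟩ := Rf _ r
      have k6 : s * h * s⁻¹ = h⁻¹ * u := by rw [sh, u2, hi, ← mul_assoc]
      have k7 := (k0 u u1).2 _ (inv_mem hT)
      refine ⟨k6 ▸ mul_mem (inv_mem (mem_zpowers h)) (k0 u u1).1, ?_, ?_⟩
      · rw [k5, k6, k7, ← inv2 q.e2, ← h4]; group
      · rw [cz_conj (q.Zc k kZ r), k6, k7] at k4
        exact .trans (by group) k4.symm
    · have r' := q.iT.mul gT ss gR r
      obtain ⟨u, u1, u2⟩ := Rf _ r'
      have k8 : ∀ x, s * s * x * (s * s)⁻¹ = g * (g * (s * s) * x * (g * (s * s))⁻¹) * g⁻¹ := fun x => by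
        calc _ = g * g * (s * s * x * (s * s)⁻¹) * (g * g)⁻¹ := by rw [g2]; group
          _ = _ := by group
      have k6 : s * h * s⁻¹ = h * u := by
        rw [sh, k8, u2, ← conj_mul, ← hb, hh', ← gb, show g * u * g⁻¹ = u from
          u1.elim (fun e => by simp [e]) fun e => by rw [e, ge]]
        group
      have k7 := (k0 u u1).2 _ hT
      refine ⟨k6 ▸ mul_mem (mem_zpowers h) (k0 u u1).1, by rw [k5, k6, k7, h4], ?_⟩
      rw [k8, cz_conj (q.Zc k kZ r'), gk, k6, k7, ← h4] at k4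
      exact mul_right_cancel (b := h * h * (h * h)) (.trans (by group) k4.symm)
  set w := y * k⁻¹ with hw
  have Sw : S ≤ cz w := upS w (up w (q.Zc w w1) (To w w1 w2)) (by
    rw [eq_mul_inv_of_mul_eq key.2.2, ← inv2 w2, hw]; group)
  have Se := upS e Te key.2.1
  have wN : w ∈ zpowers h := by
    rcases om w w1 w2 with e | e | e | e
    · exact e ▸ one_mem _
    · exact absurd (noS _ hc (e ▸ Sw)) c1
    · exact e ▸ eN
    · exact absurd (noS _ hc fun t ht => cz_comm.1 (((cz t).mul_mem_cancel_right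
        (cz_comm.1 (Se ht))).1 (e ▸ cz_comm.1 (Sw ht)))) c1
  have nm : ∀ x, x * h * x⁻¹ ∈ zpowers h → x ∈ 𝐍(zpowers h) := fun x hx =>
    mem_normalizer_of_cj_le (by rwa [cj_zpowers, zpowers_le])
  have kf := q.cm kZ q.fR
  refine q.fin hU hc (C4 k k1) c1 (P := T) inf_le_left Tc (by omega) (h := h) (comm_le3 (x := f) (y := k)
    (w := s) ?_ (nm f ?_) (nm k ?_) (nm s key.1) ?_ ?_ ?_)
  · set X := closure {f, k, s}
    have m1 : f ∈ X := subset_closure (by simp)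
    have m2 : s ∈ X := subset_closure (by simp)
    have m3 : g ∈ X := mul_mem (mul_mem m2 m1) (inv_mem m2)
    have m4 : Z ≤ X := q.iZ.le q.eZ q.eC (kC ▸ zpowers_le.2 (subset_closure (by simp)))
      (zpowers_le.2 (mul_mem m1 m3) eN)
    exact iS.le s1 s2 (q.iT.le gT gR (q.iR.le q.aR q.aD (q.iD.le q.fD q.fZ m4 m1)
      ((X.mul_mem_cancel_left (mul_mem (mul_mem m3 m1) (inv_mem m3))).1 (m4 o1))) m3) m2
  · have : f * h * f⁻¹ = h⁻¹ := by rw [hi, hh', ← mul_assoc, q.f2, inv2 q.f2, one_mul]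
    exact this ▸ inv_mem (mem_zpowers h)
  · have : k * h * k⁻¹ = h * e := by
      calc _ = k * f * k⁻¹ * (k * (g * k * g⁻¹)⁻¹) * g := by rw [hh']; group
        _ = _ := by rw [gk, kf, mul_inv_rev, inv2 q.e2, ← mul_assoc k, q.cm kZ (q.ZR q.eZ), hh',
          mul_assoc f g, mem_cz.1 (Te gT)]; group
    exact this ▸ mul_mem (mem_zpowers h) eN
  · rw [← kf]; simpa using one_mem _
  · have : f * s * f⁻¹ * s⁻¹ = h := by rw [hh', hg, inv2 q.f2]; group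
    exact this ▸ mem_zpowers h
  · have : k * s * k⁻¹ * s⁻¹ = (w * (h * h))⁻¹ := by
      calc _ = k * (s * k * s⁻¹)⁻¹ := by group
        _ = (y * (h * h * k⁻¹))⁻¹ := by rw [y2]; group
        _ = _ := by rw [← q.cm (inv_mem kZ) hhR, hw]; group
    exact this ▸ inv_mem (mul_mem wN (mul_mem (mem_zpowers h) (mem_zpowers h)))

end St

theorem Mx.small (m : Mx G) :
    ∃ S : Subgroup G, IsSylowIn 2 S ⊤ ∧ ∃ w ∈ S, Nat.card (S ⊓ cz w : Subgroup G) ≤ 4 := by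
  obtain ⟨D, R, S, c⟩ := m.ex_Cx
  obtain ⟨Z, C, a, e, f, q⟩ := c.st
  have h := card_dvd_of_le (q.CR.trans c.RS)
  rw [m.cd S c.sS] at h
  rcases (by decide : ∀ n ≤ 4, n ∣ 128 → n = 1 ∨ n = 2 ∨ n = 4) _ q.c4 h with h | h | h
  exacts [⟨S, c.sS, f, c.RS q.fR, q.one h⟩, (q.two h).elim, (q.four h).elim]

end Cfsg.Agent.MX
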