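import Mathlib
import Cfsg.Agent.Perm.FC5
import Cfsg.Agent.PGrp.Metacyclic

/-! 2-groups with a generalized quaternion quotient by a central subgroup. -/

set_option autoImplicit false

namespace Cfsg.Agent.Inv

open Cfsg Subgroup Perm
open scoped commutatorElement

variable {G : Type*} [Group G] [Finite G]

theorem gq_top_of_unique (hG : IsPGroup 2 G) (hn : ¬ IsMulCommutative G) (hu : ∃! x : G, orderOf x = 2) :
    ∃ (a b : G) (n : ℕ), GQ ⊤ a b n := by
  have : Fact (Nat.Prime 2) := ⟨Nat.prime_two⟩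
  obtain ⟨z, hz, hu⟩ := hu
  have key : ∀ H : Subgroup G, Nat.card H = 2 → H = zpowers z := fun H hH => by
    obtain ⟨x, hx, h2⟩ := LocalEven.exists_mem_orderOf_eq hH.symm.dvd
    exact (eq_of_le_of_card_ge (zpowers_le.2 (hu x h2 ▸ hx)) (by rw [hH, Nat.card_zpowers, hz])).symm
  have hc : ¬ IsCyclic G := fun h => hn ⟨⟨(IsCyclic.commGroup (α := G)).mul_comm⟩⟩
  obtain ⟨-, m, -, ⟨e⟩⟩ := (PGrp.isCyclic_or_quaternion_of_unique hG fun H K h1 h2 =>
    (key H h1).trans (key K h2).symm).resolve_left hc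
  exact exists_gq (topEquiv.trans e) fun h => hc (isCyclic_of_surjective _ topEquiv.surjective)

theorem exists_gq_lift {N : Subgroup G} [N.Normal] (hG : IsPGroup 2 G) (hn : ¬ IsMulCommutative (G ⧸ N))
    (hu : ∃! x : G ⧸ N, orderOf x = 2) :
    ∃ (a b : G) (n : ℕ), GQ ⊤ (QuotientGroup.mk' N a) (QuotientGroup.mk' N b) n ∧
      (zpowers a ⊔ zpowers b) ⊔ N = ⊤ := by
  obtain ⟨a, b, n, h⟩ := gq_top_of_unique (hG.to_quotient N) hn hu
  obtain ⟨a, rfl⟩ := QuotientGroup.mk'_surjective N a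
  obtain ⟨b, rfl⟩ := QuotientGroup.mk'_surjective N b
  refine ⟨a, b, n, h, ?_⟩
  rw [← QuotientGroup.ker_mk' N, ← comap_map_eq, Subgroup.map_sup, MonoidHom.map_zpowers, MonoidHom.map_zpowers,
    eq_top_iff]
  intro g _
  rcases (h.mem (QuotientGroup.mk' N g)).1 (mem_top _) with h1 | h1
  · exact mem_sup_left h1
  · exact (mul_mem_cancel_right (mem_sup_right (inv_mem (mem_zpowers _)))).1 (mem_sup_left h1)

theorem isCyclic_commutator_of_gq {N : Subgroup G} [N.Normal] (hN : N ≤ center G) (hG : IsPGroup 2 G)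
    (hn : ¬ IsMulCommutative (G ⧸ N)) (hu : ∃! x : G ⧸ N, orderOf x = 2) : IsCyclic (commutator G) := by
  obtain ⟨a, b, n, h, h1⟩ := exists_gq_lift hG hn hu
  have hd : ∀ d ∈ N, ∀ g, Commute d g := fun d hd g => (mem_center_iff.1 (hN hd) g).symm
  have h2 : a * (b * a * b⁻¹) ∈ N := by
    rw [← QuotientGroup.ker_mk' N, MonoidHom.mem_ker, map_mul, map_mul, map_mul, map_inv, h.inv, mul_inv_cancel]
  have h3 : Commute a (b * a * b⁻¹) := by
    simpa using (Commute.refl a).inv_right.mul_right (hd _ h2 a).symm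
  have h4 : closure ({a, b} ∪ (N : Set G)) = ⊤ := by
    rw [Subgroup.closure_union, closure_eq, Set.insert_eq, Subgroup.closure_union, ← zpowers_eq_closure, ← zpowers_eq_closure, h1]
  have h5 : ({a, b} ∪ (N : Set G)) ⊆ normalizer ((zpowers ⁅b, a⁆ : Subgroup G) : Set G) := by
    rintro x ((rfl | rfl) | hx)
    · exact PGrp.mem_normalizer_zpowers_of_commute (h3.mul_right (Commute.refl _).inv_right)
    · refine PGrp.mem_normalizer_zpowers_of_conj_eq (k := -1) ?_
      have := commute_iff_conj.1 (hd _ h2 x).symm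
      rw [← conj_mul, h3.eq, mul_right_inj] at this
      rw [commutatorElement_def, ← conj_mul, this, zpow_neg_one]; group
    · exact PGrp.mem_normalizer_zpowers_of_commute (hd x hx _)
  refine isCyclic_of_le (H' := zpowers ⁅b, a⁆) ?_
  rw [commutator_def, ← h4]
  refine PGrp.commutator_closure_le h5 h5 ?_
  have k : ∀ s t : G, Commute s t → ⁅s, t⁆ ∈ zpowers ⁅b, a⁆ := fun s t h => by
    rw [commutatorElement_eq_one_iff_commute.2 h]; exact one_mem _
  intro s hs t ht
  simp only [Set.mem_union, Set.mem_insert_iff, Set.mem_singleton_iff, SetLike.mem_coe] at hs ht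
  rcases hs with (hs | hs) | hs
  pick_goal 3
  · exact k _ _ (hd _ hs _)
  all_goals
    rcases ht with (ht | ht) | ht
    pick_goal 3
    · exact k _ _ (hd _ ht _).symm
    all_goals rw [hs, ht]
  · exact k _ _ (Commute.refl _)
  · rw [← commutatorElement_inv b a]; exact inv_mem (mem_zpowers _)
  · exact mem_zpowers _
  · exact k _ _ (Commute.refl _)

end Cfsg.Agent.Inv
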