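import Mathlib
import Cfsg.Agent.Dih.PB
import Cfsg.Agent.Gl23.Chr
import Cfsg.Agent.Gl23.Ord1
import Cfsg.Agent.Char.Kernel
import Cfsg.Agent.Char.Constit
import Cfsg.Agent.Char.Central

/-!
Simple groups with a self-centralizing element of order three: the three characters not
vanishing on it, the order formula, and the case of a character of degree three.
-/

set_option autoImplicit false
set_option linter.unusedSectionVars false

namespace Cfsg.Agent.SC3

open Subgroup Cfsg.Agent.Char Cfsg.Agent.Block Cfsg.Agent.Dih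
open scoped ComplexConjugate commutatorElement

theorem one_sq {ι : Type*} [DecidableEq ι] {s : Finset ι} {f : ι → ℤ} {n : ℤ}
    (h : ∑ i ∈ s, f i ^ 2 = n) (h0 : 0 < n) (h3 : n ≤ 3) :
    ∃ a ∈ s, f a ^ 2 = 1 ∧ ∑ i ∈ s.erase a, f i ^ 2 = n - 1 := by
  obtain ⟨a, ha, hf⟩ : ∃ a ∈ s, f a ^ 2 ≠ 0 :=
    Finset.exists_ne_zero_of_sum_ne_zero (by rw [h]; omega)
  have e := Finset.add_sum_erase s (fun i => f i ^ 2) ha
  have p : 0 ≤ ∑ i ∈ s.erase a, f i ^ 2 := Finset.sum_nonneg fun i _ => sq_nonneg _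
  have hf' : f a ≠ 0 := fun e => hf (by rw [e]; norm_num)
  have h1 : f a ^ 2 = 1 := by
    have l1 : f a ≤ 1 := by nlinarith
    have l2 : -1 ≤ f a := by nlinarith
    have : f a = 1 ∨ f a = -1 := by omega
    rcases this with e | e <;> rw [e] <;> norm_num
  exact ⟨a, ha, h1, by linarith⟩

theorem two_sq {ι : Type*} [DecidableEq ι] {s : Finset ι} {f : ι → ℤ}
    (h : ∑ i ∈ s, f i ^ 2 = 2) :
    ∃ a ∈ s, ∃ b ∈ s, a ≠ b ∧ f a ^ 2 = 1 ∧ f b ^ 2 = 1 ∧
      ∀ c ∈ s, c ≠ a → c ≠ b → f c = 0 := by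
  obtain ⟨a, ha, a1, h1⟩ := one_sq h (by norm_num) (by norm_num)
  obtain ⟨b, hb, b1, h2⟩ := one_sq h1 (by norm_num) (by norm_num)
  refine ⟨a, ha, b, Finset.mem_of_mem_erase hb, (Finset.ne_of_mem_erase hb).symm, a1, b1,
    fun c hc ca cb => ?_⟩
  have := (Finset.sum_eq_zero_iff_of_nonneg fun i _ => sq_nonneg (f i)).1 (by linarith : _ = (0 : ℤ))
    c (Finset.mem_erase.2 ⟨cb, Finset.mem_erase.2 ⟨ca, hc⟩⟩)
  exact pow_eq_zero_iff (by norm_num) |>.1 this

variable {G : Type*} [Group G] [Finite G]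

/-- The three irreducible characters which do not vanish at `x`. -/
structure Tri (x : G) (α β : IrrCharacter G) : Prop where
  a1 : α ≠ oneIrr G
  b1 : β ≠ oneIrr G
  ab : α ≠ β
  ax : α.1 x = -1
  bx : β.1 x = 1
  z : ∀ ψ, ψ ≠ oneIrr G → ψ ≠ α → ψ ≠ β → ψ.1 x = 0

theorem sum_three {x : G} {α β : IrrCharacter G} (a1 : α ≠ oneIrr G) (b1 : β ≠ oneIrr G)
    (ab : α ≠ β) (z : ∀ ψ, ψ ≠ oneIrr G → ψ ≠ α → ψ ≠ β → ψ.1 x = 0)
    (F : IrrCharacter G → ℂ) :
    ∑ ψ, F ψ * ψ.1 x = F (oneIrr G) + F α * α.1 x + F β * β.1 x := by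
  classical
  rw [← Finset.sum_subset (Finset.subset_univ {oneIrr G, α, β})]
  · rw [Finset.sum_insert (by simp [a1.symm, b1.symm]), Finset.sum_pair ab]
    have : (oneIrr G).1 x = 1 := rfl
    rw [this]; ring
  · intro ψ _ hψ
    simp only [Finset.mem_insert, Finset.mem_singleton, not_or] at hψ
    rw [z ψ hψ.1 hψ.2.1 hψ.2.2, mul_zero]

theorem Tri.sum {x : G} {α β : IrrCharacter G} (h : Tri x α β) (F : IrrCharacter G → ℂ) :
    ∑ ψ, F ψ * ψ.1 x = F (oneIrr G) - F α + F β := by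
  rw [sum_three h.a1 h.b1 h.ab h.z, h.ax, h.bx]; ring

theorem pow_cases {x : G} (hx : orderOf x = 3) (k : ℕ) :
    x ^ k = 1 ∨ x ^ k = x ∨ x ^ k = x⁻¹ := by
  have h3 : x ^ 3 = 1 := hx ▸ pow_orderOf_eq_one x
  rw [← pow_mod_orderOf, hx]
  have : k % 3 = 0 ∨ k % 3 = 1 ∨ k % 3 = 2 := by omega
  rcases this with e | e | e <;> rw [e]
  · simp
  · simp
  · refine Or.inr (Or.inr (eq_inv_of_mul_eq_one_left ?_))
    rw [← pow_succ, h3]

theorem mem_cases {x g : G} (hx : orderOf x = 3) (hg : g ∈ zpowers x) :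
    g = 1 ∨ g = x ∨ g = x⁻¹ := by
  rw [← mem_powers_iff_mem_zpowers] at hg
  obtain ⟨k, rfl⟩ := hg
  exact pow_cases hx k

theorem exists_tri {x : G} (hx : orderOf x = 3)
    (hC : Nat.card (centralizer ({x} : Set G)) = 3) (hr : IsConj x x⁻¹) :
    ∃ α β, Tri x α β := by
  classical
  have x1 : x ≠ 1 := by rintro rfl; simp at hx
  have hint : ∀ ψ : IrrCharacter G, ∃ n : ℤ, ψ.1 x = n := fun ψ => by
    refine Galois.exists_int_of_forall_pow (irr_isGenChar ψ) fun k hk => ?_
    rcases pow_cases hx k with e | e | e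
    · have := orderOf_dvd_of_pow_eq_one e
      rw [hx] at this hk
      have := Nat.dvd_gcd this (dvd_refl 3)
      rw [hk] at this
      omega
    · rw [e]
    · rw [e]; exact (classFun_isConj (irr_classFun ψ) hr).symm
  choose f hf using hint
  have f1 : f (oneIrr G) = 1 := by
    have := hf (oneIrr G)
    have e : (oneIrr G).1 x = 1 := rfl
    rw [e] at this
    exact_mod_cast this.symm
  have hs : ∑ ψ, f ψ ^ 2 = 3 := by
    have := sum_irr_norm_sq x
    rw [hC] at this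
    simp only [hf, Complex.norm_intCast, sq_abs] at this
    exact_mod_cast this
  have hs2 : ∑ ψ ∈ Finset.univ.erase (oneIrr G), f ψ ^ 2 = 2 := by
    have := Finset.add_sum_erase Finset.univ (fun ψ => f ψ ^ 2) (Finset.mem_univ (oneIrr G))
    simp only [f1] at this
    linarith
  obtain ⟨a, ha, b, hb, ab, a1, b1, hz⟩ := two_sq hs2
  have z : ∀ ψ, ψ ≠ oneIrr G → ψ ≠ a → ψ ≠ b → ψ.1 x = 0 := fun ψ h1 h2 h3 => by
    rw [hf, hz ψ (Finset.mem_erase.2 ⟨h1, Finset.mem_univ _⟩) h2 h3]; simp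
  have ha1 := Finset.ne_of_mem_erase ha
  have hb1 := Finset.ne_of_mem_erase hb
  have e := sum_irr_one_mul_of_ne x1
  rw [sum_three ha1 hb1 ab z (fun ψ => ψ.1 1)] at e
  obtain ⟨m, m0, hm⟩ := isIrr_degree a.2
  obtain ⟨n, n0, hn⟩ := isIrr_degree b.2
  have e1 : (oneIrr G).1 1 = 1 := rfl
  rw [e1, hm, hn, hf, hf] at e
  have e' : (1 : ℤ) + m * f a + n * f b = 0 := by exact_mod_cast e
  rcases sq_eq_one_iff.1 a1 with p | p <;> rcases sq_eq_one_iff.1 b1 with q | q <;>
    rw [p, q] at e'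
  · omega
  · exact ⟨b, a, hb1, ha1, ab.symm, by rw [hf, q]; simp, by rw [hf, p]; simp,
      fun ψ h1 h2 h3 => z ψ h1 h3 h2⟩
  · exact ⟨a, b, ha1, hb1, ab, by rw [hf, p]; simp, by rw [hf, q]; simp, z⟩
  · omega

theorem Tri.rel {x : G} {α β : IrrCharacter G} (h : Tri x α β) {g : G} (hg : ¬ IsConj x g) :
    α.1 g = 1 + β.1 g := by
  have e := sum_irr_mul_conj_of_not_isConj hg
  simp only [mul_comm _ (conj _)] at e
  rw [h.sum (fun ψ => conj (ψ.1 g))] at e
  have e1 : (oneIrr G).1 g = 1 := rfl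
  rw [e1] at e
  have := congrArg conj e
  simp only [map_add, map_sub, map_one, Complex.conj_conj, map_zero] at this
  linear_combination -this

theorem pairs_cases [Fintype G] {x : G} (hx : orderOf x = 3)
    (hC : Nat.card (centralizer ({x} : Set G)) = 3) {z : G} (hz : z * z = 1) :
    pairs z z x = 0 ∨ pairs z z x = 3 := by
  classical
  by_cases h0 : pairs z z x = 0
  · exact Or.inl h0
  right
  have x1 : x ≠ 1 := by rintro rfl; simp at hx
  have h3 : x ^ 3 = 1 := hx ▸ pow_orderOf_eq_one x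
  have hxx : x⁻¹ = x * x := by
    refine (eq_inv_of_mul_eq_one_left ?_).symm
    rw [← h3, pow_succ, pow_two]
  have hCe : centralizer ({x} : Set G) = zpowers x := by
    refine (eq_of_le_of_card_ge ?_ ?_).symm
    · rw [zpowers_le, mem_centralizer_singleton_iff]
    · rw [hC, Nat.card_zpowers, hx]
  have sq : ∀ {u : G}, IsConj z u → u * u = 1 := fun hu => by
    obtain ⟨c, rfl⟩ := isConj_iff.1 hu
    calc c * z * c⁻¹ * (c * z * c⁻¹) = c * (z * z) * c⁻¹ := by group
      _ = 1 := by rw [hz]; group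
  have inv : ∀ {u : G}, IsConj z u → IsConj z (u⁻¹ * x) → u * x = x⁻¹ * u := fun {u} h1 h2 => by
    have e1 := sq h1
    have e2 := sq h2
    have e3 : u⁻¹ = u := inv_eq_of_mul_eq_one_left e1
    rw [e3] at e2
    have e4 : u * x = (u * x)⁻¹ := eq_inv_of_mul_eq_one_left e2
    rw [e4, mul_inv_rev, e3]
  obtain ⟨u, v, hu, hv, huv⟩ := pairs_ne_zero h0
  have hv' : IsConj z (u⁻¹ * x) := by rw [← huv]; simpa using hv
  have hux := inv hu hv'
  have uu := sq hu
  have ui : u⁻¹ = u := inv_eq_of_mul_eq_one_left uu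
  have hxu : x * u = u * x⁻¹ := by
    calc x * u = x * (u * x) * x⁻¹ := by group
      _ = u * x⁻¹ := by rw [hux]; group
  have c1 : IsConj z (u * x⁻¹) := by
    refine hu.trans (isConj_iff.2 ⟨x⁻¹, ?_⟩)
    rw [← hux, inv_inv, mul_assoc, ← hxx]
  have c2 : IsConj z (u * x) := ui ▸ hv'
  have key : ∀ w, (IsConj z w ∧ IsConj z (w⁻¹ * x)) ↔ w ∈ ({u, u * x, u * x⁻¹} : Finset G) := by
    intro w
    simp only [Finset.mem_insert, Finset.mem_singleton]
    constructor
    · rintro ⟨h1, h2⟩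
      have hw := inv h1 h2
      have : u * w ∈ zpowers x := by
        rw [← hCe, mem_centralizer_singleton_iff, mul_assoc, hw, ← mul_assoc, ← hxu, mul_assoc]
      have e : w = u * (u * w) := by rw [← mul_assoc, uu, one_mul]
      rcases mem_cases hx this with p | p | p <;> rw [p] at e
      · exact Or.inl (by simpa using e)
      · exact Or.inr (Or.inl e)
      · exact Or.inr (Or.inr e)
    · rintro (rfl | rfl | rfl)
      · exact ⟨hu, hv'⟩
      · refine ⟨c2, ?_⟩
        rw [mul_inv_rev, ui, ← hux, mul_assoc, ← hxx]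
        exact c1
      · refine ⟨c1, ?_⟩
        rw [mul_inv_rev, inv_inv, ui, hxu, inv_mul_cancel_right]
        exact hu
  simp only [pairs, classInd_apply, ite_mul, one_mul, zero_mul, ← ite_and, Finset.sum_boole, key]
  rw [Finset.filter_mem_eq_inter, Finset.univ_inter, Finset.card_eq_three.2
    ⟨u, u * x, u * x⁻¹, ?_, ?_, ?_, rfl⟩]
  · norm_num
  · simpa using x1
  · simpa using x1
  · intro e
    have e := mul_left_cancel e
    rw [hxx] at e
    exact x1 (by simpa using e)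

/-- The order formula. -/
theorem Tri.order [IsSimpleGroup G] {x : G} {α β : IrrCharacter G} (h : Tri x α β)
    (hx : orderOf x = 3) (hC : Nat.card (centralizer ({x} : Set G)) = 3) {z : G}
    (hz : orderOf z = 2) {b : ℕ} {y : ℤ} (hb : β.1 1 = b) (hy : β.1 z = y) :
    (Nat.card G : ℤ) * (b - y) ^ 2 =
      3 * (Nat.card (centralizer ({z} : Set G)) : ℤ) ^ 2 * (b * (b + 1)) := by
  classical
  haveI := Fintype.ofFinite G
  have zz : z * z = 1 := by rw [← pow_two, ← hz, pow_orderOf_eq_one]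
  have z1 : z ≠ 1 := by rintro rfl; simp at hz
  have n1 : ¬ IsConj x 1 := fun e => by
    rw [isConj_one_left] at e; subst e; simp at hx
  have nz : ¬ IsConj x z := fun e => by
    obtain ⟨c, rfl⟩ := isConj_iff.1 e
    have : orderOf (c * x * c⁻¹) = orderOf x := (MulAut.conj c).orderOf_eq x
    omega
  have r1 := h.rel n1
  have rz := h.rel nz
  have b0 : (b : ℂ) ≠ 0 := hb ▸ isIrr_one_ne_zero β.2
  have b1 : (1 + b : ℂ) ≠ 0 := by
    have := isIrr_one_ne_zero α.2
    rwa [r1, hb] at this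
  have c0 : (Nat.card (centralizer ({z} : Set G)) : ℂ) ≠ 0 := Nat.cast_ne_zero.2 Nat.card_pos.ne'
  have g0 : (Nat.card G : ℂ) ≠ 0 := Nat.cast_ne_zero.2 Nat.card_pos.ne'
  have e := classFun_apply_eq_sum (classFun_pairs z z) x
  rw [h.sum (fun ψ => classInner (pairs z z) ψ.1)] at e
  simp only [inner_pairs, map_div₀, map_mul, conj_irr_of_mul_self zz, conj_irr_one] at e
  have o1 : (oneIrr G).1 1 = 1 := rfl
  have o2 : (oneIrr G).1 z = 1 := rfl
  rw [o1, o2, r1, rz, hb, hy] at e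
  have e2 : pairs z z x * ((Nat.card (centralizer ({z} : Set G)) : ℂ) ^ 2 * (b * (b + 1))) =
      Nat.card G * (b - y) ^ 2 := by
    rw [e]; field_simp; ring
  rcases pairs_cases hx hC zz with p | p <;> rw [p] at e2
  · exfalso
    have : (b : ℂ) - y = 0 := by
      rw [zero_mul, eq_comm, mul_eq_zero] at e2
      exact pow_eq_zero_iff (by norm_num) |>.1 (e2.resolve_left g0)
    have hk : z ∈ charKer β.1 := by
      rw [mem_charKer_iff (irr_isChar β), hb, hy]
      linear_combination -this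
    rw [charKer_eq_bot_of_simple β.2 (fun e => h.b1 (Subtype.ext e)), mem_bot] at hk
    exact z1 hk
  · have : ((Nat.card G : ℤ) * (b - y) ^ 2 : ℤ) =
        ((3 * (Nat.card (centralizer ({z} : Set G)) : ℤ) ^ 2 * (b * (b + 1)) : ℤ) : ℂ) := by
      push_cast
      linear_combination -e2
    exact_mod_cast this

theorem center_bot [IsSimpleGroup G] (hn : ¬ IsMulCommutative G) : center G = ⊥ := by
  refine (IsSimpleGroup.eq_bot_or_eq_top_of_normal (center G) inferInstance).resolve_right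
    fun e => hn ⟨⟨fun a b => ?_⟩⟩
  have : b ∈ center G := e ▸ mem_top b
  exact mem_center_iff.1 this a

theorem comm_top [IsSimpleGroup G] (hn : ¬ IsMulCommutative G) : commutator G = ⊤ := by
  refine (IsSimpleGroup.eq_bot_or_eq_top_of_normal (commutator G) inferInstance).resolve_left
    fun e => hn ⟨⟨fun a b => ?_⟩⟩
  have : ⁅a, b⁆ ∈ commutator G := commutator_mem_commutator (mem_top a) (mem_top b)
  rw [e, mem_bot] at this
  exact commutatorElement_eq_one_iff_mul_comm.1 this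

theorem eq_one_of_norm [IsSimpleGroup G] (hn : ¬ IsMulCommutative G) {χ : IrrCharacter G}
    (h1 : χ ≠ oneIrr G) {g : G} (hg : ‖χ.1 g‖ = ‖χ.1 1‖) : g = 1 := by
  have := (mem_charCenter_iff (irr_isChar χ)).2 hg
  rwa [charCenter_eq_center χ.2 (charKer_eq_bot_of_simple χ.2 fun e => h1 (Subtype.ext e)),
    center_bot hn, mem_bot] at this

theorem deg_ne_one [IsSimpleGroup G] (hn : ¬ IsMulCommutative G) {χ : IrrCharacter G}
    (h1 : χ ≠ oneIrr G) : χ.1 1 ≠ 1 := fun e => by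
  have := commutator_le_charKer (irr_isChar χ) e
  rw [comm_top hn, charKer_eq_bot_of_simple χ.2 fun e => h1 (Subtype.ext e), top_le_iff] at this
  exact bot_ne_top this

theorem cube_of_deg [IsSimpleGroup G] (hn : ¬ IsMulCommutative G) (h9 : ¬ 9 ∣ Nat.card G)
    {χ : IrrCharacter G} (h1 : χ ≠ oneIrr G) (h3 : χ.1 1 = 3) {g : G} (hg : 3 ∣ orderOf g) :
    g ^ 3 = 1 := by
  have v : ∀ g, 3 ∣ orderOf g → χ.1 g = 0 :=
    Gl23.vanish_of_dvd (k := 1) (n := 3) Nat.prime_three (by simpa using h9) (by simpa using h3)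
      (by simp)
  have hg2 : 3 ∣ orderOf (g ^ 2) := by
    have : orderOf g ∣ 2 * orderOf (g ^ 2) :=
      orderOf_dvd_of_pow_eq_one (by rw [pow_mul, pow_orderOf_eq_one])
    exact (Nat.Coprime.dvd_mul_left (by norm_num)).1 (hg.trans this)
  obtain ⟨s, s1, s2, s3, s4⟩ := isChar_eigen_nat (irr_isChar χ) g
  rw [h3] at s2
  obtain ⟨a, b, c, rfl⟩ := Multiset.card_eq_three.1 (by exact_mod_cast s2 : s.card = 3)
  have e1 := v g hg
  have e2 := v _ hg2
  rw [s3] at e1
  rw [s4] at e2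
  simp only [Multiset.insert_eq_cons, Multiset.sum_cons, Multiset.sum_singleton,
    Multiset.map_cons, Multiset.map_singleton] at e1 e2 s4
  refine eq_one_of_norm hn h1 ?_
  have e3 : χ.1 (g ^ 3) = 3 * (a * b * c) := by
    rw [s4]
    linear_combination (3 / 2 * (a + b + c)) * e2 - (1 / 2 * (a + b + c) ^ 2) * e1 +
      (0 : ℂ) * e1
  have n : ∀ z ∈ ({a, b, c} : Multiset ℂ), ‖z‖ = 1 := fun z hz =>
    norm_eq_one_of_pow_eq_one (orderOf_ne_zero g) (s1 z hz)
  rw [e3, h3, norm_mul, norm_mul, norm_mul, n a (by simp), n b (by simp), n c (by simp)]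
  simp

theorem card_cent_of_cube (h9 : ¬ 9 ∣ Nat.card G) (hc : ∀ g : G, 3 ∣ orderOf g → g ^ 3 = 1)
    {x : G} (hx : orderOf x = 3) : Nat.card (centralizer ({x} : Set G)) = 3 := by
  haveI : Fact (Nat.Prime 3) := ⟨Nat.prime_three⟩
  have h3 : x ^ 3 = 1 := hx ▸ pow_orderOf_eq_one x
  have hP : IsPGroup 3 (centralizer ({x} : Set G)) := by
    intro g
    refine ⟨1, Subtype.ext ?_⟩
    have hg : Commute (g : G) x := mem_centralizer_singleton_iff.1 g.2
    change (g : G) ^ 3 ^ 1 = 1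
    rw [pow_one]
    by_cases h : 3 ∣ orderOf (g : G)
    · exact hc _ h
    · have : 3 ∣ orderOf ((g : G) * x) := by
        have e := pow_orderOf_eq_one ((g : G) * x)
        have e2 : ((g : G) * x) ^ (orderOf ((g : G) * x) * orderOf (g : G)) = 1 := by
          rw [pow_mul, e, one_pow]
        rw [hg.mul_pow, mul_comm _ (orderOf (g : G)), pow_mul, pow_orderOf_eq_one, one_pow,
          one_mul] at e2
        have := orderOf_dvd_of_pow_eq_one e2
        rw [hx] at this
        exact ((Nat.Prime.dvd_mul Nat.prime_three).1 this).resolve_left h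
      have := hc _ this
      rwa [hg.mul_pow, h3, mul_one] at this
  obtain ⟨k, hk⟩ := IsPGroup.iff_card.1 hP
  have d1 : 3 ∣ Nat.card (centralizer ({x} : Set G)) := by
    rw [← hx, ← Nat.card_zpowers]
    refine card_dvd_of_le ?_
    rw [zpowers_le, mem_centralizer_singleton_iff]
  have d2 := (centralizer ({x} : Set G)).card_subgroup_dvd_card
  rw [hk] at d1 d2 ⊢
  match k with
  | 0 => simp at d1
  | 1 => rfl
  | k + 2 => exact absurd ((Dvd.intro_left (3 ^ k) (by ring)).trans d2) h9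

theorem isConj_inv [IsSimpleGroup G] (hn : ¬ IsMulCommutative G) (h9 : ¬ 9 ∣ Nat.card G)
    {x : G} (hx : orderOf x = 3) : IsConj x x⁻¹ := by
  have x1 : x ≠ 1 := by rintro rfl; simp at hx
  obtain ⟨m, hm⟩ : 3 ∣ Nat.card G := hx ▸ orderOf_dvd_natCard x
  have hm3 : ¬ 3 ∣ m := fun ⟨k, hk⟩ => h9 ⟨k, by rw [hm, hk]; ring⟩
  have hG : Nat.card G ≠ 3 := fun e => by
    haveI : Fact (Nat.Prime 3) := ⟨Nat.prime_three⟩
    haveI := isCyclic_of_prime_card e
    exact hn inferInstance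
  have := Gl23.burnside_ne Nat.prime_three hx hG (Gl23.sylow_data Nat.prime_three hm hm3 hx).1
  rw [Ne, relIndex_eq_one] at this
  obtain ⟨g, g1, g2⟩ := SetLike.not_le_iff_exists.1 this
  have hmem : g * x * g⁻¹ ∈ zpowers x := (mem_normalizer_iff.1 g1 x).1 (mem_zpowers x)
  rcases mem_cases hx hmem with e | e | e
  · exact absurd (by simpa using e) x1
  · refine absurd ?_ g2
    rw [mem_centralizer_iff]
    rintro _ ⟨k, rfl⟩
    have : Commute x g := by
      rw [mul_inv_eq_iff_eq_mul] at e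
      exact e.symm
    exact (this.zpow_left k).eq
  · exact isConj_iff.2 ⟨g, e⟩

theorem Tri.deg_le {x : G} {α β : IrrCharacter G} (h : Tri x α β) {χ : IrrCharacter G}
    (h3 : χ.1 1 = 3) (h0 : χ.1 x = 0) {a : ℕ} (ha : α.1 1 = a) : a ≤ 9 := by
  classical
  haveI := Fintype.ofFinite G
  have hθ : IsCharacter G (χ.1 * fun g => conj (χ.1 g)) :=
    isChar_mul (irr_isChar χ) (isChar_conj (irr_isChar χ))
  obtain ⟨n, n1, n2⟩ := Constit.isChar_expand_nat hθ
  have e1 : n (oneIrr G) = 1 := by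
    have := n1 (oneIrr G)
    have e : classInner (χ.1 * fun g => conj (χ.1 g)) (oneIrr G).1 = classInner χ.1 χ.1 := by
      simp only [classInner, Pi.mul_apply]
      congr 1
      refine Finset.sum_congr rfl fun g _ => ?_
      have : (oneIrr G).1 g = 1 := rfl
      rw [this, map_one, mul_one]
    rw [e, classInner_irr_self] at this
    exact_mod_cast this.symm
  have ex := congrFun n2 x
  simp only [Pi.mul_apply, h0, zero_mul, Finset.sum_apply, Pi.smul_apply, smul_eq_mul] at ex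
  rw [h.sum (fun ψ => (n ψ : ℂ)), e1] at ex
  have ex' : n α = 1 + n β := by
    have : (n α : ℂ) = 1 + n β := by push_cast at ex; linear_combination ex
    exact_mod_cast this
  choose d d0 hd using fun ψ : IrrCharacter G => isIrr_degree ψ.2
  have e9 := congrFun n2 1
  simp only [Pi.mul_apply, h3, Finset.sum_apply, Pi.smul_apply, smul_eq_mul, hd] at e9
  have e9' : ∑ ψ, n ψ * d ψ = 9 := by
    have : ((∑ ψ, n ψ * d ψ : ℕ) : ℂ) = 9 := by
      push_cast
      rw [← e9, ← hd, h3, map_ofNat]; norm_num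
    exact_mod_cast this
  have le := Finset.single_le_sum (f := fun ψ => n ψ * d ψ) (fun _ _ => Nat.zero_le _)
    (Finset.mem_univ α)
  have da : d α = a := by
    have := hd α
    rw [ha] at this
    exact_mod_cast this.symm
  simp only [e9', ex', da] at le
  nlinarith

theorem exists_central {n : ℕ} (hn : n ≠ 0) (h : 2 ^ n ∣ Nat.card G) :
    ∃ z : G, orderOf z = 2 ∧ 2 ^ n ∣ Nat.card (centralizer ({z} : Set G)) := by
  haveI : Fact (Nat.Prime 2) := ⟨Nat.prime_two⟩
  obtain ⟨K, hK⟩ := Sylow.exists_subgroup_card_pow_prime 2 h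
  have hP : IsPGroup 2 K := IsPGroup.of_card hK
  haveI : Nontrivial K := Finite.one_lt_card_iff_nontrivial.1 (by
    rw [hK]; exact Nat.one_lt_two_pow hn)
  haveI := hP.center_nontrivial
  have hZ : IsPGroup 2 (center K) := hP.to_subgroup _
  obtain ⟨m, hm⟩ := IsPGroup.iff_card.1 hZ
  have m0 : m ≠ 0 := by
    rintro rfl
    have := Finite.one_lt_card_iff_nontrivial.2 (inferInstance : Nontrivial (center K))
    omega
  obtain ⟨z, hz⟩ := exists_prime_orderOf_dvd_card' (G := center K) 2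
    (hm ▸ dvd_pow_self 2 m0)
  refine ⟨((z : K) : G), by rw [Subgroup.orderOf_coe, Subgroup.orderOf_coe, hz], ?_⟩
  rw [← hK]
  refine card_dvd_of_le fun g hg => ?_
  rw [mem_centralizer_singleton_iff]
  exact congrArg Subtype.val (mem_center_iff.1 z.2 ⟨g, hg⟩)

theorem card_of_deg_three [IsSimpleGroup G] (hn : ¬ IsMulCommutative G) {p a n : ℕ}
    (hp : p.Prime) (p2 : p ≠ 2) (p3 : p ≠ 3) (ha : a ≤ 2) (n0 : n ≠ 0)
    (hG : Nat.card G = 3 * p ^ a * 2 ^ n) {χ : IrrCharacter G} (h1 : χ ≠ oneIrr G)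
    (h3 : χ.1 1 = 3) : Nat.card G = 60 ∨ Nat.card G = 168 := by
  haveI : Fact (Nat.Prime 3) := ⟨Nat.prime_three⟩
  have np : ∀ q : ℕ, q.Prime → q ≠ 2 → ¬ q ∣ 2 ^ n := fun q hq q2 h =>
    q2 ((Nat.prime_dvd_prime_iff_eq hq Nat.prime_two).1 (hq.dvd_of_dvd_pow h))
  have pp : ∀ q : ℕ, q.Prime → q ≠ 2 → q ∣ p ^ a * 2 ^ n → q = p := fun q hq q2 h =>
    (Nat.prime_dvd_prime_iff_eq hq hp).1
      (hq.dvd_of_dvd_pow ((hq.dvd_mul.1 h).resolve_right (np q hq q2)))
  have h9 : ¬ 9 ∣ Nat.card G := fun h => by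
    rw [hG, mul_assoc] at h
    exact p3 (pp 3 Nat.prime_three (by norm_num)
      (Nat.dvd_of_mul_dvd_mul_left (by norm_num : 0 < 3) h)).symm
  have cube : ∀ g : G, 3 ∣ orderOf g → g ^ 3 = 1 := fun g => cube_of_deg hn h9 h1 h3
  obtain ⟨x, hx⟩ := exists_prime_orderOf_dvd_card' (G := G) 3 ⟨_, by rw [hG, mul_assoc]⟩
  have hC := card_cent_of_cube h9 cube hx
  obtain ⟨α, β, h⟩ := exists_tri hx hC (isConj_inv hn h9 hx)
  have van : ∀ (ψ : IrrCharacter G) (d : ℕ), ψ.1 1 = d → 3 ∣ d → ψ.1 x = 0 := fun ψ d hd h =>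
    Gl23.vanish_of_dvd (k := 1) Nat.prime_three (by simpa using h9) hd (by simpa using h) x
      (hx ▸ dvd_rfl)
  obtain ⟨b, b0, hb⟩ := isIrr_degree β.2
  have n1 : ¬ IsConj x 1 := fun e => by
    rw [isConj_one_left] at e; subst e; simp at hx
  have hα : α.1 1 = (b + 1 : ℕ) := by rw [h.rel n1, hb]; push_cast; ring
  have le := h.deg_le h3 (van χ 3 (by simpa using h3) dvd_rfl) hα
  have b1 : b ≠ 1 := by
    rintro rfl
    exact deg_ne_one hn h.b1 (by simpa using hb)
  have b3 : ¬ 3 ∣ b := fun e => by simpa [h.bx] using van β b hb e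
  have a3 : ¬ 3 ∣ b + 1 := fun e => by simpa [h.ax] using van α _ hα e
  have db := isIrr_degree_dvd_card β.2 hb
  have da := isIrr_degree_dvd_card α.2 hα
  obtain ⟨z, hz, hzc⟩ := exists_central n0 (⟨3 * p ^ a, by rw [hG]; ring⟩ : 2 ^ n ∣ Nat.card G)
  have z1 : z ≠ 1 := by rintro rfl; simp at hz
  obtain ⟨k, k2, hk⟩ := Gl23.inv_val (comm_top hn) (irr_isChar β) hb
    (t := z) (hz ▸ pow_orderOf_eq_one z)
  have ord := h.order hx hC hz hb hk
  obtain ⟨m, hm⟩ := hzc
  have m3 : ¬ 3 ∣ m := fun e => by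
    obtain ⟨w, hw⟩ := exists_prime_orderOf_dvd_card' (G := centralizer ({z} : Set G)) 3
      (hm ▸ e.mul_left _)
    have hw' : orderOf (w : G) = 3 := by simpa using hw
    have hz' : z ∈ centralizer ({(w : G)} : Set G) :=
      mem_centralizer_singleton_iff.2 (mem_centralizer_singleton_iff.1 w.2).symm
    have := Subgroup.orderOf_dvd_natCard _ hz'
    rw [card_cent_of_cube h9 cube hw', hz] at this
    omega
  have md : m ∣ p ^ a := by
    have := (centralizer ({z} : Set G)).card_subgroup_dvd_card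
    rw [hm, hG, mul_comm _ (2 ^ n)] at this
    have := Nat.dvd_of_mul_dvd_mul_left (Nat.two_pow_pos n) this
    exact ((Nat.Prime.coprime_iff_not_dvd Nat.prime_three).2 m3).symm.dvd_of_dvd_mul_left this
  obtain ⟨c, ca, rfl⟩ := (Nat.dvd_prime_pow hp).1 md
  rw [hm, hG] at ord
  have N3 := np 3 Nat.prime_three (by norm_num)
  have N5 := np 5 (by norm_num) (by norm_num)
  have N7 := np 7 (by norm_num) (by norm_num)
  have N0 := Nat.two_pow_pos n
  have ord2 : p ^ a * (16 * k ^ 2) = 2 ^ n * (p ^ c) ^ 2 * (b * (b + 1)) := by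
    have : ((p ^ a * (16 * k ^ 2) : ℕ) : ℤ) = (2 ^ n * (p ^ c) ^ 2 * (b * (b + 1)) : ℕ) := by
      have t : (3 * 2 ^ n : ℤ) ≠ 0 := by positivity
      refine mul_left_cancel₀ t ?_
      push_cast at ord ⊢
      linear_combination ord
    exact_mod_cast this
  rw [hG] at da db ⊢
  have hb47 : b = 4 ∨ b = 7 := by omega
  rcases hb47 with rfl | rfl
  · have p5 : 5 = p := pp 5 (by norm_num) (by norm_num)
      ((by norm_num : Nat.Coprime 5 3).dvd_of_dvd_mul_left (by rwa [← mul_assoc]))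
    subst p5
    have k1 : k ≠ 2 := by
      rintro rfl
      refine z1 (eq_one_of_norm hn h.b1 ?_)
      rw [hk, hb]; norm_num
    left
    generalize 2 ^ n = N at *
    have : k ≤ 1 := by omega
    interval_cases k <;> interval_cases a <;> interval_cases c <;> omega
  · have p7 : 7 = p := pp 7 (by norm_num) (by norm_num)
      ((by norm_num : Nat.Coprime 7 3).dvd_of_dvd_mul_left (by rwa [← mul_assoc]))
    subst p7
    right
    generalize 2 ^ n = N at *
    have : k ≤ 3 := by omega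
    interval_cases k <;> interval_cases a <;> interval_cases c <;> omega

end Cfsg.Agent.SC3
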