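import Mathlib
import Cfsg.Agent.Inv.FusSimple

/-! `SL₃(F)` has 2-rank two in odd characteristic. -/

namespace Cfsg.Agent.Inv

open Subgroup Matrix

variable {F : Type*} [Field F]

theorem cayley3 (M : Matrix (Fin 3) (Fin 3) F) :
    (2 : F) • (M * M * M) = (2 * M.trace) • (M * M) - (M.trace ^ 2 - (M * M).trace) • M + (2 * M.det) • 1 := by
  ext i j
  fin_cases i <;> fin_cases j <;>
    simp [Matrix.mul_apply, Fin.sum_univ_three, Matrix.trace, Matrix.det_fin_three] <;> ring

theorem trace_invol3 (h2 : (2 : F) ≠ 0) {a : Matrix (Fin 3) (Fin 3) F} (ha : a * a = 1) (hd : a.det = 1) (h1 : a ≠ 1) :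
    a.trace = -1 := by
  by_contra ht
  have h := cayley3 a
  rw [ha, one_mul, hd, trace_one] at h
  simp only [Fintype.card_fin, Nat.cast_ofNat] at h
  have ht' : a.trace + 1 ≠ 0 := fun e => ht (by linear_combination e)
  have h3 : (a.trace - 1) • a = (2 : F) • (1 : Matrix (Fin 3) (Fin 3) F) := by
    refine smul_right_injective _ ht' ?_
    simp only
    linear_combination (norm := module) h
  have h4 : a.trace - 1 ≠ 0 := fun e => by
    rw [e, zero_smul] at h3
    have := congrFun (congrFun h3 0) 0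
    simp at this
    exact h2 this.symm
  set l := 2 / (a.trace - 1) with hl
  have h5 : a = l • (1 : Matrix (Fin 3) (Fin 3) F) := by
    rw [hl, div_eq_inv_mul, mul_smul, ← h3, smul_smul, inv_mul_cancel₀ h4, one_smul]
  have h6 : l * l = 1 := by
    have := congrFun (congrFun ha 0) 0
    rw [h5] at this
    simpa using this
  have h7 : l ^ 3 = 1 := by
    rw [h5, det_smul, det_one] at hd
    simpa using hd
  have : l = 1 := by linear_combination h7 - l * h6
  exact h1 (by rw [h5, this, one_smul])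

theorem sum_four3 (h2 : (2 : F) ≠ 0) {a b : Matrix (Fin 3) (Fin 3) F} (ha : a * a = 1) (hb : b * b = 1)
    (hab : a * b = b * a) (da : a.det = 1) (db : b.det = 1) (a1 : a ≠ 1) (b1 : b ≠ 1) (ab1 : a * b ≠ 1) :
    1 + a + b + a * b = 0 := by
  set e := 1 + a + b + a * b with he
  have hab2 : a * b * (a * b) = 1 := by
    calc a * b * (a * b) = a * (b * a) * b := by noncomm_ring
      _ = (a * a) * (b * b) := by rw [← hab]; noncomm_ring
      _ = 1 := by rw [ha, hb, one_mul]
  have t : e.trace = 0 := by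
    rw [he, trace_add, trace_add, trace_add, trace_invol3 h2 ha da a1, trace_invol3 h2 hb db b1,
      trace_invol3 h2 hab2 (by rw [det_mul, da, db, one_mul]) ab1, trace_one]
    simp; norm_num
  have hae : a * e = e := by
    rw [he]
    calc a * (1 + a + b + a * b) = a + a * a + a * b + a * a * b := by noncomm_ring
      _ = _ := by rw [ha]; noncomm_ring
  have hbe : b * e = e := by
    rw [he]
    calc b * (1 + a + b + a * b) = b + b * a + b * b + (b * a) * b := by noncomm_ring
      _ = b + a * b + b * b + a * (b * b) := by rw [← hab]; noncomm_ring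
      _ = _ := by rw [hb]; noncomm_ring
  have hee : e * e = (4 : F) • e := by
    calc e * e = (1 + a + b + a * b) * e := rfl
      _ = e + a * e + b * e + a * (b * e) := by noncomm_ring
      _ = _ := by rw [hbe, hae]; module
  have h := cayley3 e
  rw [hee, smul_mul_assoc, hee, trace_smul, t] at h
  have h32 : (32 : F) ≠ 0 := by
    rw [show (32 : F) = 2 ^ 5 by norm_num]; exact pow_ne_zero _ h2
  have h3 : e = (2 * e.det / 32) • (1 : Matrix (Fin 3) (Fin 3) F) := by
    refine smul_right_injective _ h32 ?_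
    simp only
    rw [smul_smul, mul_div_cancel₀ _ h32]
    linear_combination (norm := module) h
  by_contra hne
  have h4 : 2 * e.det / 32 ≠ 0 := fun h0 => hne (by rw [h3, h0, zero_smul])
  apply a1
  refine smul_right_injective _ h4 ?_
  simp only
  rw [h3, mul_smul_comm, mul_one] at hae
  exact hae

theorem r2_SL3 (h2 : (2 : F) ≠ 0) {H : Type*} [Group H] (ρ : H →* Matrix (Fin 3) (Fin 3) F)
    (hρ : Function.Injective ρ) (hd : ∀ x, (ρ x).det = 1) : R2 (⊤ : Subgroup H) := by
  intro a _ b _ c _ ha hb hc hab hac hbc a1 b1 hne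
  by_contra hcon
  push Not at hcon
  obtain ⟨c1, ca, cb, cab⟩ := hcon
  have key : ∀ x y : H, x * x = 1 → y * y = 1 → Commute x y → x ≠ 1 → y ≠ 1 → x ≠ y →
      1 + ρ x + ρ y + ρ x * ρ y = 0 := fun x y hx hy hxy x1 y1 hn =>
    sum_four3 h2 (by rw [← map_mul, hx, map_one]) (by rw [← map_mul, hy, map_one]) (hxy.map ρ).eq (hd x) (hd y)
      (fun e => x1 (hρ (by rw [e, map_one]))) (fun e => y1 (hρ (by rw [e, map_one]))) (fun e => hn (by
        have : x * y = 1 := hρ (by rw [map_mul, e, map_one])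
        calc x = x * (y * y) := by rw [hy, mul_one]
          _ = y := by rw [← mul_assoc, this, one_mul]))
  have hab2 : a * b * (a * b) = 1 := by
    calc a * b * (a * b) = a * (b * a) * b := by group
      _ = (a * a) * (b * b) := by rw [← hab.eq]; group
      _ = 1 := by rw [ha, hb, one_mul]
  have ab1 : a * b ≠ 1 := fun e => hne (by
    calc a = a * (b * b) := by rw [hb, mul_one]
      _ = b := by rw [← mul_assoc, e, one_mul])
  have k1 := key a b ha hb hab a1 b1 hne
  have k2 := key a c ha hc hac a1 c1 ca.symm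
  have k3 := key b c hb hc hbc b1 c1 cb.symm
  have k4 := key (a * b) c hab2 hc (hac.mul_left hbc) ab1 c1 cab.symm
  rw [map_mul] at k4
  have k5 : (2 : F) • (1 + ρ c) = 0 := by
    have : (2 : F) • (1 + ρ c) = (1 + ρ a + ρ c + ρ a * ρ c) + (1 + ρ b + ρ c + ρ b * ρ c) +
        (1 + ρ a * ρ b + ρ c + ρ a * ρ b * ρ c) - (1 + ρ a + ρ b + ρ a * ρ b) * (1 + ρ c) := by
      rw [two_smul]; noncomm_ring
    rw [this, k1, k2, k3, k4]; simp
  have k6 : ρ c = -1 := by
    have := (smul_eq_zero.mp k5).resolve_left h2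
    exact eq_neg_of_add_eq_zero_right this
  have k7 := hd c
  rw [k6, det_neg, det_one] at k7
  simp at k7
  exact h2 (by linear_combination -k7)

theorem ne_of_entry (h2 : (2 : F) ≠ 0) {x y : Matrix (Fin 3) (Fin 3) F} (i j : Fin 3)
    (h : x i j = 1 ∧ y i j = -1 ∨ x i j = -1 ∧ y i j = 1) : x ≠ y := by
  rintro rfl
  rcases h with ⟨h1, h3⟩ | ⟨h1, h3⟩
  · exact h2 (by linear_combination h3 - h1)
  · exact h2 (by linear_combination h1 - h3)

theorem fusion_simple_of_SL3 (h2 : (2 : F) ≠ 0) {H : Type*} [Group H] [Finite H] (ρ : H →* Matrix (Fin 3) (Fin 3) F)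
    (hρ : Function.Injective ρ) (hdet : ∀ x, (ρ x).det = 1) {a b c : H} (ha : ρ a = !![-1, 0, 0; 0, 1, 0; 0, 0, -1])
    (hb : ρ b = !![0, -1, 0; -1, 0, 0; 0, 0, -1]) (hc : ρ c = !![-1, 0, 0; 0, 0, -1; 0, -1, 0])
    [IsSimpleGroup (H ⧸ center H)] (S : Sylow 2 (H ⧸ center H)) :
    (groupFusionSystem (S : Subgroup (H ⧸ center H))).IsSimple 2 := by
  haveI : Fact (Nat.Prime 2) := ⟨Nat.prime_two⟩
  have hr : R2 (⊤ : Subgroup H) := r2_SL3 h2 ρ hρ hdet
  have aa : a * a = 1 := hρ (by rw [map_mul, map_one, ha, one_fin_three]; simp)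
  have bb : b * b = 1 := hρ (by rw [map_mul, map_one, hb, one_fin_three]; simp)
  obtain ⟨d, hd⟩ : ∃ d, d = a * b * (a * b) := ⟨_, rfl⟩
  have hdm : ρ d = !![-1, 0, 0; 0, -1, 0; 0, 0, 1] := by simp [hd, ha, hb]
  have dd : d * d = 1 := hρ (by rw [map_mul, map_one, hdm, one_fin_three]; simp)
  have h4 : (a * b) ^ 4 = 1 := by rw [← dd, hd]; simp only [pow_succ, pow_zero, one_mul, mul_assoc]
  have nc : ∀ x y : H, ∀ i j : Fin 3, (ρ (x * y) i j = 1 ∧ ρ (y * x) i j = -1 ∨
      ρ (x * y) i j = -1 ∧ ρ (y * x) i j = 1) → x ∉ center H := fun x y i j h hx =>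
    ne_of_entry h2 i j h (by rw [mem_center_iff.mp hx y])
  have na : a ∉ center H := nc a b 0 1 (by simp [ha, hb])
  have nd : d ∉ center H := nc d c 1 2 (by rw [map_mul, map_mul, hdm, hc]; simp)
  have nad : a * d ∉ center H := nc (a * d) b 0 1 (by simp [hdm, ha, hb])
  have hodd : Odd (Nat.card (center H)) := by
    rw [odd_card_iff]
    intro z hz hz2
    have had : Commute a d := hρ (by rw [map_mul, map_mul, hdm, ha]; simp)
    rcases hr a trivial d trivial z trivial aa dd (mul_self_of_two hz2) had (mem_center_iff.mp hz a)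
      (mem_center_iff.mp hz d) (fun e => na (e ▸ one_mem _)) (fun e => nd (e ▸ one_mem _))
      (fun e => nad (by rw [← e, aa]; exact one_mem _)) with h | h | h | h
    · rw [h] at hz2; simp at hz2
    · exact na (h ▸ hz)
    · exact nd (h ▸ hz)
    · exact nad (h ▸ hz)
  obtain ⟨P, rfl⟩ := exists_sylowQuo S
  have hr' : R2 (sylowQuo P (center H) : Subgroup (H ⧸ center H)) := by
    rw [coe_sylowQuo]
    refine R2.of_equiv (H := (P : Subgroup H)) ?_ (equivMapOfDisjoint (disjoint_ker_of_odd P.isPGroup' hodd))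
    intro x _ y _ z _ hx hy hz hxy hxz hyz x1 y1 hn
    have := hr x trivial y trivial z trivial (congrArg Subtype.val hx) (congrArg Subtype.val hy)
      (congrArg Subtype.val hz) (congrArg Subtype.val hxy.eq) (congrArg Subtype.val hxz.eq)
      (congrArg Subtype.val hyz.eq) (fun e => x1 (Subtype.ext e)) (fun e => y1 (Subtype.ext e))
      (fun e => hn (Subtype.ext e))
    exact this.imp Subtype.ext (Or.imp Subtype.ext (Or.imp Subtype.ext Subtype.ext))
  refine fusion_simple_of_rank_two' _ hr' (a := QuotientGroup.mk a) (b := QuotientGroup.mk b)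
    (by rw [← QuotientGroup.mk_mul, aa]; rfl) (by rw [← QuotientGroup.mk_mul, bb]; rfl)
    (by rw [← QuotientGroup.mk_mul, ← QuotientGroup.mk_pow, h4]; rfl) (fun h => nd ?_)
  rw [← QuotientGroup.eq_one_iff, hd]
  simp only [QuotientGroup.mk_mul]
  rw [mul_assoc, ← mul_assoc (b : H ⧸ center H), ← h.eq, mul_assoc, ← QuotientGroup.mk_mul _ b b, bb]
  simp only [QuotientGroup.mk_one, mul_one]
  rw [← QuotientGroup.mk_mul, aa]; rfl

/-- the underlying matrix of an element of `SL` -/
def slMat (n : Type*) [Fintype n] [DecidableEq n] (F : Type*) [Field F] : SpecialLinearGroup n F →* Matrix n n F where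
  toFun x := x.1
  map_one' := rfl
  map_mul' _ _ := rfl

theorem two_ne_zero_of_odd_card [Fintype F] (h : Fintype.card F % 2 = 1) : (2 : F) ≠ 0 := by
  intro h2
  have := FiniteField.even_card_iff_char_two.mp
    (show ringChar F = 2 from CharP.ringChar_of_prime_eq_zero Nat.prime_two (by exact_mod_cast h2))
  omega

end Cfsg.Agent.Inv
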