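import Mathlib
import Cfsg.Agent.H2.Schur3
import Cfsg.Agent.Transfer.Abelian

/-!
Central extensions given by cocycles, and the corestriction of a fusion invariant
bimultiplicative form on an abelian subgroup.
-/

set_option autoImplicit false
set_option linter.unusedSectionVars false

namespace Cfsg.Agent.ST

open Subgroup
open scoped commutatorElement

section Coc

/-- A normalized cocycle. -/
structure Coc (G Z : Type*) [Group G] [CommGroup Z] where
  /-- the function -/
  c : G → G → Z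
  one : ∀ g, c 1 g = 1
  cyc : ∀ g h k, c g h * c (g * h) k = c h k * c g (h * k)

variable {G Z : Type*} [Group G] [CommGroup Z]

theorem Coc.one' (σ : Coc G Z) (g : G) : σ.c g 1 = 1 := by
  have := σ.cyc g 1 1
  rw [mul_one, mul_one, σ.one] at this
  exact mul_right_cancel this

/-- The central extension given by a cocycle. -/
@[ext] structure Ext (σ : Coc G Z) where
  /-- the central part -/
  z : Z
  /-- the image in the quotient -/
  g : G

variable {σ : Coc G Z}

instance : Mul (Ext σ) := ⟨fun a b => ⟨a.z * b.z * σ.c a.g b.g, a.g * b.g⟩⟩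
instance : One (Ext σ) := ⟨⟨1, 1⟩⟩
instance : Inv (Ext σ) := ⟨fun a => ⟨a.z⁻¹ * (σ.c a.g⁻¹ a.g)⁻¹, a.g⁻¹⟩⟩

@[simp] theorem ext_mul_z (a b : Ext σ) : (a * b).z = a.z * b.z * σ.c a.g b.g := rfl
@[simp] theorem ext_mul_g (a b : Ext σ) : (a * b).g = a.g * b.g := rfl
@[simp] theorem ext_one_z : (1 : Ext σ).z = 1 := rfl
@[simp] theorem ext_one_g : (1 : Ext σ).g = 1 := rfl
@[simp] theorem ext_inv_z (a : Ext σ) : (a⁻¹).z = a.z⁻¹ * (σ.c a.g⁻¹ a.g)⁻¹ := rfl
@[simp] theorem ext_inv_g (a : Ext σ) : (a⁻¹).g = a.g⁻¹ := rfl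

instance : Group (Ext σ) := Group.ofLeftAxioms
  (fun a b d => Ext.ext (by
    simp only [ext_mul_z, ext_mul_g]
    calc _ = a.z * b.z * d.z * (σ.c a.g b.g * σ.c (a.g * b.g) d.g) := by ac_rfl
      _ = _ := by rw [σ.cyc]; ac_rfl) (mul_assoc _ _ _))
  (fun a => Ext.ext (by simp [σ.one]) (one_mul _))
  (fun a => Ext.ext (by simp [mul_comm, mul_left_comm]) (inv_mul_cancel _))

instance [Finite G] [Finite Z] : Finite (Ext σ) :=
  Finite.of_injective (fun a : Ext σ => (a.z, a.g)) fun _ _ h =>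
    Ext.ext (congrArg Prod.fst h) (congrArg Prod.snd h)

variable (σ) in
/-- The projection. -/
def extProj : Ext σ →* G where
  toFun := Ext.g
  map_one' := rfl
  map_mul' _ _ := rfl

variable (σ) in
/-- The inclusion of the centre. -/
def extInl : Z →* Ext σ where
  toFun z := ⟨z, 1⟩
  map_one' := rfl
  map_mul' _ _ := Ext.ext (by simp [σ.one]) (by simp)

theorem extInl_injective : Function.Injective (extInl σ) := fun _ _ h => congrArg Ext.z h

theorem extInl_center (z : Z) : extInl σ z ∈ center (Ext σ) :=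
  mem_center_iff.2 fun y => Ext.ext (by simp [extInl, σ.one, σ.one', mul_comm]) (by simp [extInl])

theorem extInl_comm {x y : G} (h : x * y = y * x) :
    extInl σ (σ.c x y * (σ.c y x)⁻¹) ∈ commutator (Ext σ) := by
  have : extInl σ (σ.c x y * (σ.c y x)⁻¹) = ⁅(⟨1, x⟩ : Ext σ), (⟨1, y⟩ : Ext σ)⁆ := by
    rw [commutatorElement_def, mul_assoc (_ * _), ← mul_inv_rev, eq_mul_inv_iff_mul_eq]
    exact Ext.ext (by simp [extInl, σ.one]) (by simp [extInl, h])
  rw [this]
  exact commutator_mem_commutator (mem_top _) (mem_top _)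

end Coc

section Cor

variable {G Z : Type*} [Group G] [Finite G] [CommGroup Z] {P : Subgroup G}

theorem exists_coc (hP : ∀ x y : P, x * y = y * x) (b : P →* P →* Z)
    (hb : ∀ (g : G) (u v u' v' : P), (u' : G) = g⁻¹ * u * g → (v' : G) = g⁻¹ * v * g →
      b u' v' = b u v) :
    ∃ σ : Coc G Z, ∀ x y : P, σ.c x y * (σ.c y x)⁻¹ = (b x y * (b y x)⁻¹) ^ P.index := by
  classical
  haveI := Fintype.ofFinite (G ⧸ P)
  let rep : G ⧸ P → G ⧸ P := fun ω => (Quotient.mk (MulAction.orbitRel P (G ⧸ P)) ω).out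
  have hrep : ∀ (x : P) ω, rep (x • ω) = rep ω := fun x ω =>
    congrArg Quotient.out (Quotient.sound (MulAction.orbitRel_apply.2 ⟨x, rfl⟩))
  have hf : ∀ ω, ∃ f : P, f • rep ω = ω := fun ω =>
    MulAction.orbitRel_apply.1 ((MulAction.orbitRel P (G ⧸ P)).symm
      (Quotient.mk_out (s := MulAction.orbitRel P (G ⧸ P)) ω))
  choose f hf using hf
  let r : G ⧸ P → G := fun ω => f ω * (rep ω).out
  have hr : ∀ ω, (r ω : G ⧸ P) = ω := fun ω => by
    conv_rhs => rw [← hf ω, ← QuotientGroup.out_eq' (rep ω)]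
    rfl
  have hm : ∀ (g : G) ω, (r (g • ω))⁻¹ * g * r ω ∈ P := fun g ω => by
    rw [mul_assoc, ← QuotientGroup.eq, hr]
    conv_lhs => rw [← hr ω]
    rfl
  let π : G → G ⧸ P → P := fun g ω => ⟨_, hm g ω⟩
  have hπ : ∀ g h ω, π (g * h) ω = π g (h • ω) * π h ω := fun g h ω =>
    Subtype.ext (by simp only [π, mul_smul, coe_mul]; group)
  have re : ∀ (g : G) (F : G ⧸ P → Z), ∏ ω, F (g • ω) = ∏ ω, F ω := fun g F =>
    Fintype.prod_equiv (MulAction.toPerm g) _ _ fun _ => rfl
  let σ : Coc G Z :=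
    { c := fun g h => ∏ ω, b (π g (h • ω)) (π h ω)
      one := fun g => Finset.prod_eq_one fun ω _ => by
        have : π 1 (g • ω) = 1 := Subtype.ext (by simp [π])
        rw [this, map_one, MonoidHom.one_apply]
      cyc := fun g h k => by
        rw [← re k (fun ω => b (π g (h • ω)) (π h ω))]
        simp only [← Finset.prod_mul_distrib, hπ, map_mul, MonoidHom.mul_apply, mul_smul]
        refine Finset.prod_congr rfl fun ω _ => ?_
        apply Additive.ofMul.injective
        simp only [ofMul_mul]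
        abel }
  refine ⟨σ, ?_⟩
  let S : G → Z := fun g => ∏ ω, b (f (g • ω)) (f ω)
  have key : ∀ x y : P, σ.c x y = b x y ^ P.index * (S x * S y * (S (x * y))⁻¹ * (S 1)⁻¹) := by
    intro x y
    have e1 : ∀ ω, b (π x ((y : G) • ω)) (π y ω) =
        b ((f ((x : G) • (y : G) • ω))⁻¹ * x * f ((y : G) • ω)) ((f ((y : G) • ω))⁻¹ * y * f ω) := by
      intro ω
      have a1 : rep ((y : G) • ω) = rep ω := hrep y ω
      have a2 : rep ((x : G) • (y : G) • ω) = rep ω := (hrep x _).trans a1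
      refine hb (rep ω).out _ _ _ _ ?_ ?_
      · simp only [π, r, a1, a2, coe_mul, coe_inv]; group
      · simp only [π, r, a1, coe_mul, coe_inv]; group
    have t1 : ∏ ω, b (f ((x : G) • (y : G) • ω)) (f ((y : G) • ω)) = S x :=
      re y fun ω => b (f ((x : G) • ω)) (f ω)
    have t2 : ∏ ω, b (f ((x : G) • (y : G) • ω)) y = ∏ ω, b (f ((y : G) • ω)) y := by
      rw [re y fun ω => b (f ((x : G) • ω)) y, re x fun ω => b (f ω) y, re y fun ω => b (f ω) y]
    have t3 : ∏ ω, b (f ((x : G) • (y : G) • ω)) (f ω) = S (x * y) := by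
      simp only [S, mul_smul]
    have t4 : ∏ ω, b x (f ((y : G) • ω)) = ∏ ω, b x (f ω) := re y fun ω => b x (f ω)
    have t5 : ∏ ω, b (f ((y : G) • ω)) (f ((y : G) • ω)) = S 1 := by
      rw [re y fun ω => b (f ω) (f ω)]
      simp only [S, one_smul]
    have t6 : ∏ ω : G ⧸ P, b x y = b x y ^ P.index := by
      rw [Finset.prod_const, Finset.card_univ, ← Nat.card_eq_fintype_card]; rfl
    change ∏ ω, b (π x ((y : G) • ω)) (π y ω) = _
    simp only [e1, map_mul, map_inv, MonoidHom.mul_apply, MonoidHom.inv_apply,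
      Finset.prod_mul_distrib, Finset.prod_inv_distrib, mul_inv_rev, inv_inv]
    rw [t1, t2, t3, t4, t5, t6]
    change _ = _ * (_ * (∏ ω, b (f ((y : G) • ω)) (f ω)) * _ * _)
    generalize ∏ ω, b (f ((y : G) • ω)) y = A
    generalize ∏ ω, b x (f ω) = B
    generalize ∏ ω, b (f ((y : G) • ω)) (f ω) = C
    apply Additive.ofMul.injective
    simp only [ofMul_mul, ofMul_inv]
    abel
  intro x y
  rw [key, key, ← coe_mul, ← coe_mul, hP y x, mul_pow, inv_pow]
  apply Additive.ofMul.injective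
  simp only [ofMul_mul, ofMul_inv]
  abel

theorem exists_form {A : Type*} [CommGroup A] [Finite A] {p : ℕ} [hp : Fact p.Prime]
    (hA : IsPGroup p A) (hn : ¬ IsCyclic A) :
    ∃ (b : A →* A →* Multiplicative (ZMod p)) (x y : A), b x y * (b y x)⁻¹ ≠ 1 := by
  classical
  obtain ⟨ι, _, n, hn1, ⟨e⟩⟩ := CommGroup.equiv_prod_multiplicative_zmod_of_finite A
  have hd : ∀ i, p ∣ n i := fun i => by
    haveI : NeZero (n i) := ⟨by have := hn1 i; omega⟩
    obtain ⟨k, hk⟩ := IsPGroup.iff_card.1 (hA.of_surjective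
      ((Pi.evalMonoidHom _ i).comp e.toMonoidHom)
      ((Function.surjective_eval i).comp e.surjective))
    rw [Nat.card_eq_fintype_card, Fintype.card_multiplicative, ZMod.card] at hk
    have := hn1 i
    rw [hk] at this ⊢
    exact dvd_pow_self p (by rintro rfl; simp at this)
  obtain ⟨i, j, hij⟩ : ∃ i j : ι, i ≠ j := by
    by_contra h
    push Not at h
    have hco : Pairwise fun i j => (n i).Coprime (n j) := fun i j hij => absurd (h i j) hij
    have e' := (ZMod.prodEquivPi n hco).toAddEquiv.toMultiplicative.trans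
      (MulEquiv.piMultiplicative _)
    exact hn (isCyclic_of_surjective (e'.trans e.symm) (e'.trans e.symm).surjective)
  let φ : ι → A →* Multiplicative (ZMod p) := fun i => (AddMonoidHom.toMultiplicative
    (ZMod.castHom (hd i) (ZMod p)).toAddMonoidHom).comp
      ((Pi.evalMonoidHom _ i).comp e.toMonoidHom)
  refine ⟨H2.Schur.mulBil (φ i) (φ j), e.symm (Pi.mulSingle i (Multiplicative.ofAdd 1)),
    e.symm (Pi.mulSingle j (Multiplicative.ofAdd 1)), ?_⟩
  simp [H2.Schur.mulBil, φ, hij, ZMod.cast_one (hd i), ZMod.cast_one (hd j)]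

/-- A central extension by a group of order `p` inside the commutator subgroup. -/
theorem exists_ext {p : ℕ} [hp : Fact p.Prime] (P : Sylow p G) (hab : IsMulCommutative P)
    (hn : ¬ IsCyclic P)
    (hi : ∀ n ∈ normalizer ((P : Subgroup G) : Set G), (∀ x ∈ (P : Subgroup G), n * x * n⁻¹ = x) ∨
      ∀ x ∈ (P : Subgroup G), n * x * n⁻¹ = x⁻¹) :
    ∃ (σ : Coc G (Multiplicative (ZMod p))) (z : Ext σ), orderOf z = p ∧
      (extProj σ).ker = zpowers z ∧ z ∈ center (Ext σ) ∧ z ∈ commutator (Ext σ) := by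
  letI : CommGroup P := { (inferInstance : Group P) with mul_comm := hab.1.1 }
  obtain ⟨b, x, y, hxy⟩ := exists_form (A := P) P.isPGroup' hn
  obtain ⟨σ, hσ⟩ := exists_coc (P := (P : Subgroup G)) hab.1.1 b fun g u v u' v' hu hv => by
    have hW : IsWeaklyClosed (P : Subgroup G) (P : Subgroup G) := ⟨le_rfl, fun g h =>
      eq_of_le_of_card_ge h (by rw [card_map_of_injective (MulAut.conj g).injective])⟩
    obtain ⟨n, h1, h2⟩ := Transfer.control_of_isWeaklyClosed (P := P) (Z := P)
      (fun a ha c hc => congrArg Subtype.val (hab.1.1 ⟨c, hc⟩ ⟨a, ha⟩)) hW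
      (A := {(u : G), (v : G)}) (by rintro _ (rfl | rfl); exacts [u.2, v.2]) (g := g⁻¹)
      (by rintro _ (rfl | rfl) <;> rw [inv_inv]; exacts [hu ▸ u'.2, hv ▸ v'.2])
    have a1 := h2 u (by simp)
    have a2 := h2 v (by simp)
    rw [inv_inv, ← hu] at a1
    rw [inv_inv, ← hv] at a2
    rcases hi n h1 with h | h
    · rw [show u' = u from Subtype.ext (a1.symm.trans (h u u.2)),
        show v' = v from Subtype.ext (a2.symm.trans (h v v.2))]
    · rw [show u' = u⁻¹ from Subtype.ext (a1.symm.trans (h u u.2)),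
        show v' = v⁻¹ from Subtype.ext (a2.symm.trans (h v v.2))]
      simp
  have hc : Nat.card (Multiplicative (ZMod p)) = p := by simp
  have ho : ∀ w : Multiplicative (ZMod p), w ≠ 1 → orderOf w = p := fun w hw =>
    ((Nat.dvd_prime hp.1).1 ((_root_.orderOf_dvd_natCard w).trans hc.dvd)).resolve_left
      (by simpa using hw)
  have h1 : σ.c x y * (σ.c y x)⁻¹ ≠ 1 := by
    rw [hσ]
    intro e
    have := orderOf_dvd_of_pow_eq_one e
    rw [ho _ hxy] at this
    exact P.not_dvd_index this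
  refine ⟨σ, extInl σ (σ.c x y * (σ.c y x)⁻¹), ?_, ?_, extInl_center _,
    extInl_comm (congrArg Subtype.val (hab.1.1 x y))⟩
  · rw [orderOf_injective _ extInl_injective, ho _ h1]
  · refine le_antisymm (fun a ha => ?_) (zpowers_le.2 rfl)
    have : zpowers (σ.c x y * (σ.c y x)⁻¹) = ⊤ :=
      eq_top_of_card_eq _ (by rw [Nat.card_zpowers, ho _ h1, hc])
    obtain ⟨k, hk⟩ : a.z ∈ zpowers (σ.c x y * (σ.c y x)⁻¹) := this ▸ mem_top _
    refine ⟨k, ?_⟩
    change extInl σ _ ^ k = a
    rw [← map_zpow]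
    exact Ext.ext hk (show a.g = 1 from ha).symm

end Cor

end Cfsg.Agent.ST
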