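import Mathlib
import Cfsg.Agent.Inv.SC3
import Cfsg.Agent.Block.KB
import Cfsg.Agent.Block.Quot
import Cfsg.Agent.Block.AbFrob2

/-!
A principal block with two nonexceptional characters and a central extension by a group of
order `p`.
-/

set_option autoImplicit false
set_option linter.unusedSectionVars false

namespace Cfsg.Agent.ST

open Subgroup Cfsg.Agent.Char Cfsg.Agent.Block Cfsg.Agent.Dih
open scoped ComplexConjugate

theorem arith_aux {A B d : ℚ} (h : A = B + 1) (h1 : A + B * d ≠ 0) (h2 : B + A * d ≠ 0)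
    (h3 : 1 + d ≠ 0) (h4 : d ≠ 0)
    (e : B ^ 3 / (A + B * d) + A ^ 3 / (B + A * d) - 2 * A * B / (1 + d) - 1 / d = 0) :
    A * B * (d - 1) = 0 := by
  field_simp at e
  subst h
  linear_combination e

theorem arith {ι : Type*} [DecidableEq ι] {S : Finset ι} {α β : ι → ℤ} {d y : ℤ} {r : ℚ}
    (hdy : d ≠ y) (hd : d ≠ 0) (hd1 : 1 + d ≠ 0) (h0 : ∀ i ∈ S, α i + β i * d ≠ 0)
    (e1 : ∑ i ∈ S, ((α i + β i * d : ℤ) : ℚ) ^ 2 = 1 + d ^ 2 + r * (1 + d) ^ 2)
    (e2 : ∑ i ∈ S, ((α i + β i * d : ℤ) : ℚ) * (α i + β i * y : ℤ) =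
      1 + d * y + r * ((1 + d) * (1 + y)))
    (e3 : ∑ i ∈ S, ((α i + β i * y : ℤ) : ℚ) ^ 2 = 1 + y ^ 2 + r * (1 + y) ^ 2)
    (e4 : ∑ i ∈ S, ((α i + β i * y : ℤ) : ℚ) ^ 3 / (α i + β i * d : ℤ) =
      1 + y ^ 3 / d + r * ((1 + y) ^ 3 / (1 + d))) :
    d = 1 ∨ ∃ i ∈ S, β i = 0 ∧ α i ^ 2 = 1 := by
  have t0 : (d : ℚ) - y ≠ 0 := sub_ne_zero.2 (by exact_mod_cast hdy)
  have q0 : (d : ℚ) ≠ 0 := by exact_mod_cast hd
  have q1 : (1 : ℚ) + d ≠ 0 := by exact_mod_cast hd1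
  have q2 : ∀ i ∈ S, (α i : ℚ) + β i * d ≠ 0 := fun i hi => by exact_mod_cast h0 i hi
  push_cast at e1 e2 e3 e4
  set s1 := ∑ i ∈ S, (α i : ℚ) ^ 2 with hs1
  set s2 := ∑ i ∈ S, (α i : ℚ) * β i with hs2
  set s3 := ∑ i ∈ S, (β i : ℚ) ^ 2 with hs3
  have ex : ∀ u v : ℚ, ∑ i ∈ S, ((α i : ℚ) + β i * u) * (α i + β i * v) =
      s1 + (u + v) * s2 + u * v * s3 := fun u v => by
    simp only [hs1, hs2, hs3, Finset.mul_sum, ← Finset.sum_add_distrib]
    exact Finset.sum_congr rfl fun _ _ => by ring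
  simp only [pow_two] at e1 e3
  rw [ex] at e1 e2 e3
  have k3 : s3 = r + 1 := by
    have : ((d : ℚ) - y) ^ 2 * (s3 - (r + 1)) = 0 := by linear_combination e1 - 2 * e2 + e3
    exact sub_eq_zero.1 ((mul_eq_zero.1 this).resolve_left (pow_ne_zero _ t0))
  have k2 : s2 = r := by
    have : ((d : ℚ) - y) * (s2 - r) = 0 := by linear_combination e1 - e2 - d * (d - y) * k3
    exact sub_eq_zero.1 ((mul_eq_zero.1 this).resolve_left t0)
  have k1 : s1 = r + 1 := by linear_combination e1 - 2 * d * k2 - d * d * k3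
  have k4 : ∑ i ∈ S, (β i : ℚ) ^ 3 / (α i + β i * d) = 1 / d + r / (1 + d) := by
    have : ∑ i ∈ S, ((α i : ℚ) + β i * y) ^ 3 / (α i + β i * d) =
        s1 + (2 * d + 3 * (y - d)) * s2 + (d ^ 2 + 3 * d * (y - d) + 3 * (y - d) ^ 2) * s3 +
          (y - d) ^ 3 * ∑ i ∈ S, (β i : ℚ) ^ 3 / (α i + β i * d) := by
      simp only [hs1, hs2, hs3, Finset.mul_sum, ← Finset.sum_add_distrib]
      refine Finset.sum_congr rfl fun i hi => ?_
      have := q2 i hi
      field_simp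
      ring
    rw [this, k1, k2, k3] at e4
    have t1 : ((y : ℚ) - d) ^ 3 ≠ 0 := pow_ne_zero _ fun e => t0 (by linarith)
    refine mul_left_cancel₀ t1 ?_
    rw [← sub_eq_iff_eq_add'] at e4
    generalize ∑ i ∈ S, (β i : ℚ) ^ 3 / (α i + β i * d) = T at e4 ⊢
    have : ((y : ℚ) - d) ^ 3 * T = 1 + y ^ 3 / d + r * ((1 + y) ^ 3 / (1 + d)) - (r + 1 +
      (2 * d + 3 * (y - d)) * r + (d ^ 2 + 3 * d * (y - d) + 3 * (y - d) ^ 2) * (r + 1)) := by
      linarith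
    rw [this]
    field_simp
    ring
  have k5 : ∑ i ∈ S, (α i - β i) ^ 2 = 2 := by
    have : ((∑ i ∈ S, (α i - β i) ^ 2 : ℤ) : ℚ) = s1 - 2 * s2 + s3 := by
      push_cast
      simp only [hs1, hs2, hs3, Finset.mul_sum, ← Finset.sum_add_distrib, ← Finset.sum_sub_distrib]
      exact Finset.sum_congr rfl fun _ _ => by ring
    rw [k1, k2, k3, show r + 1 - 2 * r + (r + 1) = 2 by ring] at this
    exact_mod_cast this
  obtain ⟨a, ha, b, hb, ab, a1, b1, hz⟩ := SC3.two_sq k5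
  have sp : ∀ F : ι → ℚ, ∑ i ∈ S, F i = F a + F b + ∑ i ∈ (S.erase a).erase b, F i := fun F => by
    rw [← Finset.add_sum_erase S F ha, ← Finset.add_sum_erase (S.erase a) F
      (Finset.mem_erase.2 ⟨ab.symm, hb⟩), add_assoc]
  have eq : ∀ i ∈ (S.erase a).erase b, α i = β i := fun i hi => by
    simp only [Finset.mem_erase] at hi
    exact sub_eq_zero.1 (hz i hi.2.2 hi.2.1 hi.1)
  set R := ∑ i ∈ (S.erase a).erase b, (β i : ℚ) ^ 2 with hR
  have r1 : (α a : ℚ) ^ 2 + α b ^ 2 + R = r + 1 := by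
    rw [← k1, hs1, sp, Finset.sum_congr rfl fun i hi => by rw [eq i hi]]
  have r2 : (α a : ℚ) * β a + α b * β b + R = r := by
    rw [← k2, hs2, sp, Finset.sum_congr rfl fun i hi => by rw [eq i hi, ← pow_two]]
  have r3 : (β a : ℚ) ^ 2 + β b ^ 2 + R = r + 1 := by rw [← k3, hs3, sp]
  have r4 : (β a : ℚ) ^ 3 / (α a + β a * d) + (β b : ℚ) ^ 3 / (α b + β b * d) + R / (1 + d) =
      1 / d + r / (1 + d) := by
    rw [← k4, sp, hR, Finset.sum_div]
    congr 1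
    refine Finset.sum_congr rfl fun i hi => ?_
    have := q2 i (Finset.mem_of_mem_erase (Finset.mem_of_mem_erase hi))
    rw [eq i hi] at this ⊢
    have h : (β i : ℚ) ≠ 0 := fun e => this (by rw [e]; ring)
    rw [show (β i : ℚ) + β i * d = β i * (1 + d) by ring]
    field_simp
  have r5 : α a ^ 2 + α b ^ 2 = β a ^ 2 + β b ^ 2 := by
    have : (α a : ℚ) ^ 2 + α b ^ 2 = β a ^ 2 + β b ^ 2 := by linarith
    exact_mod_cast this
  have qa := q2 a ha
  have qb := q2 b hb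
  have fin : ∀ A B : ℤ, A = B + 1 → ∀ {i j}, i ∈ S → j ∈ S →
      (α i = A ∧ β i = B ∨ α i = -A ∧ β i = -B) → (α j = B ∧ β j = A ∨ α j = -B ∧ β j = -A) →
      (β i : ℚ) ^ 3 / (α i + β i * d) + (β j : ℚ) ^ 3 / (α j + β j * d) + R / (1 + d) =
        1 / d + r / (1 + d) → (α i : ℚ) * β i + α j * β j + R = r →
      d = 1 ∨ ∃ i ∈ S, β i = 0 ∧ α i ^ 2 = 1 := by
    intro A B hAB i j hi hj c1 c2 f1 f2
    have qi := q2 i hi
    have qj := q2 j hj
    have g1 : (A : ℚ) + B * d ≠ 0 ∧ (β i : ℚ) ^ 3 / (α i + β i * d) = B ^ 3 / (A + B * d) ∧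
        (α i : ℚ) * β i = A * B := by
      rcases c1 with ⟨c, c'⟩ | ⟨c, c'⟩ <;> rw [c, c'] at qi ⊢
      · exact ⟨qi, rfl, rfl⟩
      · push_cast at qi ⊢
        refine ⟨fun e => qi (by linarith), ?_, by ring⟩
        rw [show -(A : ℚ) + -B * d = -(A + B * d) by ring, div_neg]; ring
    have g2 : (B : ℚ) + A * d ≠ 0 ∧ (β j : ℚ) ^ 3 / (α j + β j * d) = A ^ 3 / (B + A * d) ∧
        (α j : ℚ) * β j = A * B := by
      rcases c2 with ⟨c, c'⟩ | ⟨c, c'⟩ <;> rw [c, c'] at qj ⊢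
      · exact ⟨qj, rfl, mul_comm _ _⟩
      · push_cast at qj ⊢
        refine ⟨fun e => qj (by linarith), ?_, by ring⟩
        rw [show -(B : ℚ) + -A * d = -(B + A * d) by ring, div_neg]; ring
    rw [g1.2.1, g2.2.1] at f1
    rw [g1.2.2, g2.2.2] at f2
    have := arith_aux (A := A) (B := B) (d := d) (by exact_mod_cast hAB) g1.1 g2.1 q1 q0 (by
      rw [← f2] at f1
      linear_combination f1)
    have : A * B * (d - 1) = 0 := by exact_mod_cast this
    rcases mul_eq_zero.1 this with h | h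
    · right
      rcases mul_eq_zero.1 h with h' | h'
      · refine ⟨j, hj, ?_⟩
        have hB : B = -1 := by omega
        rcases c2 with ⟨c, c'⟩ | ⟨c, c'⟩ <;> rw [c, c', h', hB] <;> norm_num
      · refine ⟨i, hi, ?_⟩
        have hA : A = 1 := by omega
        rcases c1 with ⟨c, c'⟩ | ⟨c, c'⟩ <;> rw [c, c', h', hA] <;> norm_num
    · left; omega
  rcases sq_eq_one_iff.1 a1 with u | u <;> rcases sq_eq_one_iff.1 b1 with v | v
  · refine fin (α a) (β a) (by omega) ha hb (Or.inl ⟨rfl, rfl⟩) (Or.inr ?_) r4 r2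
    have a2 : α a = β a + 1 := by omega
    have b2 : α b = β b + 1 := by omega
    rw [a2, b2] at r5 ⊢
    constructor <;> nlinarith
  · refine fin (α a) (β a) (by omega) ha hb (Or.inl ⟨rfl, rfl⟩) (Or.inl ?_) r4 r2
    have a2 : α a = β a + 1 := by omega
    have b2 : α b = β b - 1 := by omega
    rw [a2, b2] at r5 ⊢
    constructor <;> nlinarith
  · refine fin (α b) (β b) (by omega) hb ha (Or.inl ⟨rfl, rfl⟩) (Or.inl ?_) (by linarith)
      (by linarith)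
    have a2 : α a = β a - 1 := by omega
    have b2 : α b = β b + 1 := by omega
    rw [a2, b2] at r5 ⊢
    constructor <;> nlinarith
  · refine fin (-α a) (-β a) (by omega) ha hb (Or.inr ⟨by simp, by simp⟩) (Or.inl ?_) r4 r2
    have a2 : α a = β a - 1 := by omega
    have b2 : α b = β b - 1 := by omega
    rw [a2, b2] at r5 ⊢
    constructor <;> nlinarith

theorem split {ι : Type*} [DecidableEq ι] {B : Finset ι} {ω W : ι → ℂ} {p : ℕ} (hp : p ≠ 0)
    (hω : ∀ i ∈ B, ω i ^ p = 1) (h : ∀ k, 0 < k → k < p → ∑ i ∈ B, ω i ^ k * W i = 0)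
    {c : ℂ} (hc : c ^ p = 1) [DecidablePred fun i => ω i = c] :
    p * ∑ i ∈ B with ω i = c, W i = ∑ i ∈ B, W i := by
  have c0 : c ≠ 0 := by rintro rfl; simp [hp] at hc
  have e1 : ∑ k ∈ Finset.range p, (c⁻¹) ^ k * ∑ i ∈ B, ω i ^ k * W i = ∑ i ∈ B, W i := by
    rw [Finset.sum_eq_single 0 (fun k hk k0 => by
      rw [h k (Nat.pos_of_ne_zero k0) (Finset.mem_range.1 hk), mul_zero])
      (fun h => absurd (Finset.mem_range.2 (Nat.pos_of_ne_zero hp)) h)]
    simp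
  rw [← e1]
  simp only [Finset.mul_sum]
  rw [Finset.sum_comm, Finset.sum_filter]
  refine Finset.sum_congr rfl fun i hi => ?_
  have : ∑ k ∈ Finset.range p, c⁻¹ ^ k * (ω i ^ k * W i) =
      (∑ k ∈ Finset.range p, (c⁻¹ * ω i) ^ k) * W i := by
    rw [Finset.sum_mul]
    exact Finset.sum_congr rfl fun k _ => by rw [mul_pow, mul_assoc]
  rw [this]
  split_ifs with e
  · rw [e, inv_mul_cancel₀ c0]; simp
  · have h1 : c⁻¹ * ω i ≠ 1 := fun h => e (by field_simp at h; exact h)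
    rw [geom_sum_eq h1, mul_pow, inv_pow, hc, hω i hi]
    simp

end Cfsg.Agent.ST
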