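import Mathlib
import Cfsg.Agent.Inv.ST2
import Cfsg.Agent.Block.Contr

/-!
A principal block with two nonexceptional characters does not allow a nonsplit central
extension by a group of order `p`.
-/

set_option autoImplicit false
set_option linter.unusedSectionVars false

namespace Cfsg.Agent.ST

open Subgroup Cfsg.Agent.Char Cfsg.Agent.Block Cfsg.Agent.Dih
open scoped ComplexConjugate _root_.Classical

variable {G X : Type*} [Group G] [Fintype G] [Group X] [Fintype X] {p : ℕ} {M : Ideal AlgInt}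

theorem int_of_sq (χ : IrrCharacter G) {t : G} (ht : t * t = 1) : ∃ n : ℤ, χ.1 t = n := by
  refine Galois.exists_int_of_forall_pow (irr_isGenChar χ) fun k hk => ?_
  rcases Nat.even_or_odd' k with ⟨j, rfl | rfl⟩
  · have h2 : orderOf t ∣ 2 := orderOf_dvd_of_pow_eq_one (by rw [pow_two, ht])
    rcases (Nat.dvd_prime Nat.prime_two).1 h2 with h | h
    · rw [orderOf_eq_one_iff.1 h, one_pow]
    · rw [h] at hk
      exact absurd (Nat.coprime_two_right.1 hk) (by simp)
  · rw [pow_succ, pow_mul, pow_two, ht, one_pow, one_mul]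

/-- The scalar by which a central element acts. -/
noncomputable def om (z : X) (η : IrrCharacter X) : ℂ := η.1 z / η.1 1

theorem om_mul {z : X} (hc : z ∈ center X) (η : IrrCharacter X) (g : X) :
    η.1 (z * g) = om z η * η.1 g := by
  have := mul_of_mem_charCenter (irr_isChar η) (center_le_charCenter η.2 hc) g
  have h1 := irr_one_ne_zero η
  rw [om]
  field_simp
  linear_combination this

theorem om_pow_mul {z : X} (hc : z ∈ center X) (η : IrrCharacter X) (k : ℕ) (g : X) :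
    η.1 (z ^ k * g) = om z η ^ k * η.1 g := by
  induction k with
  | zero => simp
  | succ k ih => rw [pow_succ', mul_assoc, om_mul hc, ih, pow_succ', mul_assoc]

theorem om_pow {z : X} (hc : z ∈ center X) (hz : orderOf z = p) (η : IrrCharacter X) :
    om z η ^ p = 1 := by
  have := om_pow_mul hc η p 1
  rw [← hz, pow_orderOf_eq_one, mul_one] at this
  rw [← hz]
  exact (mul_left_eq_self₀.1 this.symm).resolve_right (irr_one_ne_zero η)

theorem om_eq_one_of_inner {z : X} (hc : z ∈ center X) {θ : X → ℂ} (h : ∀ g, θ (z * g) = θ g)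
    {η : IrrCharacter X} (hη : classInner θ η.1 ≠ 0) : om z η = 1 := by
  have : classInner θ η.1 = conj (om z η) * classInner θ η.1 := by
    simp only [classInner_def]
    rw [mul_left_comm, Finset.mul_sum _ _ (conj (om z η))]
    congr 1
    symm
    refine Fintype.sum_equiv (Equiv.mulLeft z) _ _ fun g => ?_
    rw [Equiv.coe_mulLeft, h, om_mul hc, map_mul]
    ring
  have h1 := (mul_left_eq_self₀.1 this.symm).resolve_right hη
  simpa using congrArg conj h1

/-- A central extension by a group of order `p`. -/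
structure CE (p : ℕ) (f : X →* G) (z : X) : Prop where
  surj : Function.Surjective f
  ord : orderOf z = p
  ker : f.ker = zpowers z
  cent : z ∈ center X

variable {f : X →* G} {z : X}

theorem CE.pg (h : CE p f z) : IsPGroup p f.ker :=
  h.ker ▸ isPGroup_zpowers_of_orderOf ⟨1, by rw [h.ord, pow_one]⟩

theorem CE.le (h : CE p f z) (g : X) : g ∈ centralizer (f.ker : Set X) := fun x hx =>
  (mem_center_iff.1 ((zpowers_le.2 h.cent) (h.ker ▸ hx :)) g).symm

theorem CE.mem_iff (h : CE p f z) (hM : IsPModular p M) (η : IrrCharacter X) :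
    (η ∈ principalBlock M X ∧ om z η = 1) ↔
      ∃ ψ ∈ principalBlock M G, inflIrr f h.surj ψ = η := by
  constructor
  · rintro ⟨h1, h2⟩
    obtain ⟨ψ, rfl⟩ := exists_inflIrr_of_ker_le f h.surj (χ := η) (by
      rw [h.ker, zpowers_le]
      exact fun g => by rw [om_mul h.cent, h2, one_mul])
    refine ⟨ψ, ?_, rfl⟩
    rw [principalBlock_eq, ← inflIrr_oneIrr f h.surj] at h1
    exact (sameBlock_inflIrr_iff_of_centralizer hM h.surj h.pg fun g _ => h.le g).1 h1
  · rintro ⟨ψ, h1, rfl⟩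
    refine ⟨inflIrr_mem_principal hM f h.surj h1, ?_⟩
    have : f z = 1 := (h.ker ▸ mem_zpowers z : z ∈ f.ker)
    simp only [om, coe_inflIrr, this, map_one]
    exact div_self (irr_one_ne_zero ψ)

theorem CE.row (h : CE p f z) (hM : IsPModular p M) {Ψ : G → ℂ}
    (hr : ∀ ψ ∈ principalBlock M G, ∃ α β : ℤ, ∀ g, ¬ p ∣ orderOf g → ψ.1 g = α + β * Ψ g)
    {η : IrrCharacter X} (hη : η ∈ principalBlock M X) :
    ∃ α β : ℤ, ∀ g, ¬ p ∣ orderOf g → η.1 g = α + β * Ψ (f g) := by
  obtain ⟨m, hm, -⟩ := isGenChar_exists_mult (isGenChar_comp_pr hM (irr_isGenChar η))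
  have key : ∀ φ ∈ Finset.univ.filter (· ∈ principalBlock M X), ∃ α β : ℤ, ∀ g, ¬ p ∣ orderOf g →
      classInner (fun g => η.1 (pr p g)) φ.1 * φ.1 g = α + β * Ψ (f g) := fun φ hφ => by
    by_cases h0 : classInner (fun g => η.1 (pr p g)) φ.1 = 0
    · exact ⟨0, 0, fun g _ => by simp [h0]⟩
    obtain ⟨ψ, h1, rfl⟩ := (h.mem_iff hM φ).1 ⟨(Finset.mem_filter.1 hφ).2,
      om_eq_one_of_inner h.cent (fun g => by
        rw [← mem_center_iff.1 h.cent g,
          pr_mul_central hM.1 ⟨1, by rw [h.ord, pow_one]⟩ h.cent]) h0⟩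
    obtain ⟨α, β, e⟩ := hr ψ h1
    refine ⟨m (inflIrr f h.surj ψ) * α, m (inflIrr f h.surj ψ) * β, fun g hg => ?_⟩
    rw [hm, coe_inflIrr]
    dsimp only
    rw [e _ fun hd => hg (hd.trans (orderOf_map_dvd f g))]
    push_cast
    ring
  choose! α β e using key
  refine ⟨∑ φ with φ ∈ principalBlock M X, α φ, ∑ φ with φ ∈ principalBlock M X, β φ,
    fun g hg => ?_⟩
  rw [← blockPart_irr_of_mem hη, blockPart_congr_regular hM (isV_principal hM)
    (f' := fun g => η.1 (pr p g)) (fun s hs => by rw [pr_of_regular hM.1 hs]) hg,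
    blockPart_eq_sum, Finset.sum_congr rfl fun φ hφ => e φ hφ g hg]
  push_cast
  rw [Finset.sum_add_distrib, Finset.sum_mul]

theorem CE.sum_eq (h : CE p f z) (hM : IsPModular p M) {W : IrrCharacter X → ℂ}
    (hW : ∀ k, 0 < k → k < p → ∑ η with η ∈ principalBlock M X, om z η ^ k * W η = 0)
    {c : ℂ} (hc : c ^ p = 1) :
    ∑ η ∈ Finset.univ.filter (· ∈ principalBlock M X) with om z η = c, W η =
      ∑ ψ with ψ ∈ principalBlock M G, W (inflIrr f h.surj ψ) := by
  have p0 := hM.1.ne_zero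
  have e1 := split p0 (fun η _ => om_pow h.cent h.ord η) hW hc
  have e2 := split p0 (fun η _ => om_pow h.cent h.ord η) hW (one_pow p)
  rw [mul_left_cancel₀ (Nat.cast_ne_zero.2 p0) (e1.trans e2.symm),
    ← Finset.sum_image (g := inflIrr f h.surj) fun a _ b _ e => inflIrr_injective f h.surj e]
  refine Finset.sum_congr ?_ fun _ _ => rfl
  ext η
  simp only [Finset.mem_filter, Finset.mem_univ, true_and, Finset.mem_image, h.mem_iff hM]

theorem CE.pow_ne (h : CE p f z) {k : ℕ} (h0 : 0 < k) (hk : k < p) : z ^ k ≠ 1 := fun e =>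
  absurd (Nat.le_of_dvd h0 (h.ord ▸ orderOf_dvd_of_pow_eq_one e)) hk.not_ge

theorem CE.pPart (h : CE p f z) (hp : p.Prime) (k : ℕ) {g : X} (hg : ¬ p ∣ orderOf g) :
    IsPPart p (z ^ k * g) (z ^ k) :=
  isPPart_mul (mem_center_iff.1 (pow_mem h.cent k) g).symm
    (exists_orderOf_eq_pow_of_mem hp h.pg (h.ker ▸ pow_mem (mem_zpowers z) k :)) hg

theorem CE.orth (h : CE p f z) (hM : IsPModular p M) {g g' : X} (hg : ¬ p ∣ orderOf g)
    (hg' : ¬ p ∣ orderOf g') (k : ℕ) (h0 : 0 < k) (hk : k < p) :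
    ∑ η with η ∈ principalBlock M X, om z η ^ k * (η.1 g * conj (η.1 g')) = 0 := by
  have := block_orth_conj hM (isV_principal hM) (h.pPart hM.1 k hg) (isPPart_one hg')
    fun e => h.pow_ne h0 hk (isConj_one_left.1 e)
  simpa only [om_pow_mul h.cent, mul_assoc] using this

theorem CE.cub (h : CE p f z) (hM : IsPModular p M) (hp : p ≠ 2) {u : X} (hu : u * u = 1)
    (hg : ¬ p ∣ orderOf u) (k : ℕ) (h0 : 0 < k) (hk : k < p) :
    ∑ η with η ∈ principalBlock M X, om z η ^ k * (conj (η.1 u * η.1 u / η.1 1) * η.1 u) = 0 := by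
  have := blockPart_eq_zero_of_section hM (isV_principal hM) (ϑ := pairs u u) (x := z ^ k)
    (fun g w hw hc => by
      by_contra hn
      obtain ⟨x, y, hx, hy, rfl⟩ := pairs_ne_zero hn
      have sq : ∀ {x}, IsConj u x → x * x = 1 := fun {x} hx => by
        obtain ⟨a, rfl⟩ := isConj_iff.1 hx
        rw [conj_mul, hu, mul_one, mul_inv_cancel]
      have zc := pow_mem h.cent k
      obtain rfl : z ^ k = w := by
        obtain ⟨a, rfl⟩ := isConj_iff.1 hc
        rw [mem_center_iff.1 zc a, mul_inv_cancel_right]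
      have e1 := pPart_conj hM.1 hw x
      have e2 := pPart_inv hw
      rw [mem_center_iff.1 zc x, mul_inv_cancel_right, show x * (x * y) * x⁻¹ = (x * y)⁻¹ by
        rw [← mul_assoc, sq hx, one_mul, mul_inv_rev, inv_eq_of_mul_eq_one_right (sq hy)]] at e1
      have e3 : z ^ (k * 2) = 1 := by
        rw [pow_mul, pow_two]
        nth_rewrite 1 [pPart_unique hM.1 e1 e2]
        exact inv_mul_cancel _
      rcases (Nat.Prime.dvd_mul hM.1).1 (h.ord ▸ orderOf_dvd_of_pow_eq_one e3) with e | e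
      · exact absurd (Nat.le_of_dvd h0 e) hk.not_ge
      · exact hp ((Nat.prime_dvd_prime_iff_eq hM.1 Nat.prime_two).1 e))
    (h.pPart hM.1 k hg) (IsConj.refl _)
  rw [blockPart_eq_sum] at this
  simp only [inner_pairs, om_pow_mul h.cent, mul_assoc, ← Finset.mul_sum] at this
  have c0 : ∀ H : Subgroup X, (Nat.card H : ℂ) ≠ 0 := fun H => Nat.cast_ne_zero.2 Nat.card_pos.ne'
  rw [← (mul_eq_zero.1 this).resolve_left (div_ne_zero (Nat.cast_ne_zero.2 Nat.card_pos.ne')
    (mul_ne_zero (c0 _) (c0 _)))]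
  exact Finset.sum_congr rfl fun _ _ => by ring

/-- The shape of a principal block with two nonexceptional characters. -/
structure Shape (p : ℕ) (M : Ideal AlgInt) (χ : IrrCharacter G) (a δ : ℤ)
    (E : Finset (IrrCharacter G)) : Prop where
  a1 : a = 1 ∨ a = -1
  d1 : δ = 1 ∨ δ = -1
  ne : χ ≠ oneIrr G
  n1 : oneIrr G ∉ E
  n2 : χ ∉ E
  mem : ∀ ψ, ψ ∈ principalBlock M G ↔ ψ = oneIrr G ∨ ψ = χ ∨ ψ ∈ E
  nonempty : E.Nonempty
  val : ∀ ζ ∈ E, ∀ g, ¬ p ∣ orderOf g → ζ.1 g = δ * (1 + a * χ.1 g)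

theorem AbFrob.shape {P : Subgroup G} (h : AbFrob p P) (hM : IsPModular p M)
    (h2 : (centralizer (P : Set G)).relIndex (normalizer (P : Set G)) = 2) (hm : 9 ≤ Nat.card P) :
    ∃ (χ : IrrCharacter G) (a δ : ℤ) (E : Finset (IrrCharacter G)), Shape p M χ a δ E := by
  have hn := h.exists_not_rel (by omega)
  obtain ⟨δ, d, ζ, a, hδ, hd⟩ := (h.excSys hM).exists_data hM isPBlock_principalBlock hn
  have hδ0 : δ ≠ 0 := by omega
  have hc := h.card_range hd.eq_iff
  have ho := h.one_mem hd hδ0 hn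
  have hX : oneIrr G ∈ Finset.univ.filter (· ∈ principalBlock M G \ Set.range ζ) :=
    Finset.mem_filter.2 ⟨Finset.mem_univ _, oneIrr_mem_principalBlock hM, ho.1⟩
  have nm := hd.norm'
  rw [h2] at hc nm
  have hr : (4 : ℤ) ≤ Nat.card (Set.range ζ) := by exact_mod_cast (by omega)
  have h1 := Finset.single_le_sum (f := fun χ => a χ ^ 2) (fun _ _ => sq_nonneg _) hX
  obtain rfl : d = 0 := by
    by_contra d0
    have : 0 < d ^ 2 := by positivity
    simp only [ho.2] at h1
    push_cast at nm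
    nlinarith [sq_nonneg (d - δ)]
  have nm' : ∑ χ with χ ∈ principalBlock M G \ Set.range ζ, a χ ^ 2 = 2 := by
    rcases hδ with rfl | rfl <;> · norm_num at nm ⊢; omega
  obtain ⟨χ, hχ, a1, n1, hz⟩ : ∃ χ ∈ principalBlock M G \ Set.range ζ, a χ ^ 2 = 1 ∧
      χ ≠ oneIrr G ∧ ∀ ψ ∈ principalBlock M G \ Set.range ζ, ψ = oneIrr G ∨ ψ = χ := by
    obtain ⟨x, hx, y, hy, xy, x1, y1, hz⟩ := SC3.two_sq nm'
    have hz' : ∀ ψ ∈ principalBlock M G \ Set.range ζ, ψ = x ∨ ψ = y := fun ψ hψ => by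
      by_contra hc
      push Not at hc
      exact hd.a_ne ψ hψ.1 hψ.2 (hz ψ (Finset.mem_filter.2 ⟨Finset.mem_univ _, hψ⟩) hc.1 hc.2)
    rcases hz' _ (Finset.mem_filter.1 hX).2 with rfl | rfl
    · exact ⟨y, (Finset.mem_filter.1 hy).2, y1, xy.symm, hz'⟩
    · exact ⟨x, (Finset.mem_filter.1 hx).2, x1, xy, fun ψ hψ => (hz' ψ hψ).symm⟩
  obtain ⟨i, -⟩ := hn
  refine ⟨χ, a χ, δ, Finset.univ.filter (· ∈ Set.range ζ), sq_eq_one_iff.1 a1, hδ, n1,
    by simpa using ho.1, by simpa using hχ.2, fun ψ => ⟨fun hψ => ?_, ?_⟩,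
    ⟨ζ i, Finset.mem_filter.2 ⟨Finset.mem_univ _, i, rfl⟩⟩, fun η hη g hg => ?_⟩
  · by_cases e : ψ ∈ Set.range ζ
    · exact Or.inr (Or.inr (by simpa using e))
    · exact (hz ψ ⟨hψ, e⟩).imp_right Or.inl
  · rintro (rfl | rfl | e)
    · exact oneIrr_mem_principalBlock hM
    · exact hχ.1
    · obtain ⟨j, rfl⟩ := (Finset.mem_filter.1 e).2
      exact hd.mem j
  · obtain ⟨j, rfl⟩ := (Finset.mem_filter.1 hη).2
    have := hd.rel' hδ0 j hg
    rw [show Finset.univ.filter (· ∈ principalBlock M G \ Set.range ζ) = {oneIrr G, χ} by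
      ext ψ
      simp only [Finset.mem_filter, Finset.mem_univ, true_and, Finset.mem_insert,
        Finset.mem_singleton]
      exact ⟨hz ψ, by rintro (rfl | rfl); exacts [(Finset.mem_filter.1 hX).2, hχ]⟩,
      Finset.sum_pair n1.symm, ho.2] at this
    simp only [coe_oneIrr] at this
    rcases hδ with rfl | rfl <;> push_cast at this ⊢
    · linear_combination -this
    · linear_combination this

variable {χ : IrrCharacter G} {a δ : ℤ} {E : Finset (IrrCharacter G)}

theorem Shape.row (h : Shape p M χ a δ E) : ∀ ψ ∈ principalBlock M G, ∃ α β : ℤ, ∀ g,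
    ¬ p ∣ orderOf g → ψ.1 g = α + β * (a * χ.1 g) := fun ψ hψ => by
  rcases (h.mem ψ).1 hψ with rfl | rfl | e
  · exact ⟨1, 0, fun g _ => by simp⟩
  · exact ⟨0, a, fun g _ => by rcases h.a1 with rfl | rfl <;> simp⟩
  · exact ⟨δ, δ, fun g hg => by rw [h.val ψ e g hg]; ring⟩

theorem Shape.sum (h : Shape p M χ a δ E) (hp : p.Prime) {u : G} (hu : ¬ p ∣ orderOf u)
    (F : ℂ → ℂ → ℂ) (hF : ∀ x y, F (-x) (-y) = F x y) :
    ∑ ψ with ψ ∈ principalBlock M G, F (ψ.1 1) (ψ.1 u) = F 1 1 + F (a * χ.1 1) (a * χ.1 u) +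
      E.card * F (1 + a * χ.1 1) (1 + a * χ.1 u) := by
  rw [show Finset.univ.filter (· ∈ principalBlock M G) = insert (oneIrr G) (insert χ E) by
    ext ψ; simp [h.mem], Finset.sum_insert (by simp [h.ne.symm, h.n1]), Finset.sum_insert h.n2,
    Finset.sum_congr rfl (g := fun _ => F (1 + a * χ.1 1) (1 + a * χ.1 u)) fun ζ hζ => by
      rw [h.val ζ hζ 1 (by simpa using hp.ne_one), h.val ζ hζ u hu]
      rcases h.d1 with rfl | rfl
      · simp
      · rw [← hF]; simp, Finset.sum_const, nsmul_eq_mul, add_assoc]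
  congr 2
  rcases h.a1 with rfl | rfl
  · simp
  · rw [← hF]; simp

theorem Shape.no_ext [IsSimpleGroup G] (hs : Shape p M χ a δ E) (hM : IsPModular p M)
    (hp : p ≠ 2) (hn : ¬ IsMulCommutative G) {u : G} (hu : orderOf u = 2) (h : CE p f z) :
    z ∉ commutator X := fun hz => by
  have p2 : ¬ p ∣ 2 := fun e => hp ((Nat.prime_dvd_prime_iff_eq hM.1 Nat.prime_two).1 e)
  have p1 : ¬ p ∣ orderOf (1 : X) := by simpa using hM.1.ne_one
  have ur : ¬ p ∣ orderOf u := hu ▸ p2
  have u2 : u * u = 1 := by rw [← pow_two, ← hu, pow_orderOf_eq_one]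
  obtain ⟨v, vr, rfl⟩ := exists_regular_lift hM.1 h.surj ur
  have v2 : v * v = 1 := regular_lift_unique hM.1 h.pg
    (fun e => vr (e.trans (by rw [← pow_two]; exact orderOf_pow_dvd 2))) p1 (h.le _)
    (by rw [map_mul, u2, map_one])
  obtain ⟨n, hn1⟩ := int_of_sq χ (mul_one 1)
  obtain ⟨m, hm⟩ := int_of_sq χ u2
  have hd : (a : ℂ) * χ.1 1 = (a * n : ℤ) := by rw [hn1]; simp
  have hy : (a : ℂ) * χ.1 (f v) = (a * m : ℤ) := by rw [hm]; simp
  have a0 : (a : ℂ) ≠ 0 := by rcases hs.a1 with rfl | rfl <;> simp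
  choose! α β e using fun η hη => h.row hM (η := η) hs.row hη
  have c1 := (Complex.isPrimitiveRoot_exp p hM.1.ne_zero).pow_eq_one
  have c2 := (Complex.isPrimitiveRoot_exp p hM.1.ne_zero).ne_one hM.1.one_lt
  generalize Complex.exp _ = c at c1 c2
  set S := (Finset.univ.filter (· ∈ principalBlock M X)).filter fun η => om z η = c with hS
  have mS : ∀ η ∈ S, η ∈ principalBlock M X ∧ om z η = c := fun η hη => by simpa [hS] using hη
  have v1 : ∀ η ∈ S, η.1 1 = (α η + β η * (a * n) : ℤ) := fun η hη => by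
    rw [e η (mS η hη).1 1 p1, map_one, hd]; simp
  have vv : ∀ η ∈ S, η.1 v = (α η + β η * (a * m) : ℤ) := fun η hη => by
    rw [e η (mS η hη).1 v vr, hy]; simp
  have key : ∀ (F : ℂ → ℂ → ℂ), (∀ x y, F (-x) (-y) = F x y) →
      (∀ k, 0 < k → k < p →
        ∑ η with η ∈ principalBlock M X, om z η ^ k * F (η.1 1) (η.1 v) = 0) →
      ∑ η ∈ S, F (α η + β η * (a * n) : ℤ) (α η + β η * (a * m) : ℤ) = F 1 1 +
        F (a * n : ℤ) (a * m : ℤ) + E.card * F (1 + (a * n : ℤ)) (1 + (a * m : ℤ)) :=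
    fun F h1 h2 => by
      rw [← hd, ← hy, ← hs.sum hM.1 ur F h1, ← Finset.sum_congr rfl fun η hη => by
        rw [← v1 η hη, ← vv η hη], h.sum_eq hM h2 c1]
      simp only [coe_inflIrr, map_one]
  have k1 := key (fun x _ => x * conj x) (by simp) (h.orth hM p1 p1)
  have k2 := key (fun x y => x * conj y) (by simp) (h.orth hM p1 vr)
  have k3 := key (fun _ y => y * conj y) (by simp) (h.orth hM vr vr)
  have k4 := key (fun x y => conj (y * y / x) * y) (by simp [div_neg]) (h.cub hM hp v2 vr)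
  simp only [map_add, map_mul, map_one, map_intCast, map_div₀] at k1 k2 k3 k4
  have n1 : a * n ≠ 1 := fun e1 => by
    obtain ⟨k, hk⟩ := isChar_degree (irr_isChar χ)
    have : n = k := by exact_mod_cast hn1.symm.trans hk
    refine SC3.deg_ne_one hn hs.ne ?_
    rw [hn1, show n = 1 by rcases hs.a1 with rfl | rfl <;> omega, Int.cast_one]
  obtain ⟨ζ, hζ⟩ := hs.nonempty
  rcases arith (S := S) (α := α) (β := β) (d := a * n) (y := a * m) (r := E.card)
    (fun e1 => by
      have e2 : χ.1 (f v) = χ.1 1 := mul_left_cancel₀ a0 (by rw [hd, hy, e1])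
      rw [SC3.eq_one_of_norm hn hs.ne (congrArg _ e2), orderOf_one] at hu
      omega)
    (fun e1 => mul_ne_zero a0 (irr_one_ne_zero χ) (by rw [hd, e1, Int.cast_zero]))
    (fun e1 => irr_one_ne_zero ζ (by
      rw [hs.val ζ hζ 1 (by simpa using hM.1.ne_one), hd, ← Int.cast_one, ← Int.cast_add, e1]
      simp))
    (fun η hη e1 => irr_one_ne_zero η (by rw [v1 η hη, e1, Int.cast_zero]))
    (Rat.cast_injective (α := ℂ) (by push_cast at k1 ⊢; simp only [pow_two]; rw [k1]; ring))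
    (Rat.cast_injective (α := ℂ) (by push_cast at k2 ⊢; rw [k2]; ring))
    (Rat.cast_injective (α := ℂ) (by push_cast at k3 ⊢; simp only [pow_two]; rw [k3]; ring))
    (Rat.cast_injective (α := ℂ) (by
      push_cast at k4 ⊢
      rw [Finset.sum_congr rfl fun _ _ => by rw [pow_three', mul_div_right_comm], k4]
      ring)) with e1 | ⟨η, hη, e1, e2⟩
  · exact n1 e1
  · obtain ⟨k, hk⟩ := isChar_degree (irr_isChar η)
    have e3 := v1 η hη
    rw [e1, zero_mul, add_zero] at e3
    have e4 : α η = k := by exact_mod_cast e3.symm.trans hk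
    have e5 : η.1 1 = 1 := by
      rw [e3, show α η = 1 by rcases sq_eq_one_iff.1 e2 with e | e <;> omega, Int.cast_one]
    refine c2 ?_
    rw [← (mS η hη).2, om, apply_eq_of_mem_charKer (commutator_le_charKer (irr_isChar η) e5 hz),
      e5, div_one]

end Cfsg.Agent.ST
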