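import Mathlib
import Cfsg.Agent.Inv.ST1
import Cfsg.Agent.Inv.ST3
import Cfsg.Agent.Isaacs.NTr

/-!
Groups with an abelian noncyclic Sylow `p`-subgroup which is centralized or inverted by each
element of its normalizer have `p`-length one.
-/

set_option autoImplicit false
set_option linter.unusedSectionVars false

namespace Cfsg.Agent.ST

open Subgroup Cfsg.Agent.Char Cfsg.Agent.Block Cfsg.Agent.Core Cfsg.Agent.Transfer

universe u

variable {G : Type*} [Group G] [Finite G] {p : ℕ} [hp : Fact p.Prime]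

/-- Every element of the normalizer centralizes or inverts `P`. -/
def CI (P : Subgroup G) : Prop :=
  ∀ n ∈ normalizer (P : Set G), (∀ x ∈ P, n * x * n⁻¹ = x) ∨ ∀ x ∈ P, n * x * n⁻¹ = x⁻¹

theorem eq_one_of_inv (p2 : p ≠ 2) {P : Subgroup G} (hP : IsPGroup p P) {x : G} (hx : x ∈ P)
    (h : x = x⁻¹) : x = 1 := by
  obtain ⟨k, hk⟩ := exists_orderOf_eq_pow_of_mem hp.out hP hx
  have h2 : orderOf x ∣ 2 := orderOf_dvd_of_pow_eq_one (by
    rw [pow_two]; nth_rewrite 1 [h]; exact inv_mul_cancel x)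
  rw [← orderOf_eq_one_iff]
  exact Nat.Coprime.eq_one_of_dvd
    (hk ▸ ((Nat.coprime_primes hp.out Nat.prime_two).2 p2).pow_left k) h2

theorem mem_cent {P : Subgroup G} {n : G} (h : ∀ x ∈ P, n * x * n⁻¹ = x) :
    n ∈ centralizer (P : Set G) := fun x hx => by
  rw [← mul_inv_eq_iff_eq_mul.1 (h x hx)]

theorem of_mem_cent {P : Subgroup G} {n : G} (h : n ∈ centralizer (P : Set G)) :
    ∀ x ∈ P, n * x * n⁻¹ = x := fun x hx => by rw [← h x hx, mul_inv_cancel_right]

theorem plen_of_npc (h : HasNormalPComplement p G) : PLengthLE p 1 G :=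
  PLengthLE.of_quotient_pPrime (pResidual p G)
    ((Nat.coprime_comm.1 ((Nat.Prime.coprime_iff_not_dvd hp.out).2
      (hasNormalPComplement_iff_not_dvd.1 h))))
    (pLengthLE_one_of_isPGroup isPGroup_quotient_pResidual)

theorem nine_le (p2 : p ≠ 2) {P : Type*} [Group P] [Finite P] (hP : IsPGroup p P)
    (hn : ¬ IsCyclic P) : 9 ≤ Nat.card P := by
  obtain ⟨k, hk⟩ := hP.exists_card_eq
  have h3 : 3 ≤ p := by have := hp.out.two_le; omega
  rcases k with _ | _ | k
  · have := Nat.card_eq_one_iff_unique.1 hk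
    exact absurd (@isCyclic_of_subsingleton P _ this.1) hn
  · exact absurd (isCyclic_of_prime_card (by simpa using hk)) hn
  · rw [hk]
    calc 9 = 3 ^ 2 := rfl
      _ ≤ p ^ 2 := Nat.pow_le_pow_left h3 2
      _ ≤ _ := Nat.pow_le_pow_right (by omega) (by omega)

theorem simple_case [IsSimpleGroup G] (p2 : p ≠ 2) (P : Sylow p G) (hab : IsMulCommutative P)
    (hn : ¬ IsCyclic P) (hi : CI (P : Subgroup G)) : HasNormalPComplement p G := by
  by_contra hc
  have := Fintype.ofFinite G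
  obtain ⟨n, n1, n2⟩ := SetLike.not_le_iff_exists.1
    fun h => hc (hasNormalPComplement_of_normalizer_le_centralizer P h)
  have hna : ¬ IsMulCommutative G := fun h => n2 fun x _ => h.1.1 x n
  have inv : ∀ m ∈ normalizer ((P : Subgroup G) : Set G),
      m ∉ centralizer ((P : Subgroup G) : Set G) → ∀ x ∈ (P : Subgroup G), m * x * m⁻¹ = x⁻¹ :=
    fun m h1 h2 => (hi m h1).resolve_left fun h => h2 (mem_cent h)
  have h2 : (centralizer ((P : Subgroup G) : Set G)).relIndex
      (normalizer ((P : Subgroup G) : Set G)) = 2 := by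
    refine index_eq_two_iff.2 ⟨⟨n, n1⟩, fun b => ?_⟩
    simp only [mem_subgroupOf, coe_mul]
    by_cases hb : b.1 ∈ centralizer ((P : Subgroup G) : Set G)
    · exact Or.inr ⟨hb, fun h => n2 ((mul_mem_cancel_left hb).1 h)⟩
    · refine Or.inl ⟨mem_cent fun x hx => ?_, hb⟩
      rw [show b.1 * n * x * (b.1 * n)⁻¹ = b * (n * x * n⁻¹) * b.1⁻¹ by group, inv n n1 n2 x hx,
        inv b b.2 hb _ (inv_mem hx), inv_inv]
  have hF := abFrob_of_inf P hab fun y hy y1 => le_antisymm (fun m hm => by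
    by_contra h
    refine y1 (eq_one_of_inv p2 P.isPGroup' hy ?_)
    rw [← inv m hm.2 h y hy, mem_centralizer_singleton_iff.1 hm.1, mul_inv_cancel_right])
    (le_inf (centralizer_le (Set.singleton_subset_iff.2 hy)) (centralizer_le_normalizer _))
  obtain ⟨M, hM⟩ := exists_isPModular hp.out
  obtain ⟨χ, a, δ, E, hs⟩ := AbFrob.shape hF hM h2 (nine_le p2 P.isPGroup' hn)
  obtain ⟨u, hu⟩ := exists_prime_orderOf_dvd_card' (G := G) 2
    ((h2 ▸ relIndex_dvd_card _ _).trans (card_subgroup_dvd_card _))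
  obtain ⟨σ, z, z1, z2, z3, z4⟩ := exists_ext P hab hn hi
  have := Fintype.ofFinite (Ext σ)
  exact hs.no_ext hM p2 hna hu ⟨fun g => ⟨⟨1, g⟩, rfl⟩, z1, z2, z3⟩ z4

theorem CI.subgroupOf {P H : Subgroup G} (hi : CI P) (h : P ≤ H) : CI (P.subgroupOf H) := by
  intro n hn
  rw [← subgroupOf_normalizer_eq h] at hn
  exact (hi n hn).imp (fun e x hx => Subtype.ext (e x hx)) fun e x hx => Subtype.ext (e x hx)

theorem npc_of_not_le (p2 : p ≠ 2) (P : Sylow p G) (hab : IsMulCommutative P)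
    (hi : CI (P : Subgroup G)) (N : Subgroup G) [hN : N.Normal] (h : ¬ (P : Subgroup G) ≤ N) :
    HasNormalPComplement p N := by
  refine hasNormalPComplement_of_le (le_sup_left (b := (P : Subgroup G)))
    (hasNormalPComplement_of_normalizer_le_centralizer (P.subtype le_sup_right) fun n hn => ?_)
  rcases hi.subgroupOf le_sup_right n hn with e | e
  · exact mem_cent e
  exfalso
  refine h fun y hy => ?_
  obtain ⟨a, ha, x, hx, ax⟩ := (mem_sup_of_normal_left ..).1 n.2
  have e1 : n.1 * y * n.1⁻¹ = y⁻¹ :=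
    congrArg Subtype.val (e ⟨y, (le_sup_right : _ ≤ N ⊔ P) hy⟩ hy)
  have c : x * y = y * x := congrArg Subtype.val (hab.1.1 ⟨x, hx⟩ ⟨y, hy⟩)
  rw [← ax, show a * x * y * (a * x)⁻¹ = a * (x * y * x⁻¹) * a⁻¹ by group, c,
    mul_inv_cancel_right] at e1
  have e2 : y ^ 2 ∈ N := by
    have := mul_mem (hN.conj_mem a⁻¹ (inv_mem ha) y) ha
    have h3 := mul_mem (inv_mem ha) (hN.conj_mem a ha y⁻¹)
    rw [show y ^ 2 = a * (y⁻¹ * a⁻¹ * y⁻¹⁻¹) by rw [← mul_assoc, ← mul_assoc, show
      a * y⁻¹ * a⁻¹ = (a * y * a⁻¹)⁻¹ by group, e1, inv_inv, pow_two]]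
    exact mul_mem ha (hN.conj_mem _ (inv_mem ha) _)
  obtain ⟨k, hk⟩ := exists_orderOf_eq_pow_of_mem hp.out P.isPGroup' hy
  have : (orderOf y).Coprime 2 :=
    hk ▸ ((Nat.coprime_primes hp.out Nat.prime_two).2 p2).pow_left k
  obtain ⟨m, hm⟩ := exists_pow_eq_self_of_coprime this.symm
  rw [← hm]
  exact pow_mem e2 m

theorem main (p2 : p ≠ 2) (n : ℕ) : ∀ (G : Type u) [Group G] [Finite G] (P : Sylow p G),
    Nat.card G = n → IsMulCommutative P → ¬ IsCyclic P → CI (P : Subgroup G) →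
    PLengthLE p 1 G := by
  induction n using Nat.strong_induction_on with | _ n ih => ?_
  intro G _ _ P hG hab hn hi
  have sub : ∀ (N : Subgroup G) [N.Normal], N ≠ ⊤ → (P : Subgroup G) ≤ N → PLengthLE p 1 G :=
    fun N _ h1 h2 => by
      have e : P.subtype h2 ≃* P := subgroupOfEquivOfLe h2
      refine PLengthLE.of_normal_index N (fun h => P.not_dvd_index (h.trans (index_dvd_of_le h2)))
        (ih _ (hG ▸ card_lt_of_ne_top N h1) N (P.subtype h2) rfl
          ⟨⟨fun a b => e.injective (by rw [map_mul, map_mul, hab.1.1])⟩⟩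
          (fun h => hn (e.isCyclic.1 h)) (hi.subgroupOf h2))
  by_cases hO : pPrimeCore p G = ⊥
  swap
  · have hf := QuotientGroup.mk'_surjective (pPrimeCore p G)
    have e' : P ≃* (P : Subgroup G).map (QuotientGroup.mk' (pPrimeCore p G)) :=
      MulEquiv.ofBijective (((QuotientGroup.mk' _).subgroupMap _)) ⟨by
        rw [injective_iff_map_eq_one]
        intro a ha
        have h1 : a.1 ∈ pPrimeCore p G := (QuotientGroup.eq_one_iff _).1 (congrArg Subtype.val ha)
        exact Subtype.ext ((disjoint_pPrimeCore_of_isPGroup P.isPGroup').le_bot ⟨a.2, h1⟩),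
        MonoidHom.subgroupMap_surjective _ _⟩
    have e : P ≃* P.mapSurjective hf := e'
    refine PLengthLE.of_quotient_pPrime _ (pPrimeCore_coprime p)
      (ih _ (hG ▸ card_quotient_lt _ hO) _ (P.mapSurjective hf) rfl
        ⟨⟨fun a b => e.symm.injective (by rw [map_mul, map_mul, hab.1.1])⟩⟩
        (fun h => hn (e.isCyclic.2 h)) fun m hm => ?_)
    obtain ⟨m, h1, rfl⟩ := Isaacs.normalizer_map_sylow hf P hm
    refine (hi m h1).imp (fun h => ?_) fun h => ?_ <;> rintro _ ⟨x, hx, rfl⟩ <;>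
      rw [← map_inv, ← map_mul, ← map_mul, h x hx]
    rw [map_inv]
  have : Nontrivial G := by
    by_contra h
    rw [not_nontrivial_iff_subsingleton] at h
    exact hn isCyclic_of_subsingleton
  by_cases hs : IsSimpleGroup G
  · exact plen_of_npc (simple_case p2 P hab hn hi)
  obtain ⟨N, hN, N1, N2⟩ : ∃ N : Subgroup G, N.Normal ∧ N ≠ ⊥ ∧ N ≠ ⊤ := by
    by_contra h
    push Not at h
    exact hs ⟨fun N hN => or_iff_not_imp_left.2 (h N hN)⟩
  by_cases hP : (P : Subgroup G) ≤ N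
  · exact sub N N2 hP
  have hNp : IsPGroup p N := by
    refine isPGroup_of_pResidual_eq_bot (le_bot_iff.1 ?_)
    have := le_pPrimeCore (pResidual_normal (p := p) (G := N)) (Nat.coprime_comm.1
      ((Nat.Prime.coprime_iff_not_dvd hp.out).2
        (hasNormalPComplement_iff_not_dvd.1 (npc_of_not_le p2 P hab hi N hP))))
    rwa [pPrimeCore_eq_subgroupOf, hO, bot_subgroupOf] at this
  have NP : N ≤ P := hNp.le_sylow_of_normal P
  by_cases hC : centralizer (N : Set G) = ⊤
  · refine plen_of_npc (hasNormalPComplement_of_normalizer_le_centralizer P fun m hm =>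
      mem_cent ((hi m hm).resolve_right fun h => ?_))
    obtain ⟨⟨x, hx⟩, x1⟩ := ne_bot_iff_exists_ne_one.1 N1
    refine x1 (Subtype.ext (eq_one_of_inv p2 hNp hx ?_))
    rw [← h x (NP hx), of_mem_cent (hC ▸ mem_top m) x hx]
  · exact sub _ hC fun x hx y hy => congrArg Subtype.val (hab.1.1 ⟨y, NP hy⟩ ⟨x, hx⟩)

theorem ci_of_index (P : Sylow p G) (hab : IsMulCommutative P) (h : pResidual p G = ⊤)
    (hidx : ((centralizer ((P : Subgroup G) : Set G)).subgroupOf
      (normalizer ((P : Subgroup G) : Set G))).index = 2) : CI (P : Subgroup G) := by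
  intro n hn
  by_cases hc : n ∈ centralizer ((P : Subgroup G) : Set G)
  · exact Or.inl (of_mem_cent hc)
  refine Or.inr fun x hx => ?_
  have h1 := (fitting_decomposition_sylow P).1
  rw [h, inf_top_eq, ← inf_assoc, inf_idem] at h1
  have hx' : n * x * n⁻¹ ∈ (P : Subgroup G) := (mem_normalizer_iff.1 hn x).1 hx
  have two : ∀ m ∈ normalizer ((P : Subgroup G) : Set G),
      m ∉ centralizer ((P : Subgroup G) : Set G) →
        m * n ∈ centralizer ((P : Subgroup G) : Set G) := fun m hm h =>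
    (mul_mem_iff_of_index_two hidx (a := ⟨m, hm⟩) (b := ⟨n, hn⟩)).2 (iff_of_false h hc)
  refine eq_inv_of_mul_eq_one_left (h1.le ⟨mul_mem hx' hx, fun m hm => ?_⟩)
  by_cases hm' : m ∈ centralizer ((P : Subgroup G) : Set G)
  · exact (hm' _ (mul_mem hx' hx)).symm
  have e1 := of_mem_cent (two m hm hm') x hx
  have e2 : m * x * m⁻¹ = n * x * n⁻¹ := by
    have := of_mem_cent (two m⁻¹ (inv_mem hm) (by simpa using hm')) x hx
    conv_lhs => rw [← this]
    group
  have c : n * x * n⁻¹ * x = x * (n * x * n⁻¹) :=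
    congrArg Subtype.val (hab.1.1 ⟨_, hx'⟩ ⟨x, hx⟩)
  rw [← mul_inv_eq_iff_eq_mul, show m * (n * x * n⁻¹ * x) * m⁻¹ =
    m * n * x * (m * n)⁻¹ * (m * x * m⁻¹) by group, e1, e2, c]

end Cfsg.Agent.ST
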