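import Mathlib
import Cfsg.Agent.FGS.Basic
import Cfsg.Agent.FGS.Solv
import Cfsg.Agent.FGS.SylowNum
import Cfsg.Agent.Core.Fitting
import Cfsg.Agent.Core.Super
import Cfsg.Agent.PGrp.IndexP
import Cfsg.Agent.Transfer.Focal
import Cfsg.Agent.S3778

set_option autoImplicit false
open Cfsg

namespace Cfsg.Agent.Inv.SqF

open Subgroup
open scoped commutatorElement Pointwise

variable {G : Type*} [Group G]

theorem eq_one_of_coprime [Finite G] {p : ℕ} [hp : Fact p.Prime] {P : Subgroup G} (hP : IsPGroup p P)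
    {c : G} (hc : c ∈ P) (h : (orderOf c).Coprime p) : c = 1 := by
  obtain ⟨k, hk⟩ := FGS.exists_orderOf_eq_of_mem hP hc
  rw [← orderOf_eq_one_iff]
  have h2 : (orderOf c).Coprime (orderOf c) := by
    nth_rewrite 2 [hk]
    exact h.pow_right k
  exact Nat.coprime_self _ |>.mp h2

theorem comm_eq_one [Finite G] {p : ℕ} [Fact p.Prime] {P : Subgroup G} [hn : P.Normal]
    (hP : IsPGroup p P) {a x : G} (ha : (orderOf a).Coprime p) (hx : x ∈ P)
    (h : Commute ⁅a, x⁆ a) : ⁅a, x⁆ = 1 := by
  set c := ⁅a, x⁆ with hc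
  have hcP : c ∈ P := by
    rw [hc, commutatorElement_def]
    exact P.mul_mem (hn.conj_mem x hx a) (P.inv_mem hx)
  have h1 : a * x = c * x * a := by rw [hc, commutatorElement_def]; group
  have h2 : ∀ n : ℕ, a ^ n * x = c ^ n * x * a ^ n := by
    intro n
    induction n with
    | zero => simp
    | succ n ih =>
      have h3 : a * c ^ n = c ^ n * a := (h.symm.pow_right n).eq
      calc a ^ (n + 1) * x = a * (a ^ n * x) := by rw [pow_succ', mul_assoc]
        _ = (a * c ^ n) * x * a ^ n := by rw [ih]; group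
        _ = c ^ n * (a * x) * a ^ n := by rw [h3]; group
        _ = c ^ (n + 1) * x * a ^ (n + 1) := by rw [h1, pow_succ, pow_succ' a]; group
  have h4 := h2 (orderOf a)
  rw [pow_orderOf_eq_one, one_mul, mul_one] at h4
  have h5 : c ^ orderOf a = 1 := by simpa using h4.symm
  exact eq_one_of_coprime hP hcP (Nat.Coprime.coprime_dvd_left (orderOf_dvd_of_pow_eq_one h5) ha)

theorem exists_cyc [Finite G] {p : ℕ} [hp : Fact p.Prime] (N : Subgroup G) [N.Normal]
    (h : Nat.card N ∣ p) : ∃ x : G, centralizer (N : Set G) ⊔ zpowers x = ⊤ := by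
  rcases (Nat.dvd_prime hp.out).mp h with h1 | h1
  · refine ⟨1, ?_⟩
    rw [card_eq_one.mp h1]
    simp
  · haveI : IsCyclic (MulAut N) := FGS.isCyclic_mulAut_of_prime (h1 ▸ hp.out)
    set f : G →* MulAut N := MulAut.conjNormal with hf
    obtain ⟨⟨_, x, rfl⟩, hx⟩ := IsCyclic.exists_generator (α := f.range)
    refine ⟨x, eq_top_iff.mpr fun g _ => ?_⟩
    obtain ⟨n, hn⟩ := mem_zpowers_iff.mp (hx ⟨f g, g, rfl⟩)
    have hn' : f x ^ n = f g := congrArg Subtype.val hn
    have h2 : f (g * (x ^ n)⁻¹) = 1 := by rw [map_mul, map_inv, map_zpow, hn', mul_inv_cancel]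
    have h3 : g * (x ^ n)⁻¹ ∈ centralizer (N : Set G) := by
      intro y hy
      have := congrArg (fun e : MulAut N => ((e ⟨y, hy⟩ : N) : G)) h2
      simp only [hf, MulAut.conjNormal_apply, MulAut.one_apply] at this
      exact (mul_inv_eq_iff_eq_mul.mp this).symm
    have h4 := mul_mem_sup h3 (zpow_mem_zpowers x n)
    simpa using h4

theorem le_pCore [Finite G] {p : ℕ} [hp : Fact p.Prime]
    (hC : centralizer (pCore p G : Set G) ≤ pCore p G) (K : Subgroup G) [hK : K.Normal]
    (h : ∀ a ∈ K, ∀ x ∈ pCore p G, Commute ⁅a, x⁆ a) : K ≤ pCore p G := by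
  haveI := Core.pCore_characteristic (G := G) p
  refine Core.le_pCore hK fun ⟨g, hg⟩ => ?_
  obtain ⟨a, b, -, hb, hab, -, ⟨k, hk⟩, hb'⟩ := FGS.exists_pPart p g
  have hbK : b ∈ K := (zpowers_le.mpr hg) hb
  have h1 : b ∈ pCore p G := hC fun x hx =>
    (commutatorElement_eq_one_iff_mul_comm.mp
      (comm_eq_one (Core.pCore_isPGroup p) hb' hx (h b hbK x hx))).symm
  have h2 := eq_one_of_coprime (Core.pCore_isPGroup p) h1 hb'
  refine ⟨k, Subtype.ext ?_⟩
  simp [hab, h2, ← hk]

/-- The commutator map `x ↦ ⁅g, x⁆` on `P`. -/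
def cm (P : Subgroup G) (hc : ∀ g : G, ∀ y ∈ P, ⁅g, y⁆ ∈ centralizer (P : Set G)) (g : G) :
    P →* G := MonoidHom.mk' (fun x => ⁅g, (x : G)⁆) (by
  intro x y
  have h := hc g y y.2 x x.2
  simp only [coe_mul]
  calc ⁅g, (x : G) * y⁆ = ⁅g, (x : G)⁆ * ((x : G) * ⁅g, (y : G)⁆) * (x : G)⁻¹ := by
        simp only [commutatorElement_def]; group
    _ = _ := by rw [h]; group)

theorem ker_cm (P : Subgroup G) (hc : ∀ g : G, ∀ y ∈ P, ⁅g, y⁆ ∈ centralizer (P : Set G)) (g : G) :
    (cm P hc g).ker = (centralizer ({g} : Set G)).subgroupOf P := by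
  ext x
  rw [MonoidHom.mem_ker, mem_subgroupOf, mem_centralizer_singleton_iff]
  exact commutatorElement_eq_one_iff_mul_comm.trans eq_comm

theorem eq_of_le_of_index {H : Type*} [Group H] [Finite H] {p : ℕ} (hp : p.Prime) {A B : Subgroup H}
    (hAB : A ≤ B) (hA : A.index ∣ p) (hB : B ≠ ⊤) : A = B := by
  have h1 := relIndex_mul_index hAB
  have h2 : B.index ∣ p := (index_dvd_of_le hAB).trans hA
  have h3 : B.index = p := ((Nat.dvd_prime hp).mp h2).resolve_left fun h => hB (index_eq_one.mp h)
  rw [← h1, h3] at hA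
  have h4 : A.relIndex B = 1 := by
    have := Nat.dvd_of_mul_dvd_mul_right hp.pos (by simpa using hA : A.relIndex B * p ∣ 1 * p)
    exact Nat.dvd_one.mp this
  exact le_antisymm hAB (relIndex_eq_one.mp h4)

theorem dichotomy [Finite G] {p : ℕ} [hp : Fact p.Prime] (P : Subgroup G)
    (hc : ∀ g : G, ∀ y ∈ P, ⁅g, y⁆ ∈ centralizer (P : Set G))
    (hi : ∀ g : G, (centralizer ({g} : Set G)).relIndex P ∣ p) :
    (∃ L : Subgroup G, Nat.card L ∣ p ∧ ∀ g : G, ∀ x ∈ P, ⁅g, x⁆ ∈ L) ∨
      ∃ C : Subgroup G, C ≤ P ∧ C.relIndex P ∣ p ∧ C ≤ center G := by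
  set φ := cm P hc with hφ
  have hker : ∀ g, (φ g).ker.index ∣ p := fun g => by rw [hφ, ker_cm]; exact hi g
  have hran : ∀ g, Nat.card (φ g).range ∣ p := fun g => by rw [← index_ker]; exact hker g
  have pair : ∀ g h, (φ g).ker ≠ ⊤ → (φ h).ker ≠ ⊤ → (φ g).ker ≠ (φ h).ker →
      (φ g).range ≤ (φ h).range := by
    intro g h hg hh hgh
    by_contra hne
    have h1 : (φ g).range ⊓ (φ h).range = ⊥ := by
      have h2 : Nat.card ((φ g).range ⊓ (φ h).range : Subgroup G) ∣ p :=
        (card_dvd_of_le inf_le_left).trans (hran g)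
      rcases (Nat.dvd_prime hp.out).mp h2 with h3 | h3
      · exact card_eq_one.mp h3
      · exfalso
        apply hne
        have h4 : (φ g).range ⊓ (φ h).range = (φ g).range :=
          eq_of_le_of_card_ge inf_le_left (h3 ▸ Nat.le_of_dvd hp.out.pos (hran g))
        exact inf_eq_left.mp h4
    have h5 : (φ (h⁻¹ * g)).ker ≤ (φ g).ker ⊓ (φ h).ker := by
      intro x hx
      have hx' : ⁅h⁻¹ * g, (x : G)⁆ = 1 := hx
      have h6 : φ g x = φ h x := by
        change ⁅g, (x : G)⁆ = ⁅h, (x : G)⁆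
        rw [commutatorElement_eq_one_iff_mul_comm] at hx'
        have : g * x = h * x * h⁻¹ * g := by
          calc g * x = h * (h⁻¹ * g * x) := by group
            _ = _ := by rw [hx']; group
        simp only [commutatorElement_def]
        rw [this]; group
      have h7 : φ g x ∈ (φ g).range ⊓ (φ h).range := ⟨⟨x, rfl⟩, ⟨x, h6.symm⟩⟩
      rw [h1, mem_bot] at h7
      exact ⟨h7, (h6 ▸ h7 : φ h x = 1)⟩
    exact hgh ((eq_of_le_of_index hp.out (h5.trans inf_le_left) (hker _) hg).symm.trans
      (eq_of_le_of_index hp.out (h5.trans inf_le_right) (hker _) hh))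
  by_cases h : ∃ g h, (φ g).ker ≠ ⊤ ∧ (φ h).ker ≠ ⊤ ∧ (φ g).ker ≠ (φ h).ker
  · obtain ⟨g, h, hg, hh, hgh⟩ := h
    refine Or.inl ⟨(φ g).range, hran g, fun w x hx => ?_⟩
    by_cases hw : (φ w).ker = ⊤
    · have : (⟨x, hx⟩ : P) ∈ (φ w).ker := hw ▸ mem_top _
      have h2 : ⁅w, x⁆ = 1 := this
      rw [h2]; exact one_mem _
    have h2 : ⁅w, x⁆ ∈ (φ w).range := ⟨⟨x, hx⟩, rfl⟩
    by_cases hwg : (φ w).ker = (φ g).ker
    · exact pair h g hh hg hgh.symm (pair w h hw hh (hwg ▸ hgh) h2)
    · exact pair w g hw hg hwg h2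
  · push Not at h
    right
    by_cases h0 : ∃ g, (φ g).ker ≠ ⊤
    · obtain ⟨g, hg⟩ := h0
      refine ⟨centralizer {g} ⊓ P, inf_le_right, by rw [inf_relIndex_right]; exact hi g, ?_⟩
      rintro x ⟨hx1, hx2⟩
      rw [mem_center_iff]
      intro w
      have h1 : (⟨x, hx2⟩ : P) ∈ (φ w).ker := by
        by_cases hw : (φ w).ker = ⊤
        · exact hw ▸ mem_top _
        · rw [h w g hw hg, hφ, ker_cm]; exact hx1
      exact commutatorElement_eq_one_iff_mul_comm.mp h1
    · push Not at h0
      refine ⟨P, le_rfl, by simp, fun x hx => mem_center_iff.mpr fun w => ?_⟩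
      have h1 : (⟨x, hx⟩ : P) ∈ (φ w).ker := h0 w ▸ mem_top _
      exact commutatorElement_eq_one_iff_mul_comm.mp h1

theorem comm_of_pPrime [Finite G] {p : ℕ} [hp : Fact p.Prime] {P : Subgroup G} [hn : P.Normal]
    (hP : IsPGroup p P) (hi : ∀ g : G, (centralizer ({g} : Set G)).relIndex P ∣ p) {k : G}
    (hk : (orderOf k).Coprime p) (hkP : k ∉ centralizer (P : Set G)) :
    P ≤ centralizer (P : Set G) := by
  set C := centralizer ({k} : Set G) with hC
  have hCt : C.subgroupOf P ≠ ⊤ := by
    intro h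
    rw [subgroupOf_eq_top] at h
    exact hkP fun x hx => mem_centralizer_singleton_iff.mp (h hx)
  have hab : ∀ c ∈ C, c ∈ P → ∀ d ∈ C, d ∈ P → d * c = c * d := by
    intro c hc hcP d hd hdP
    obtain ⟨j, hj⟩ := FGS.exists_orderOf_eq_of_mem hP hcP
    have h1 := FGS.centralizer_mul_of_coprime (a := k) (b := c)
      (mem_centralizer_singleton_iff.mp hc).symm (hj ▸ hk.pow_right j)
    have h2 : (centralizer ({k * c} : Set G)).subgroupOf P = C.subgroupOf P :=
      eq_of_le_of_index hp.out (fun x hx => by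
        rw [mem_subgroupOf, h1] at hx; exact hx.1) (hi _) hCt
    have h3 : (⟨d, hdP⟩ : P) ∈ (centralizer ({k * c} : Set G)).subgroupOf P := h2 ▸ hd
    rw [mem_subgroupOf, h1] at h3
    exact mem_centralizer_singleton_iff.mp h3.2
  have hidx : (C.subgroupOf P).index = p :=
    ((Nat.dvd_prime hp.out).mp (hi k)).resolve_left fun h => hCt (index_eq_one.mp h)
  have hCn : (C.subgroupOf P).Normal := by
    haveI := hP.isNilpotent
    have hco : IsCoatom (C.subgroupOf P) := ⟨hCt, fun B hB => by
      by_contra hBt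
      exact hB.ne (eq_of_le_of_index hp.out hB.le (hi k) hBt)⟩
    exact NormalizerCondition.normal_of_coatom _ Group.normalizerCondition_of_isNilpotent hco
  obtain ⟨y, hyP, hy⟩ : ∃ y ∈ P, ⁅k, y⁆ ≠ 1 := by
    by_contra h
    push Not at h
    exact hkP fun x hx => (commutatorElement_eq_one_iff_mul_comm.mp (h x hx)).symm
  set d := ⁅k, y⁆ with hd
  have hdP : d ∈ P := by
    rw [hd, commutatorElement_def]
    exact P.mul_mem (hn.conj_mem y hyP k) (P.inv_mem hyP)
  have hdC : d ∉ C := fun h => hy (comm_eq_one hP hk hyP (mem_centralizer_singleton_iff.mp h))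
  have hdc : ∀ c ∈ C, c ∈ P → d * c = c * d := by
    intro c hc hcP
    have h1 : y⁻¹ * c * y ∈ C := by
      have := hCn.conj_mem' ⟨c, hcP⟩ hc ⟨y, hyP⟩
      exact this
    have h2 := mem_centralizer_singleton_iff.mp h1
    have h3 := mem_centralizer_singleton_iff.mp hc
    have h4 : d * c * d⁻¹ = c := by
      calc d * c * d⁻¹ = k * y * k⁻¹ * ((y⁻¹ * c * y) * k) * y⁻¹ * k⁻¹ := by
            rw [hd]; simp only [commutatorElement_def]; group
        _ = (k * c) * k⁻¹ := by rw [h2]; group
        _ = c := by rw [← h3]; group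
    exact mul_inv_eq_iff_eq_mul.mp h4
  have key : ∀ B : Subgroup G, (∀ c ∈ C, c ∈ P → c ∈ B) → d ∈ B → P ≤ B := by
    intro B h1 h2
    rw [← subgroupOf_eq_top]
    by_contra hB
    have h3 := eq_of_le_of_index hp.out (A := C.subgroupOf P) (fun x hx => h1 x hx x.2) (hi k) hB
    have h4 : (⟨d, hdP⟩ : P) ∈ C.subgroupOf P := h3 ▸ h2
    exact hdC h4
  refine key _ (fun c hc hcP x hx => ?_) fun x hx => ?_
  · exact mem_centralizer_singleton_iff.mp (key (centralizer {c})
      (fun e he heP => mem_centralizer_singleton_iff.mpr (hab c hc hcP e he heP))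
      (mem_centralizer_singleton_iff.mpr (hdc c hc hcP)) hx)
  · exact mem_centralizer_singleton_iff.mp (key (centralizer {d})
      (fun e he heP => mem_centralizer_singleton_iff.mpr (hdc e he heP).symm)
      (mem_centralizer_singleton_iff.mpr rfl) hx)

theorem card_commutator_dvd [Finite G] {p : ℕ} [hp : Fact p.Prime]
    (hC : centralizer (pCore p G : Set G) ≤ pCore p G)
    (h : ∀ g : G, ¬ p ^ 2 ∣ (centralizer ({g} : Set G)).index) :
    Nat.card (_root_.commutator G) ∣ p := by
  haveI := Core.pCore_characteristic (G := G) p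
  have hP := Core.pCore_isPGroup (G := G) p
  have hle := le_pCore hC
  set P := pCore p G with hPd
  have hi : ∀ g : G, (centralizer ({g} : Set G)).relIndex P ∣ p := by
    intro g
    obtain ⟨n, hn⟩ := hP.exists_card_eq
    have h1 : (centralizer ({g} : Set G)).relIndex P ∣ p ^ n := hn ▸ relIndex_dvd_card _ _
    obtain ⟨j, -, hj⟩ := (Nat.dvd_prime_pow hp.out).mp h1
    have h2 := FGS.relIndex_dvd_index_of_normal_right P (centralizer ({g} : Set G))
    rw [hj] at h2 ⊢
    rcases Nat.lt_or_ge j 2 with h3 | h3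
    · simpa using pow_dvd_pow p (show j ≤ 1 by omega)
    · exact absurd ((pow_dvd_pow p h3).trans h2) (h g)
  have hc : ∀ g : G, ∀ y ∈ P, ⁅g, y⁆ ∈ centralizer (P : Set G) := by
    by_cases hG : ∃ k : G, k ≠ 1 ∧ (orderOf k).Coprime p
    · obtain ⟨k, hk1, hk⟩ := hG
      have h1 := comm_of_pPrime hP hi hk fun h2 => hk1 (eq_one_of_coprime hP (hC h2) hk)
      intro g y hy
      apply h1
      rw [commutatorElement_def]
      exact P.mul_mem (Normal.conj_mem inferInstance y hy g) (P.inv_mem hy)
    · push Not at hG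
      have hG' : IsPGroup p G := by
        intro g
        obtain ⟨a, b, -, hb, hab, -, ⟨k, hk⟩, hb'⟩ := FGS.exists_pPart p g
        have hb1 : b = 1 := by
          by_contra hb1
          exact hG b hb1 hb'
        exact ⟨k, by simp [hab, hb1, ← hk]⟩
      have hT : P = ⊤ := Core.pCore_eq_top_iff.mpr hG'
      obtain ⟨c, hc1, hc2, -⟩ := S3778.result hG' 1 fun x => by
        have := hi x
        rw [hT, relIndex_top_right] at this
        simpa using Nat.le_of_dvd hp.out.pos this
      have hc3 : (⊤ : Subgroup G).lowerCentralSeries 2 = ⊥ :=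
        le_bot_iff.mp (hc1 ▸ Subgroup.lowerCentralSeries_antitone _ (by simpa using (hc2 one_ne_zero).2))
      intro g y _ z _
      have h1 : ⁅⁅g, y⁆, z⁆ ∈ (⊤ : Subgroup G).lowerCentralSeries 2 :=
        commutator_mem_commutator (commutator_mem_commutator (mem_top g) (mem_top y)) (mem_top z)
      rw [hc3, mem_bot] at h1
      exact (commutatorElement_eq_one_iff_mul_comm.mp h1).symm
  rcases dichotomy (p := p) P hc hi with ⟨L, hL, hL'⟩ | ⟨C, hCP, hCi, hCZ⟩
  · set M := ⁅(⊤ : Subgroup G), P⁆ with hM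
    have hML : M ≤ L := commutator_le.mpr fun g _ x hx => hL' g x hx
    have hMp : Nat.card M ∣ p := (card_dvd_of_le hML).trans hL
    obtain ⟨x, hx⟩ := exists_cyc M hMp
    have h1 : centralizer (M : Set G) ≤ P := hle _ fun a ha y hy =>
      ha _ (commutator_mem_commutator (mem_top a) hy)
    have h2 : P ⊔ zpowers x = ⊤ := eq_top_iff.mpr (hx ▸ sup_le_sup_right h1 _)
    refine (card_dvd_of_le ?_).trans hMp
    have h3 : ∀ y ∈ P, ∀ g : G ⧸ M, Commute g (y : G ⧸ M) := by
      intro y hy g
      obtain ⟨g, rfl⟩ := QuotientGroup.mk_surjective g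
      rw [← commutatorElement_eq_one_iff_commute]
      exact (QuotientGroup.eq_one_iff ⁅g, y⁆).mpr (commutator_mem_commutator (mem_top g) hy)
    rw [_root_.commutator_def, commutator_le]
    intro a _ b _
    obtain ⟨a1, ha1, a2, ha2, rfl⟩ := mem_sup_of_normal_left.mp (h2 ▸ mem_top a : a ∈ P ⊔ zpowers x)
    obtain ⟨b1, hb1, b2, hb2, rfl⟩ := mem_sup_of_normal_left.mp (h2 ▸ mem_top b : b ∈ P ⊔ zpowers x)
    obtain ⟨i, rfl⟩ := mem_zpowers_iff.mp ha2
    obtain ⟨j, rfl⟩ := mem_zpowers_iff.mp hb2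
    rw [← QuotientGroup.eq_one_iff]
    change ⁅((a1 : G ⧸ M) * (x : G ⧸ M) ^ i), ((b1 : G ⧸ M) * (x : G ⧸ M) ^ j)⁆ = 1
    rw [commutatorElement_eq_one_iff_commute]
    exact Commute.mul_left (h3 a1 ha1 _).symm
      (Commute.mul_right (h3 b1 hb1 _) (Commute.zpow_zpow_self _ _ _))
  · haveI hCn : C.Normal := ⟨fun c hc g => by
      rw [mem_center_iff.mp (hCZ hc) g]; simpa using hc⟩
    set N := P.map (QuotientGroup.mk' C) with hN
    haveI : N.Normal := Normal.map inferInstance _ (QuotientGroup.mk'_surjective C)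
    have hNc : Nat.card N = C.relIndex P := by
      rw [hN, ← relIndex_ker, QuotientGroup.ker_mk']
    obtain ⟨x, hx⟩ := exists_cyc N (hNc ▸ hCi)
    obtain ⟨x, rfl⟩ := QuotientGroup.mk'_surjective C x
    have h1 : (centralizer (N : Set (G ⧸ C))).comap (QuotientGroup.mk' C) ≤ P := hle _
      fun a ha y hy => by
        have h2 := ha _ (mem_map_of_mem (QuotientGroup.mk' C) hy)
        have h3 : ⁅a, y⁆ ∈ C := by
          rw [← QuotientGroup.eq_one_iff]
          exact commutatorElement_eq_one_iff_mul_comm.mpr h2.symm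
        exact (mem_center_iff.mp (hCZ h3) a).symm
    have h2 : P ⊔ zpowers x = ⊤ := by
      refine eq_top_iff.mpr fun g _ => ?_
      obtain ⟨u, hu, v, hv, huv⟩ := mem_sup_of_normal_left.mp
        (hx ▸ mem_top _ : QuotientGroup.mk' C g ∈ centralizer (N : Set (G ⧸ C)) ⊔
          zpowers (QuotientGroup.mk' C x))
      obtain ⟨i, rfl⟩ := mem_zpowers_iff.mp hv
      have h3 : g * (x ^ i)⁻¹ ∈ P := h1 (by
        rw [mem_comap, map_mul, map_inv, map_zpow, ← huv]; simpa using hu)
      simpa using mul_mem_sup h3 (zpow_mem_zpowers x i)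
    have h3 : IsMulCommutative P := by
      haveI : IsCyclic N := isCyclic_of_card_dvd_prime (hNc ▸ hCi)
      let f : P →* N := ((QuotientGroup.mk' C).comp P.subtype).codRestrict N
        fun y => mem_map_of_mem _ y.2
      refine MonoidHom.isMulCommutative_of_isCyclic_of_ker_le_center f fun y hy => ?_
      have h4 : (y : G) ∈ C := (QuotientGroup.eq_one_iff _).mp (congrArg Subtype.val hy)
      exact mem_center_iff.mpr fun z => Subtype.ext (mem_center_iff.mp (hCZ h4) z)
    have h4 := PGrp.card_eq_card_centralizer_mul_card_commutator h3 h2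
    have h5 : Nat.card C * C.relIndex P = Nat.card P := by
      rw [← relIndex_bot_left, ← relIndex_bot_left]; exact relIndex_mul_relIndex _ _ _ bot_le hCP
    obtain ⟨m, hm⟩ : Nat.card C ∣ Nat.card ↥(P ⊓ center G) := card_dvd_of_le (le_inf hCP hCZ)
    rw [← h5, hm, mul_assoc] at h4
    have h6 := Nat.eq_of_mul_eq_mul_left Nat.card_pos h4
    exact (Dvd.intro_left m h6.symm).trans hCi

theorem card_map_commutator_dvd [Finite G] [Group.IsSolvable G] {p : ℕ} [hp : Fact p.Prime]
    (h : ∀ g : G, ¬ p ^ 2 ∣ (centralizer ({g} : Set G)).index) :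
    (pPrimeCore p G).relIndex (_root_.commutator G) ∣ p := by
  haveI := Core.pPrimeCore_characteristic (G := G) p
  have hs := QuotientGroup.mk'_surjective (pPrimeCore p G)
  have h1 := card_commutator_dvd (G := G ⧸ pPrimeCore p G)
    (Core.centralizer_pCore_le p (Core.pPrimeCore_quotient_pPrimeCore p)) fun g => by
      obtain ⟨g, rfl⟩ := hs g
      exact fun h2 => h g (h2.trans (FGS.index_centralizer_map_dvd hs g))
  have h2 : _root_.commutator (G ⧸ pPrimeCore p G) =
      (_root_.commutator G).map (QuotientGroup.mk' (pPrimeCore p G)) := by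
    rw [_root_.commutator_def, _root_.commutator_def, map_commutator, map_top_of_surjective _ hs]
  rwa [h2, ← relIndex_ker, QuotientGroup.ker_mk'] at h1

theorem squarefree_commutator [Finite G] [Group.IsSolvable G]
    (h : ∀ g : G, Squarefree (centralizer ({g} : Set G)).index) :
    Squarefree (Nat.card (_root_.commutator G)) ∧ IsMulCommutative (_root_.commutator G) := by
  have h1 : ∀ p : ℕ, p.Prime → (pPrimeCore p G).relIndex (_root_.commutator G) ∣ p := by
    intro p hp
    haveI := Fact.mk hp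
    exact card_map_commutator_dvd fun g hg =>
      hp.one_lt.ne' (Nat.isUnit_iff.mp (h g p (by rwa [pow_two] at hg)))
  constructor
  · rw [Nat.squarefree_iff_prime_squarefree]
    intro p hp hd
    have h2 := ((pPrimeCore p G).subgroupOf (_root_.commutator G)).card_mul_index
    have h3 : (Nat.card ((pPrimeCore p G).subgroupOf (_root_.commutator G))).Coprime p :=
      Nat.Coprime.coprime_dvd_left (card_comap_dvd_of_injective _ _ (subtype_injective _))
        (Core.pPrimeCore_coprime p)
    rw [← h2] at hd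
    have h4 := ((h3.mul_right h3).symm.dvd_of_dvd_mul_left hd).trans (h1 p hp)
    exact hp.one_lt.ne' (Nat.dvd_one.mp (Nat.dvd_of_mul_dvd_mul_left hp.pos (by simpa using h4)))
  · rw [FGS.isMulCommutative_iff_forall]
    intro a ha b hb
    rw [← commutatorElement_eq_one_iff_mul_comm, ← orderOf_eq_one_iff]
    by_contra hne
    obtain ⟨p, hp, hd⟩ := Nat.exists_prime_and_dvd hne
    haveI := Fact.mk hp
    haveI := Core.pPrimeCore_characteristic (G := G) p
    set N := (_root_.commutator G).map (QuotientGroup.mk' (pPrimeCore p G)) with hN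
    have h2 : Nat.card N ∣ p := by
      rw [hN, ← relIndex_ker, QuotientGroup.ker_mk']; exact h1 p hp
    haveI : IsCyclic N := isCyclic_of_card_dvd_prime h2
    have h3 : ⁅a, b⁆ ∈ pPrimeCore p G := by
      rw [← QuotientGroup.eq_one_iff]
      exact commutatorElement_eq_one_iff_mul_comm.mpr (FGS.isMulCommutative_iff_forall.mp
        (inferInstance : IsMulCommutative N) _ (mem_map_of_mem _ ha) _ (mem_map_of_mem _ hb))
    exact Core.not_dvd_card_pPrimeCore hp (hd.trans (orderOf_dvd_natCard _ h3))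

theorem isCyclic_of_squarefree [Finite G] [IsMulCommutative G] (h : Squarefree (Nat.card G)) :
    IsCyclic G := by
  haveI := IsZGroup.of_squarefree h
  haveI : Group.IsNilpotent G := by
    letI : CommGroup G := { (inferInstance : Group G) with mul_comm := mul_comm' }
    infer_instance
  infer_instance

/-- A normal cyclic subgroup of square-free order is centralized by the Fitting subgroup. -/
theorem fitting_le_centralizer [Finite G] (N : Subgroup G) [N.Normal] [IsCyclic N]
    (h : Squarefree (Nat.card N)) : fittingSubgroup G ≤ centralizer (N : Set G) := by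
  haveI := Core.fitting_normal (G := G)
  intro f hf x hx
  have : x ∈ centralizer ({f} : Set G) := by
    refine FGS.mem_of_forall_prime _ fun p hp => ?_
    haveI := Fact.mk hp
    obtain ⟨P⟩ : Nonempty (Sylow p N) := inferInstance
    have hPn : (P : Subgroup N).Normal := inferInstance
    haveI := P.characteristic_of_normal hPn
    set L := (P : Subgroup N).map N.subtype with hL
    haveI hLn : L.Normal := ConjAct.normal_of_characteristic_of_normal
    have hLc : Nat.card L ∣ p := by
      rw [hL, card_map_of_injective (subtype_injective _), P.card_eq_multiplicity]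
      simpa using pow_dvd_pow p (h.natFactorization_le_one p)
    refine ⟨(P : Subgroup N).index, P.not_dvd_index, ?_⟩
    have h1 : x ^ (P : Subgroup N).index ∈ L := mem_map_of_mem N.subtype (pow_index_mem (P : Subgroup N) ⟨x, hx⟩)
    have hLF : L ≤ fittingSubgroup G :=
      Core.le_fitting_of_isMulCommutative hLn
        (by haveI : IsCyclic L := isCyclic_of_card_dvd_prime hLc
            infer_instance)
    have h2 : ⁅L, fittingSubgroup G⁆ = ⊥ := by
      haveI := Core.fitting_nilpotent (G := G)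
      rcases (Nat.dvd_prime hp).mp ((card_dvd_of_le (commutator_le_left L (fittingSubgroup G))).trans hLc)
        with h3 | h3
      · exact card_eq_one.mp h3
      · have h4 : ⁅L, fittingSubgroup G⁆ = L := eq_of_le_of_card_ge (commutator_le_left _ _)
          (h3 ▸ Nat.le_of_dvd hp.pos hLc)
        have h5 := Transfer.eq_bot_of_le_commutator hLF h4.ge
        rw [h5]; simp
    have h3 := commutator_mem_commutator h1 hf
    rw [h2, mem_bot, commutatorElement_eq_one_iff_mul_comm] at h3
    exact mem_centralizer_singleton_iff.mpr h3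
  exact mem_centralizer_singleton_iff.mp this

end Cfsg.Agent.Inv.SqF
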