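import Mathlib
import Cfsg.Agent.FGS.FT
import Cfsg.Agent.Perm.FC6
import Cfsg.Agent.Core.SylowOf
import Cfsg.Agent.Core.Coprime2
import Cfsg.Agent.BG.Rank2
import Cfsg.Agent.BG.AmbHall2

/-! TI-subgroups that are Hall in their normaliser. -/

set_option autoImplicit false
open Cfsg

namespace Cfsg.Agent.Inv.TIH

open Subgroup
open scoped commutatorElement Pointwise IsMulCommutative

variable {G : Type*} [Group G] {H : Subgroup G}

theorem norm_le (hTI : IsTISubset (H : Set G)) {P : Subgroup G} (hP : P ≤ H) (h1 : P ≠ ⊥) :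
    normalizer (P : Set G) ≤ normalizer (H : Set G) := fun g hg => by
  by_contra h
  exact h1 (eq_bot_iff.mpr fun x hx => hTI g h x (hP hx) (hP ((mem_normalizer_iff.mp hg x).mp hx)))

theorem mem_norm (hTI : IsTISubset (H : Set G)) {h g : G} (hh : h ∈ H) (h1 : h ≠ 1)
    (hg : g * h * g⁻¹ ∈ H) : g ∈ normalizer (H : Set G) := by
  by_contra hn
  exact h1 (hTI g hn h hh hg)

theorem hall [Finite G] (hTI : IsTISubset (H : Set G))
    (hH : (Nat.card H).Coprime (H.relIndex (normalizer (H : Set G)))) :
    (Nat.card H).Coprime H.index := by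
  refine Nat.coprime_of_dvd fun p hp h1 h2 => ?_
  haveI := Fact.mk hp
  obtain ⟨P, hP⟩ := Core.exists_isSylowOf p H
  have h3 := hP.trans le_normalizer fun h => hp.one_lt.ne' (Nat.eq_one_of_dvd_coprimes hH h1 h)
  have h4 : Core.IsSylowOf p P ⊤ := (h3.of_le (le_inf le_top le_normalizer)
    (inf_le_right.trans (norm_le hTI hP.le (hP.ne_bot h1)))).of_normalizer
  exact h4.not_dvd (by rw [relIndex_top_right]; exact h2.trans (index_dvd_of_le hP.le))

theorem core_mem [Finite G] (H : Subgroup G) :
    sSup {K : Subgroup G | K.Normal ∧ (Nat.card K).Coprime (Nat.card H)} ∈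
      {K : Subgroup G | K.Normal ∧ (Nat.card K).Coprime (Nat.card H)} := by
  refine Core.sSup_mem_of_sup_closed ⟨⊥, inferInstance, by simp⟩ fun A hA B hB => ?_
  haveI := hA.1
  haveI := hB.1
  exact ⟨inferInstance, (hA.2.mul_left hB.2).coprime_dvd_left
    (Core.card_sup_dvd le_normalizer_of_normal)⟩

theorem sup_eq_top [Finite G] (hTI : IsTISubset (H : Set G)) (h1 : H ≠ ⊥)
    (hH : (Nat.card H).Coprime H.index) {n : ℕ} (M : Fin (n + 1) → Subgroup G) (h0 : M 0 = ⊥)
    (hn : M (Fin.last n) = ⊤) (hm : Monotone M) (hN : ∀ i, (M i).Normal)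
    (hs : ∀ i : Fin n, (∀ q : ℕ, q.Prime → q ∣ (M i.castSucc).relIndex (M i.succ) → q ∣ Nat.card H) ∨
      ((M i.castSucc).relIndex (M i.succ)).Coprime (Nat.card H))
    {O : Subgroup G} (hO : ∀ K : Subgroup G, K.Normal → (Nat.card K).Coprime (Nat.card H) → K ≤ O) :
    O ⊔ normalizer (H : Set G) = ⊤ := by
  by_contra hne
  have key : ∀ i, (Nat.card (M i)).Coprime (Nat.card H) := by
    intro i
    induction i using Fin.induction with
    | zero => simp [h0]
    | succ i ih =>
      have hle : M i.castSucc ≤ M i.succ := hm i.castSucc_lt_succ.le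
      rw [← Core.card_mul_relIndex hle]
      refine ih.mul_left ((hs i).elim (fun h => ?_) id)
      by_contra hc
      obtain ⟨p, hp, hp1, hp2⟩ := Nat.Prime.not_coprime_iff_dvd.mp hc
      haveI := Fact.mk hp
      haveI := hN i.succ
      haveI := hN i.castSucc
      obtain ⟨P, hP⟩ := Core.exists_isSylowOf p H
      have hP' := (hP.trans le_top (by
        rw [relIndex_top_right]
        exact fun h => hp.one_lt.ne' (Nat.eq_one_of_dvd_coprimes hH hp2 h))).inf_of_normal
        (N := M i.succ) le_top le_normalizer_of_normal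
      have h3 := norm_le hTI (inf_le_left.trans hP.le)
        (hP'.ne_bot (hp1.trans (Core.relIndex_dvd_card' _ _)))
      have h4 : (M i.succ).map (QuotientGroup.mk' (M i.castSucc)) ≤
          H.map (QuotientGroup.mk' (M i.castSucc)) := by
        haveI := Normal.map (hN i.succ) _ (QuotientGroup.mk'_surjective (M i.castSucc))
        refine Core.normal_le_of_coprime_index (Nat.Coprime.coprime_dvd_right
          (Core.index_map_dvd_index (QuotientGroup.mk'_surjective _) H) ?_)
        rw [← relIndex_ker, QuotientGroup.ker_mk']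
        exact Nat.coprime_of_dvd fun q hq hq1 hq2 =>
          hq.one_lt.ne' (Nat.eq_one_of_dvd_coprimes hH (h q hq hq1) hq2)
      rw [Subgroup.map_le_map_iff, QuotientGroup.ker_mk'] at h4
      refine hne (eq_top_iff.mpr (hP'.frattini_top.ge.trans (sup_le (h4.trans (sup_le ?_ ?_)) ?_)))
      · exact le_normalizer.trans le_sup_right
      · exact (hO _ inferInstance ih).trans le_sup_left
      · exact h3.trans le_sup_right
  have := key (Fin.last n)
  rw [hn] at this
  exact h1 (card_eq_one.mp (Nat.eq_one_of_dvd_coprimes this (card_dvd_of_le le_top) dvd_rfl))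

theorem normal_sup {O N K : Subgroup G} [O.Normal] (h : O ⊔ N = ⊤)
    (hK : N ≤ normalizer (K : Set G)) : (O ⊔ K).Normal :=
  Core.normal_of_le_normalizer (h ▸ sup_le (Core.le_normalizer_of_le le_sup_left)
    (Core.le_normalizer_sup le_normalizer_of_normal hK))

theorem isFC_aux [Finite G] (O H : Subgroup G) [O.Normal] (hs : Group.IsSolvable O)
    (hc : (Nat.card H).Coprime (Nat.card O))
    (hf : ∀ h ∈ H, h ≠ 1 → ∀ x ∈ O, h * x = x * h → ∀ y ∈ H, y * x = x * y)
    (hn : ¬ O ≤ centralizer (H : Set G)) : Perm.IsFC H := by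
  obtain ⟨U, ⟨hU, hUO, hUH⟩, hmin⟩ := exists_minimal_of_wellFoundedLT
    (fun U : Subgroup G => U.Normal ∧ U ≤ O ∧ ¬ U ≤ centralizer (H : Set G)) ⟨O, inferInstance, le_rfl, hn⟩
  have hsU := Core.solvable_of_le hUO hs
  have hcU := Core.coprime_of_le_right hc hUO
  have hlt := Core.commutator_lt_of_solvable hsU (by rintro rfl; exact hUH bot_le)
  have hM : ⁅U, U⁆ ≤ centralizer (H : Set G) := by
    by_contra h
    exact hlt.not_ge (hmin ⟨inferInstance, hlt.le.trans hUO, h⟩ hlt.le)
  set f := QuotientGroup.mk' ⁅U, U⁆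
  have hinj : Disjoint H f.ker := by
    rw [QuotientGroup.ker_mk']
    exact (Core.disjoint_of_coprime hcU).mono_right hlt.le
  have hn' : H.map f ≤ normalizer (U.map f : Set _) := Core.map_le_normalizer_map le_normalizer_of_normal f
  have hcomm : IsMulCommutative (U.map f) := by
    refine le_centralizer_iff_isMulCommutative.mp (Core.le_centralizer_iff_commutator_eq_bot.mpr ?_)
    rw [← map_commutator, Subgroup.map_eq_bot_iff, QuotientGroup.ker_mk']
  have hc' : (Nat.card (H.map f)).Coprime (Nat.card (U.map f)) :=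
    (hcU.coprime_dvd_left (Core.card_map_dvd _ _)).coprime_dvd_right (Core.card_map_dvd _ _)
  refine (Perm.isFC_of_semiregular (K := ⁅U.map f, H.map f⁆) (H := H.map f)
    (Core.le_normalizer_commutator hn' le_normalizer) ?_ ?_).of_injective (f.subgroupMap H) ?_
  · rintro _ ⟨h, hh, rfl⟩ h1
    rw [eq_bot_iff, ← Core.centralizer_inf_commutator_eq_bot _ _ hcomm hn' hc']
    refine le_inf ?_ inf_le_left
    have hz : zpowers h ≤ H := zpowers_le.mpr hh
    have e := Core.inf_centralizer_map_mk' (zpowers h) U ⁅U, U⁆ hlt.le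
      (Core.coprime_of_le_right (Core.coprime_of_le_left hcU hz) hlt.le)
      (Or.inr (Core.solvable_of_le hlt.le hsU))
    rw [MonoidHom.map_zpowers, zpowers_eq_closure, centralizer_closure] at e
    refine ((inf_le_inf_right _ (Core.commutator_le_of_le_normalizer hn')).trans e.le).trans ?_
    rintro _ ⟨x, hx, rfl⟩
    refine ⟨mem_map_of_mem f hx.1, ?_⟩
    rintro _ ⟨y, hy, rfl⟩
    rw [← map_mul, ← map_mul, hf h hh (by rintro rfl; exact h1 (map_one f)) x (hUO hx.1)
      (hx.2 h (mem_zpowers h)) y hy]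
  · rw [← map_commutator, Ne, Subgroup.map_eq_bot_iff, QuotientGroup.ker_mk']
    exact fun h => hUH (le_centralizer_iff.mp (Core.le_centralizer_of_commutator_le_of_centralizes H U _
      (Core.coprime_of_le_right hcU hlt.le) (le_centralizer_iff.mp hM) h))
  · refine (injective_iff_map_eq_one _).mpr fun x hx => Subtype.ext ?_
    exact disjoint_def.mp hinj x.2 (congrArg Subtype.val hx)

theorem isFC [Finite G] (hTI : IsTISubset (H : Set G)) {O : Subgroup G} [O.Normal]
    (hc : (Nat.card H).Coprime (Nat.card O)) (hn : ¬ O ≤ normalizer (H : Set G)) : Perm.IsFC H := by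
  have hsol := FGS.solvable_or_of_coprime hc
  by_contra hF
  refine hn ((Core.le_of_forall_isSylowOf_le O _ fun p hp _ => ?_).trans (centralizer_le_normalizer _))
  haveI := Fact.mk hp
  obtain ⟨P, hP, hHP⟩ := Core.exists_invariant_isSylowOf H O le_normalizer_of_normal hc hsol p
  refine ⟨P, hP, by_contra fun h => hF ?_⟩
  refine (isFC_aux (P.subgroupOf (normalizer (P : Set G))) (H.subgroupOf _)
    (Core.solvable_subgroupOf (Core.solvable_of_isPGroup hP.isPGroup)) ?_ ?_ ?_).of_equiv
    (subgroupOfEquivOfLe hHP)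
  · rw [Core.card_subgroupOf_of_le hHP, Core.card_subgroupOf_of_le le_normalizer]
    exact Core.coprime_of_le_right hc hP.le
  · intro h hh h1 x hx e y hy
    have e' : (h : G) * x = x * h := congrArg Subtype.val e
    have hxN := mem_norm hTI (g := x) (h := h) hh (fun h' => h1 (Subtype.ext h')) (by
      rw [← e', mul_inv_cancel_right]; exact hh)
    refine Subtype.ext (commutatorElement_eq_one_iff_mul_comm.mp
      (Core.eq_one_of_mem_of_coprime hc ?_ ?_))
    · rw [commutatorElement_def, mul_assoc, mul_assoc, ← mul_assoc (x : G)]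
      exact H.mul_mem hy ((mem_normalizer_iff.mp hxN _).mp (H.inv_mem hy))
    · exact O.mul_mem (‹O.Normal›.conj_mem _ (hP.le hx) _) (O.inv_mem (hP.le hx))
  · exact fun h' => h fun x hx y hy =>
      congrArg Subtype.val (h' (show (⟨x, le_normalizer hx⟩ : normalizer (P : Set G)) ∈ _ from hx)
        ⟨y, hHP hy⟩ hy)

theorem comm_of_zgroup [Finite G] [IsZGroup H] {Q : Subgroup G} (hQ : Q ≤ normalizer (H : Set G))
    (hc : (Nat.card Q).Coprime (Nat.card H)) : IsCyclic (⁅H, Q⁆ : Subgroup G) := by
  have hle := Core.commutator_le_of_le_normalizer hQ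
  have e := Core.commutator_commutator_eq Q H hQ hc (Or.inr inferInstance)
  have hn : Q ≤ normalizer ((⁅H, Q⁆ : Subgroup G) : Set G) :=
    Core.le_normalizer_commutator hQ le_normalizer
  generalize ⁅H, Q⁆ = D at *
  haveI : IsZGroup D := IsZGroup.of_injective (inclusion_injective hle)
  have hcyc : IsCyclic (⁅D, D⁆ : Subgroup G) := by
    rw [← Core.map_commutator_subtype]
    haveI := IsZGroup.isCyclic_commutator D
    exact isCyclic_of_surjective _ (D.subtype.subgroupMap_surjective _)
  have h1 : D ≤ centralizer ((⁅D, D⁆ : Subgroup G) : Set G) :=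
    e.ge.trans ((commutator_mono (Core.le_normalizer_commutator le_normalizer le_normalizer)
      (Core.le_normalizer_commutator hn hn)).trans
      (BG.Rank.commutator_normalizer_le_centralizer_of_isCyclic hcyc))
  haveI : Group.IsNilpotent D := by
    refine Subgroup.isNilpotent_of_ker_le_center Abelianization.of fun x hx => mem_center_iff.mpr fun y => ?_
    rw [Abelianization.ker_of] at hx
    exact Subtype.ext (h1 y.2 x (Core.map_commutator_subtype D ▸ mem_map_of_mem D.subtype hx)).symm
  infer_instance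

theorem commutator_le_cent [Finite G] [IsZGroup H] {Q : Subgroup G} (hQ : Q ≤ normalizer (H : Set G))
    (hc : (Nat.card Q).Coprime (Nat.card H)) : ⁅Q, Q⁆ ≤ centralizer (H : Set G) := by
  have hn : Q ≤ normalizer ((⁅H, Q⁆ : Subgroup G) : Set G) :=
    Core.le_normalizer_commutator hQ le_normalizer
  refine le_centralizer_iff.mp ((Core.commutator_sup_centralizer Q H hQ hc (Or.inr inferInstance)).ge.trans
    (sup_le (le_centralizer_iff.mp ((commutator_mono hn hn).trans
      (BG.Rank.commutator_normalizer_le_centralizer_of_isCyclic (comm_of_zgroup hQ hc))))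
      (inf_le_right.trans (centralizer_le (Core.commutator_le_of_le_normalizer le_normalizer)))))

theorem coprime_comm [Finite G] [IsZGroup H] (hF : Perm.IsFC H) {Q : Subgroup G}
    (hQ : Q ≤ normalizer (H : Set G)) (hc : (Nat.card Q).Coprime (Nat.card H)) :
    (Nat.card (H ⊓ centralizer (Q : Set G) : Subgroup G)).Coprime (Nat.card (⁅H, Q⁆ : Subgroup G)) := by
  have hle := Core.commutator_le_of_le_normalizer hQ
  haveI := comm_of_zgroup hQ hc
  have e := Core.centralizer_inf_commutator_eq_bot Q ⁅H, Q⁆ inferInstance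
    (Core.le_normalizer_commutator hQ le_normalizer) (Core.coprime_of_le_right hc hle)
  rw [Core.commutator_commutator_eq Q H hQ hc (Or.inr inferInstance)] at e
  refine Nat.coprime_of_dvd fun p hp h1 h2 => ?_
  haveI := Fact.mk hp
  obtain ⟨⟨x, hx⟩, ox⟩ := exists_prime_orderOf_dvd_card' p h1
  obtain ⟨⟨y, hy⟩, oy⟩ := exists_prime_orderOf_dvd_card' p h2
  rw [orderOf_mk] at ox oy
  obtain ⟨k, hk⟩ := hF.mem_zpowers_of_zgroup (x := ⟨y, hle hy⟩) (y := ⟨x, hx.1⟩)
    (by rwa [orderOf_mk, oy]) (by rw [orderOf_mk, orderOf_mk, ox, oy])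
  have hk' : y ^ k = x := congrArg Subtype.val hk
  have hxD : x ∈ ⁅H, Q⁆ := hk' ▸ zpow_mem hy k
  have : x = 1 := mem_bot.mp (e ▸ ⟨⟨hxD, hx.2⟩, hxD⟩)
  rw [this, orderOf_one] at ox
  exact hp.one_lt.ne ox

end Cfsg.Agent.Inv.TIH
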