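import Mathlib
import Cfsg.Agent.Gl23.Model
import Cfsg.Agent.Char.Virtual
import Cfsg.Agent.Char.IndRep

/-! Four generalized characters of `GL₂(3)` vanishing on the elements no power of which is `-1`. -/

set_option autoImplicit false
set_option maxRecDepth 100000

open scoped ComplexConjugate

namespace Cfsg.Agent.W3

open Cfsg.Agent.Comp Cfsg.Agent.Gl23 Cfsg.Agent.Char Matrix

abbrev R : Type := ℤ√(-2)

/-- a faithful representation of degree two, on the letters -/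
def tR : ℕ → GL (Fin 2) R
  | 0 => ⟨!![-1, 0; 0, -1], !![-1, 0; 0, -1], by decide, by decide⟩
  | 1 => ⟨!![⟨-1, -1⟩, -2; ⟨-1, 1⟩, ⟨1, 1⟩], !![⟨-1, -1⟩, -2; ⟨-1, 1⟩, ⟨1, 1⟩], by decide, by decide⟩
  | 2 => ⟨!![-1, 0; ⟨1, 1⟩, 1], !![-1, 0; ⟨1, 1⟩, 1], by decide, by decide⟩
  | 3 => ⟨!![-1, -1; 1, 0], !![0, 1; -1, -1], by decide, by decide⟩
  | 4 => ⟨!![0, 1; -1, -1], !![-1, -1; 1, 0], by decide, by decide⟩
  | _ + 5 => 1

theorem sat_tR : Sat tR RC := by
  have : ∀ w ∈ RC, (ev tR w).1 0 0 = 1 ∧ (ev tR w).1 0 1 = 0 ∧ (ev tR w).1 1 0 = 0 ∧ (ev tR w).1 1 1 = 1 := by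
    decide +kernel
  refine fun w hw => Units.ext (Matrix.ext fun i j => ?_)
  obtain ⟨h1, h2, h3, h4⟩ := this w hw
  fin_cases i <;> fin_cases j <;> assumption

/-- the class of a code: `1`, `-1`, other involutions, orders `3`, `6`, `4`, `8`, `8` -/
def cl (n : ℕ) : Fin 8 :=
  let t := (n % 3 + n / 27) % 3
  if (n % 3 * (n / 27) + 2 * (n / 3 % 3 * (n / 9 % 3))) % 3 = 1 then
    if t = 0 then 5 else if n = 28 then 0 else if n = 56 then 1 else if t = 2 then 3 else 4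
  else if t = 0 then 2 else if t = 1 then 7 else 6

def c (m : M) : Fin 8 := cl (code m)

theorem c_ev (w : List ℕ) : c (ev s0 w) = cl (cd w) := by rw [c, code_ev]

def T : Fin 8 → R := ![2, -2, 0, -1, 1, 0, ⟨0, 1⟩, ⟨0, -1⟩]
def D : Fin 8 → R := ![1, 1, -1, 1, 1, 1, -1, -1]

noncomputable def L : R →+* ℂ := Zsqrtd.lift ⟨(Real.sqrt 2 : ℝ) * Complex.I, by
  have : ((Real.sqrt 2 : ℝ) : ℂ) * (Real.sqrt 2 : ℝ) = 2 := by
    rw [← Complex.ofReal_mul, Real.mul_self_sqrt (by norm_num)]; norm_num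
  push_cast
  linear_combination Complex.I ^ 2 * this + 2 * Complex.I_sq⟩

theorem conj_L (a : R) : conj (L a) = L (star a) := by
  simp [L, Zsqrtd.lift_apply_apply]

theorem exists_chars : IsCharacter M (fun m => L (T (c m))) ∧ IsCharacter M (fun m => L (D (c m))) := by
  obtain ⟨φ, h1, -⟩ := isPres_s0.lift RC_lt tR sat_tR
  have h2 : ∀ w ∈ E, φ (ev s0 w) = ev tR w := fun w hw => by
    rw [map_ev]
    exact congrArg List.prod (List.map_congr_left fun a ha => h1 a (E_lt w hw a ha))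
  have h3 : ∀ w ∈ E, (ev tR w).1 0 0 + (ev tR w).1 1 1 = T (cl (cd w)) ∧
      (ev tR w).1 0 0 * (ev tR w).1 1 1 - (ev tR w).1 0 1 * (ev tR w).1 1 0 = D (cl (cd w)) := by
    decide +kernel
  constructor
  · have := IndRep.isChar_of_matrix (L.mapMatrix.toMonoidHom.comp ((Units.coeHom _).comp φ))
    convert this using 2 with m
    obtain ⟨w, hw, rfl⟩ := exists_word m
    change _ = (L.mapMatrix (φ (ev s0 w)).1).trace
    rw [h2 w hw, c_ev, ← (h3 w hw).1, Matrix.trace_fin_two, map_add]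
    rfl
  · have := isChar_linear ((Units.map L.toMonoidHom).comp (Matrix.GeneralLinearGroup.det.comp φ))
    convert this using 2 with m
    obtain ⟨w, hw, rfl⟩ := exists_word m
    change _ = L (Matrix.det (φ (ev s0 w)).1)
    rw [h2 w hw, c_ev, ← (h3 w hw).2, Matrix.det_fin_two]

/-- the four class functions -/
def Θ : Fin 4 → Fin 8 → R :=
  ![![0, 4, 0, 0, -2, 2, ⟨0, 1⟩, ⟨0, -1⟩], ![0, 8, 0, 0, 2, 0, 2, 2], ![0, 8, 0, 0, 2, 0, -2, -2],
    ![0, 4, 0, 0, 4, 2, ⟨0, 1⟩, ⟨0, -1⟩]]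

theorem gen (j : Fin 4) : IsGeneralizedCharacter M (fun m => L (Θ j (c m))) := by
  let f : (Fin 8 → R) →+* (M → ℂ) := RingHom.pi fun m => L.comp (Pi.evalRingHom _ (c m))
  have hT : T ∈ (genCharSubring M).comap f := isChar_isGenChar exists_chars.1
  have hD : D ∈ (genCharSubring M).comap f := isChar_isGenChar exists_chars.2
  have e : ∀ j, Θ j = ![(T * T - D) * (T * T - D) - T * T + D - D * (T * T) - D * T,
      D * (T * T) - T * (T * T) + D * T + D * T, T * T - T * (T * T) + D * T + D * T,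
      1 + D + T - T * (T * T) + D * T + D * T] j := by decide +kernel
  have : Θ j ∈ (genCharSubring M).comap f := by
    rw [e]
    generalize (genCharSubring M).comap f = S at hT hD
    fin_cases j <;> simp only [Matrix.cons_val, Fin.zero_eta, Fin.mk_one, Fin.reduceFinMk] <;>
      repeat' first | assumption | exact S.one_mem | apply S.mul_mem | apply S.sub_mem | apply S.add_mem
  exact this

def sz : Fin 8 → ℕ := ![1, 1, 12, 8, 8, 6, 6, 6]

theorem sum_M [Fintype M] {A : Type*} [AddCommMonoid A] (f : M → A) :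
    ∑ m, f m = (E.map fun w => f (ev s0 w)).sum := by
  classical
  have h1 : (E.map (ev s0)).Nodup := List.Nodup.of_map code (by
    rw [List.map_map]; convert E_nodup using 2 with w; exact funext code_ev)
  have h2 : (E.map (ev s0)).toFinset = Finset.univ := Finset.eq_univ_of_forall fun m => by
    obtain ⟨w, hw, rfl⟩ := exists_word m
    exact List.mem_toFinset.2 (List.mem_map_of_mem hw)
  rw [← h2, List.sum_toFinset _ h1, List.map_map]
  rfl

theorem sum_list {A : Type*} [AddCommMonoid A] (F : Fin 8 → A) (l : List (Fin 8)) :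
    (l.map F).sum = ∑ i, l.count i • F i := by
  rw [Finset.sum_list_map_count, Finset.sum_subset (Finset.subset_univ _)]
  intro i _ hi
  rw [List.count_eq_zero_of_not_mem (mt List.mem_toFinset.2 hi), zero_smul]

theorem sum_c [Fintype M] {A : Type*} [AddCommMonoid A] (F : Fin 8 → A) :
    ∑ m, F (c m) = ∑ i, sz i • F i := by
  have : ∀ i, (E.map fun w => cl (cd w)).count i = sz i := by decide +kernel
  rw [sum_M]
  simp only [c_ev, ← this, ← sum_list, List.map_map]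
  rfl

def pz : Fin 8 → ℕ := ![12, 12, 2160, 48, 48, 24, 0, 0]

theorem sum_pairs [Fintype M] {A : Type*} [AddCommMonoid A] (F : Fin 8 → A) :
    ∑ u, ∑ w, F (if c u = 2 ∧ c w = 2 then c (u * w) else 2) = ∑ i, pz i • F i := by
  have h1 : ∀ i, ((E.flatMap fun u => E.map fun w =>
      if cl (cd u) = 2 ∧ cl (cd w) = 2 then cl (cd (u ++ w)) else 2)).count i = pz i := by decide +kernel
  have h2 : ∀ (l : List (List ℕ)) (f : List ℕ → List A), (l.flatMap f).sum = (l.map fun a => (f a).sum).sum :=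
    fun l f => by induction l <;> simp_all
  simp only [sum_M, ← ev_append, c_ev, ← h1, ← sum_list, List.map_flatMap, h2, List.map_map]
  rfl

theorem pow_c (m : M) : c m = 0 ∨ c m = 2 ∨ c m = 3 ∨ ∃ k, m ^ k = s0 0 := by
  obtain ⟨w, hw, rfl⟩ := exists_word m
  have : ∀ w ∈ E, cl (cd w) = 0 ∨ cl (cd w) = 2 ∨ cl (cd w) = 3 ∨ cd w = cd [0] ∨ cd (w ++ w) = cd [0] ∨
      cd (w ++ w ++ w) = cd [0] ∨ cd (w ++ w ++ w ++ w) = cd [0] := by decide +kernel
  simp only [c_ev, ← ev_s0_eq_iff, ev_append, ev_single] at this ⊢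
  rcases this w hw with h | h | h | h | h | h | h
  exacts [.inl h, .inr (.inl h), .inr (.inr (.inl h)), .inr (.inr (.inr ⟨1, by rw [← h, pow_one]⟩)),
    .inr (.inr (.inr ⟨2, by rw [← h, sq]⟩)), .inr (.inr (.inr ⟨3, by rw [← h, pow_three']⟩)),
    .inr (.inr (.inr ⟨4, by rw [← h, pow_succ, pow_three']⟩))]

theorem c_iff (m : M) : (c m = 0 ↔ m = 1) ∧ (c m = 1 ↔ m = s0 0) ∧
    (c m = 2 ↔ m * m = 1 ∧ m ≠ 1 ∧ m ≠ s0 0) := by
  obtain ⟨w, hw, rfl⟩ := exists_word m
  have : ∀ w ∈ E, (cl (cd w) = 0 ↔ cd w = cd []) ∧ (cl (cd w) = 1 ↔ cd w = cd [0]) ∧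
      (cl (cd w) = 2 ↔ cd (w ++ w) = cd [] ∧ cd w ≠ cd [] ∧ cd w ≠ cd [0]) := by decide +kernel
  simpa only [c_ev, Ne, ← ev_s0_eq_iff, ev_append, ev_single, ev_nil] using this w hw

theorem prod_c (m : M) : D (c m) = -1 ∨ ∃ u w, c u = 2 ∧ c w = 2 ∧ m = u * w := by
  obtain ⟨w, hw, rfl⟩ := exists_word m
  have : ∀ w ∈ E, D (cl (cd w)) = -1 ∨ ∃ a ∈ E, ∃ b ∈ E, cl (cd a) = 2 ∧ cl (cd b) = 2 ∧
      cd w = cd (a ++ b) := by decide +kernel
  rw [c_ev]
  refine (this w hw).imp_right fun ⟨a, _, b, _, h1, h2, h3⟩ => ⟨ev s0 a, ev s0 b, ?_, ?_, ?_⟩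
  exacts [(c_ev a).trans h1, (c_ev b).trans h2, by rw [← ev_append, ev_s0_eq_iff, h3]]

theorem eq_z {m : M} (h : m ∈ Subgroup.center M) (h1 : m ≠ 1) : m = s0 0 := by
  obtain ⟨w, hw, rfl⟩ := exists_word m
  have : ∀ w ∈ E, cd w = cd [] ∨ cd w = cd [0] ∨ cd ([3] ++ w) ≠ cd (w ++ [3]) ∨
      cd ([2] ++ w) ≠ cd (w ++ [2]) := by decide +kernel
  simp only [Ne, ← ev_s0_eq_iff, ev_append, ev_single, ev_nil] at this
  rcases this w hw with e | e | e | e
  exacts [absurd e h1, e, absurd (Subgroup.mem_center_iff.1 h _) e, absurd (Subgroup.mem_center_iff.1 h _) e]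

end Cfsg.Agent.W3
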