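import Mathlib


/-! Integral vectors with a small Gram matrix, and the resulting arithmetic. -/

set_option autoImplicit false

namespace Cfsg.Agent.W3

open Finset

variable {ι : Type*} [Fintype ι] [DecidableEq ι]

theorem sum_supp {R : Type*} [Ring R] {f : ι → ℤ} {l : List ι} (hl : l.Nodup) (h : ∀ i, i ∉ l → f i = 0)
    (F : ι → R) : ∑ i, f i * F i = (l.map fun i => f i * F i).sum := by
  rw [← List.sum_toFinset _ hl, sum_subset (subset_univ l.toFinset)]
  intro i _ hi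
  rw [h i (mt List.mem_toFinset.2 hi), Int.cast_zero, zero_mul]

theorem sq_le {f : ι → ℤ} {l : List ι} (hl : l.Nodup) : (l.map fun i => f i * f i).sum ≤ ∑ i, f i * f i := by
  rw [← List.sum_toFinset _ hl]
  exact sum_le_sum_of_subset_of_nonneg (subset_univ _) fun i _ _ => mul_self_nonneg _

theorem next {f : ι → ℤ} {l : List ι} (hl : l.Nodup) {k : ℤ}
    (h : ∑ i, f i * f i = (l.map fun i => f i * f i).sum + k) :
    (k = 0 → ∀ i, i ∉ l → f i = 0) ∧ (0 < k → k ≤ 3 → ∃ a, a ∉ l ∧ (f a = 1 ∨ f a = -1)) := by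
  refine ⟨fun h0 i hi => ?_, fun h0 h3 => ?_⟩
  · have := sq_le (f := f) (List.nodup_cons.2 ⟨hi, hl⟩)
    rw [List.map_cons, List.sum_cons] at this
    exact mul_self_eq_zero.1 (le_antisymm (by linarith) (mul_self_nonneg _))
  · by_contra hn
    push Not at hn
    have h1 : ∀ i, i ∉ l → f i = 0 := fun i hi => by
      have := sq_le (f := f) (List.nodup_cons.2 ⟨hi, hl⟩)
      rw [List.map_cons, List.sum_cons] at this
      have h2 := hn i hi
      have : -2 < f i ∧ f i < 2 := by constructor <;> nlinarith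
      omega
    have := sum_supp hl h1 f
    simp only [Int.cast_id] at this
    linarith

theorem tri {a : ℤ} (h : a * a ≤ 3) : a = 0 ∨ a = 1 ∨ a = -1 := by
  have : -2 < a ∧ a < 2 := by constructor <;> nlinarith
  omega

structure Sh (n₀ n₁ n₂ n₃ : ι → ℤ) (o a b p r : ι) : Prop where
  nd : [o, a, b, p, r].Nodup
  sa : n₁ a = 1 ∨ n₁ a = -1
  sb : n₁ b = 1 ∨ n₁ b = -1
  sp : n₂ p = 1 ∨ n₂ p = -1
  sr : n₂ r = 1 ∨ n₂ r = -1
  z1 : ∀ i, i ∉ [o, a, b] → n₁ i = 0
  z2 : ∀ i, i ∉ [b, p, r] → n₂ i = 0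
  b2 : n₂ b = n₁ b
  b3 : n₃ b = n₁ b
  p3 : n₃ p = n₂ p
  a3 : n₃ a = 0
  r3 : n₃ r = 0
  z0 : n₀ a = 0 ∧ n₀ b = 0 ∧ n₀ p = 0 ∧ n₀ r = 0

set_option maxHeartbeats 800000 in
theorem shape {n₀ n₁ n₂ n₃ d : ι → ℤ} {o : ι} (hd : ∀ i, d i ≠ 0)
    (o0 : n₀ o = 0) (o1 : n₁ o = 1) (o2 : n₂ o = 0) (o3 : n₃ o = 1)
    (g00 : ∑ i, n₀ i * n₀ i = 2) (g11 : ∑ i, n₁ i * n₁ i = 3) (g22 : ∑ i, n₂ i * n₂ i = 3)
    (g33 : ∑ i, n₃ i * n₃ i = 4) (g10 : ∑ i, n₁ i * n₀ i = 0) (g20 : ∑ i, n₂ i * n₀ i = 0)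
    (g30 : ∑ i, n₃ i * n₀ i = 0) (g12 : ∑ i, n₁ i * n₂ i = 1) (g13 : ∑ i, n₁ i * n₃ i = 2)
    (g32 : ∑ i, n₃ i * n₂ i = 2) (d1 : ∑ i, n₁ i * d i = 0) (d2 : ∑ i, n₂ i * d i = 0)
    (d3 : ∑ i, n₃ i * d i = 0) : ∃ a b p r, Sh n₀ n₁ n₂ n₃ o a b p r := by
  have two : ∀ {f : ι → ℤ} {l : List ι}, l.Nodup → ∑ i, f i * f i = (l.map fun i => f i * f i).sum + 2 →
      ∃ a b, (a :: b :: l).Nodup ∧ (f a = 1 ∨ f a = -1) ∧ (f b = 1 ∨ f b = -1) ∧
        ∀ i, i ∉ a :: b :: l → f i = 0 := fun {f l} hl h => by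
    obtain ⟨b, hb, sb⟩ := (next hl h).2 (by norm_num) (by norm_num)
    have hl' := List.nodup_cons.2 ⟨hb, hl⟩
    have h' : ∑ i, f i * f i = ((b :: l).map fun i => f i * f i).sum + 1 := by
      rcases sb with e | e <;> simp [h, e] <;> ring
    obtain ⟨a, ha, sa⟩ := (next hl' h').2 (by norm_num) (by norm_num)
    have hl'' := List.nodup_cons.2 ⟨ha, hl'⟩
    exact ⟨a, b, hl'', sa, sb, (next hl'' (k := 0) (by
      rcases sa with e | e <;> simp [h', e] <;> ring)).1 rfl⟩
  obtain ⟨a, b, n1, sa, sb, z1⟩ := two (f := n₁) (l := [o]) (by simp) (by simp [g11, o1])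
  have S1 := fun F : ι → ℤ => sum_supp n1 z1 F
  simp only [Int.cast_id, List.map, List.sum_cons, List.sum_nil, o1] at S1
  wlog hab : n₃ a = 0 ∧ n₃ b = n₁ b generalizing a b
  · refine this b a (by simpa [eq_comm, and_comm, and_assoc, and_left_comm] using n1) sb sa
      (fun i hi => z1 i (by simpa [and_left_comm] using hi)) (fun F => by rw [S1]; ring) ?_
    have h1 := sq_le (f := n₃) n1
    rw [S1, o3] at g13
    simp only [List.map, List.sum_cons, List.sum_nil, o3, g33] at h1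
    have ta := tri (a := n₃ a) (by nlinarith [mul_self_nonneg (n₃ b)])
    have tb := tri (a := n₃ b) (by nlinarith [mul_self_nonneg (n₃ a)])
    rcases sa with e | e <;> rcases sb with e' | e' <;> rw [e, e'] at g13 <;> omega
  obtain ⟨a3, b3⟩ := hab
  have n2 : [b, o].Nodup := (List.nodup_cons.1 n1).2
  obtain ⟨p, q, n3, sp, sq, z3⟩ := two (f := n₃) n2 (by rcases sb with e | e <;> simp [g33, o3, b3, e])
  have S3 := fun F : ι → ℤ => sum_supp n3 z3 F
  simp only [Int.cast_id, List.map, List.sum_cons, List.sum_nil, o3, b3] at S3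
  have n4 : [a, p, q, b, o].Nodup := by
    refine List.nodup_cons.2 ⟨?_, n3⟩
    have := List.nodup_cons.1 n1
    simp only [List.mem_cons, List.not_mem_nil, or_false, not_or] at this ⊢
    refine ⟨?_, ?_, this.1⟩ <;> rintro rfl <;> omega
  have h1 := sq_le (f := n₂) n4
  simp only [List.map, List.sum_cons, List.sum_nil, o2, g22] at h1
  rw [S1, o2] at g12
  rw [S3, o2] at g32
  have q1 := mul_self_nonneg (n₂ a)
  have q2 := mul_self_nonneg (n₂ p)
  have q3 := mul_self_nonneg (n₂ q)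
  have q4 := mul_self_nonneg (n₂ b)
  have ta := tri (a := n₂ a) (by linarith)
  have tp := tri (a := n₂ p) (by linarith)
  have tq := tri (a := n₂ q) (by linarith)
  have tb := tri (a := n₂ b) (by linarith)
  have hA : n₂ a = 0 ∧ n₂ b = n₁ b := by
    by_contra hA
    have e : n₂ a = n₁ a ∧ n₂ b = 0 ∧ n₂ p = n₃ p ∧ n₂ q = n₃ q := by
      rcases sa with e | e <;> rcases sb with e' | e' <;> rcases sp with f | f <;> rcases sq with f' | f' <;>
        simp only [e, e', f, f'] at g12 g32 hA ⊢ <;> omega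
    obtain ⟨e1, e2, e3, e4⟩ := e
    have z2 := (next (f := n₂) n4 (k := 0) (by
      rcases sa with e | e <;> rcases sp with f | f <;> rcases sq with f' | f' <;>
        simp [g22, e1, e2, e3, e4, o2, e, f, f'])).1 rfl
    have := sum_supp n4 z2 d
    simp only [Int.cast_id, List.map, List.sum_cons, List.sum_nil, o2, e1, e2, e3, e4, d2] at this
    rw [S1] at d1
    rw [S3] at d3
    have h3 : n₁ a * d a = 0 := by linarith
    have := hd a
    rcases sa with e | e <;> rw [e] at h3 <;> omega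
  obtain ⟨a2, b2⟩ := hA
  wlog hpq : n₂ p = n₃ p ∧ n₂ q = 0 generalizing p q
  · refine this q p (by linarith) (by simpa [eq_comm, and_comm, and_assoc, and_left_comm] using n3) sq sp
      (fun i hi => z3 i (by simpa [and_left_comm] using hi)) (fun F => by rw [S3]; ring)
      (by simpa [eq_comm, and_comm, and_assoc, and_left_comm] using n4) (by linarith) q3 q2 tq tp ?_
    rcases sb with e' | e' <;> rcases sp with f | f <;> rcases sq with f' | f' <;>
      simp only [b2, e', f, f'] at g32 hpq ⊢ <;> omega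
  obtain ⟨p2, q2⟩ := hpq
  have h2 : ∑ i, n₂ i * n₂ i = ([a, p, q, b, o].map fun i => n₂ i * n₂ i).sum + 1 := by
    rcases sb with e | e <;> rcases sp with f | f <;> simp [g22, a2, b2, p2, q2, o2, e, f]
  obtain ⟨r, hr, sr⟩ := (next n4 h2).2 (by norm_num) (by norm_num)
  have n5 := List.nodup_cons.2 ⟨hr, n4⟩
  have z2 := (next n5 (f := n₂) (k := 0) (by rcases sr with e | e <;> simp [h2, e] <;> ring)).1 rfl
  have S2 := sum_supp n5 z2 n₀
  have h3 := sq_le (f := n₀) n5
  simp only [Int.cast_id, List.map, List.sum_cons, List.sum_nil, a2, b2, p2, q2, o2, o0, g00, g20] at S2 h3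
  rw [S1, o0] at g10
  rw [S3, o0] at g30
  simp only [List.nodup_cons, List.mem_cons, List.not_mem_nil, or_false, not_or] at n5
  obtain ⟨⟨ra, rp, rq, rb, ro⟩, ⟨ap, -, ab, ao⟩, ⟨-, pb, po⟩, -, bo, -⟩ := n5
  refine ⟨a, b, p, r, by simp [ra, rp, rb, ro, ap, ab, ao, pb, po, bo, Ne.symm ra, Ne.symm rp, Ne.symm rb,
      Ne.symm ro, Ne.symm ao, Ne.symm pb, Ne.symm po, Ne.symm bo],
    sa, sb, p2 ▸ sp, sr, fun i hi => z1 i (by simpa [and_comm, and_assoc, and_left_comm] using hi),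
    fun i hi => ?_, b2, b3, p2.symm, a3, z3 r (by simp [rp, rq, rb, ro]), ?_⟩
  · by_cases h : i ∈ [r, a, p, q, b, o]
    · simp only [List.mem_cons, List.not_mem_nil, or_false, not_or] at h hi
      rcases h with h | h | h | h | h | h
      exacts [absurd h hi.2.2, h ▸ a2, absurd h hi.2.1, h ▸ q2, absurd h hi.1, h ▸ o2]
    · exact z2 i h
  · have q1 := mul_self_nonneg (n₀ a)
    have q2 := mul_self_nonneg (n₀ p)
    have q3 := mul_self_nonneg (n₀ q)
    have q4 := mul_self_nonneg (n₀ b)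
    have q5 := mul_self_nonneg (n₀ r)
    have e1 : n₀ a * n₀ a = n₀ b * n₀ b := by
      rcases sa with e | e <;> rcases sb with e' | e' <;> rw [e, e'] at g10 <;>
        first | (rw [show n₀ a = n₀ b by linarith]) | (rw [show n₀ a = -n₀ b by linarith]; ring)
    have hb : n₀ b = 0 := by
      by_contra hb
      have : 1 ≤ n₀ b * n₀ b := by have := mul_self_pos.2 hb; omega
      have e2 : n₀ p = 0 := mul_self_eq_zero.1 (by linarith)
      have e3 : n₀ r = 0 := mul_self_eq_zero.1 (by linarith)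
      rw [e2, e3] at S2
      rcases sb with e' | e' <;> rw [e'] at S2 <;> omega
    rw [hb] at e1 S2 g30
    have hp : n₀ p = 0 := by
      by_contra hp
      have : 1 ≤ n₀ p * n₀ p := by have := mul_self_pos.2 hp; omega
      have e2 : n₀ r ≠ 0 := fun e => by rcases sp with f | f <;> rw [e, f] at S2 <;> omega
      have e3 : n₀ q ≠ 0 := fun e => by rcases sp with f | f <;> rw [e, f] at g30 <;> omega
      have := mul_self_pos.2 e2
      have := mul_self_pos.2 e3
      omega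
    rw [hp] at S2
    exact ⟨mul_self_eq_zero.1 (by linarith), hb, hp, by rcases sr with e | e <;> rw [e] at S2 <;> omega⟩

theorem arith {x y m b : ℤ} (hm : Odd m) (hb : Odd b) (x0 : x ≠ 0) (x1 : x - 1 ≠ 0) (y0 : y ≠ 0) (y1 : y ≠ 1)
    (xy : x - y ≠ 0) (h1 : (m : ℚ) * (1 + 9 / (x - 1) - 16 / x) = 576 * b)
    (h2 : (m : ℚ) * (1 / y + 9 / (x - y) - 16 / x) = 576 * b) : x = -12 ∨ x - y = 11 := by
  have x0' : (x : ℚ) ≠ 0 := by exact_mod_cast x0
  have x1' : (x : ℚ) - 1 ≠ 0 := by exact_mod_cast x1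
  have y0' : (y : ℚ) ≠ 0 := by exact_mod_cast y0
  have xy' : (x : ℚ) - y ≠ 0 := by exact_mod_cast xy
  have m0 : (m : ℚ) ≠ 0 := by rintro h; obtain rfl : m = 0 := by exact_mod_cast h
                              simp at hm
  have h3 : (y - 1) * ((x + 8) * y - x * (x - 1)) = 0 := by
    have := mul_left_cancel₀ m0 (h1.trans h2.symm)
    field_simp at this
    have : ((y : ℚ) - 1) * ((x + 8) * y - x * (x - 1)) * x = 0 := by linear_combination -this
    exact_mod_cast (mul_eq_zero.1 this).resolve_right x0'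
  have h4 := (mul_eq_zero.1 h3).resolve_left (sub_ne_zero.2 y1)
  have h5 : m * (x - 4) ^ 2 = 576 * b * (x * (x - 1)) := by
    field_simp at h1
    have : (m : ℚ) * (x - 4) ^ 2 = 576 * b * (x * (x - 1)) := by linear_combination h1
    exact_mod_cast this
  have h6 : x + 8 ∣ 72 := ⟨y - x + 9, by linear_combination -h4⟩
  obtain ⟨m, rfl⟩ := hm
  obtain ⟨b, rfl⟩ := hb
  have h7 := Int.le_of_dvd (by norm_num) h6
  have h8 := Int.le_of_dvd (by norm_num) ((neg_dvd).2 h6)
  have : x ≤ 64 := by omega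
  have : -80 ≤ x := by omega
  interval_cases x <;> omega

end Cfsg.Agent.W3
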