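import Mathlib
import Cfsg.Agent.Inv.W3a
import Cfsg.Agent.Inv.W3b
import Cfsg.Agent.Inv.SC3
import Cfsg.Agent.Char.IndTI
import Cfsg.Agent.Block.Kernel
import Cfsg.Agent.Block.Contr
import Cfsg.Agent.Block.Height
import Cfsg.Agent.Core.Cores
import Cfsg.Agent.Inv.WeakElem

/-! An involution centraliser which is `GL₂(3)` modulo an odd normal subgroup, with
self-centralising four-groups, is `GL₂(3)`. -/

set_option autoImplicit false
set_option maxRecDepth 100000
set_option linter.unusedSectionVars false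

open scoped ComplexConjugate _root_.Classical

namespace Cfsg.Agent.W3

open Subgroup Cfsg.Agent.Comp Cfsg.Agent.Gl23 Cfsg.Agent.Char Cfsg.Agent.Char.Ind Cfsg.Agent.Char.IndTI
  Cfsg.Agent.Block Cfsg.Agent.Dih

theorem neg_c (m : M) : c (s0 1) = 2 ∧ (D (c m) = -1 → D (c (m * s0 1)) ≠ -1) := by
  obtain ⟨w, hw, rfl⟩ := exists_word m
  have : ∀ w ∈ E, cl (cd [1]) = 2 ∧ (D (cl (cd w)) = -1 → D (cl (cd (w ++ [1]))) ≠ -1) := by decide +kernel
  simpa only [← c_ev, ev_append, ev_single] using this w hw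

theorem le_ker_of_lt {H : Type*} [Group H] [Fintype H] (S A : Subgroup H) [A.Normal] (hd : S ⊓ A = ⊥)
    {χ : H → ℂ} (hχ : IsCharacter H χ) (h : ∀ s ∈ S, s ≠ 1 → ∀ v ∈ A, χ (s * v) = χ s) {d : ℕ}
    (h1 : χ 1 = d) (hlt : d < Nat.card S) : A ≤ charKer χ := by
  have one : ∀ K : Subgroup H, ∃ n : ℕ, ∑ x : K, χ x = Nat.card K * n ∧ n ≤ d ∧ (n = d → K ≤ charKer χ) :=
    fun K => by
    obtain ⟨n, hn⟩ := classInner_isChar_nat (isChar_res K hχ) (isIrr_isChar isIrr_one)
    have h2 := isChar_mult_mul_degree_le (isChar_res K hχ) isIrr_one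
    refine ⟨n, ?_, ?_, fun e => (le_charKer_iff_inner K hχ).2 (by rw [hn, h1, e])⟩
    · rw [← hn, classInner_one_right, mul_inv_cancel_left₀ (card_ne_zero' K)]
    · simpa [hn, h1] using h2
  obtain ⟨n, hn, -, -⟩ := one (S ⊔ A)
  obtain ⟨n', hn', -, -⟩ := one S
  obtain ⟨m, hm, hmd, hA⟩ := one A
  have hb : Function.Bijective fun p : S × A =>
      (⟨p.1 * p.2, mul_mem (mem_sup_left p.1.2) (mem_sup_right p.2.2)⟩ : (S ⊔ A : Subgroup H)) := by
    refine ⟨fun p q e => ?_, fun x => ?_⟩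
    · have e1 : (p.1 : H) * p.2 = q.1 * q.2 := congrArg Subtype.val e
      have e2 : (q.1 : H)⁻¹ * p.1 = 1 := mem_bot.1 (hd ▸ mem_inf.2 ⟨mul_mem (inv_mem q.1.2) p.1.2, by
        rw [show (q.1 : H)⁻¹ * p.1 = q.2 * (p.2 : H)⁻¹ by rw [inv_mul_eq_iff_eq_mul, ← mul_assoc, ← e1]; group]
        exact mul_mem q.2.2 (inv_mem p.2.2)⟩)
      have e3 : p.1 = q.1 := Subtype.ext (inv_mul_eq_one.1 e2).symm
      exact Prod.ext e3 (Subtype.ext (mul_left_cancel (e3 ▸ e1)))
    · obtain ⟨s, hs, v, hv, e⟩ := mem_sup_of_normal_right.1 x.2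
      exact ⟨(⟨s, hs⟩, ⟨v, hv⟩), Subtype.ext e⟩
  have e1 := hb.sum_comp fun x : (S ⊔ A : Subgroup H) => χ x
  have e2 := Nat.card_eq_of_bijective _ hb
  rw [Fintype.sum_prod_type, hn, ← e2, Nat.card_prod, ← Finset.add_sum_erase _ _ (Finset.mem_univ 1),
    Finset.sum_congr rfl (g := fun s : S => (Nat.card A : ℂ) * χ s) fun s hs => by
      refine (Finset.sum_congr rfl fun (v : A) _ => h s s.2 (by simpa using hs) v v.2).trans ?_
      simp, ← Finset.mul_sum, Finset.sum_erase_eq_sub (Finset.mem_univ _), hn'] at e1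
  simp only [OneMemClass.coe_one, one_mul, hm, h1, Nat.cast_mul] at e1
  have e3 : (m : ℤ) + Nat.card S * n' - d = Nat.card S * n := by
    have := mul_left_cancel₀ (card_ne_zero' A) (show (Nat.card A : ℂ) * (m + Nat.card S * n' - d) =
      Nat.card A * (Nat.card S * n) by linear_combination e1)
    exact_mod_cast this
  refine hA (by
    have h3 : ((Nat.card S : ℕ) : ℤ) ∣ d - m := ⟨n' - n, by linear_combination -e3⟩
    have := Int.eq_zero_of_dvd_of_nonneg_of_lt (by omega) (by omega) h3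
    omega)

variable {G : Type*} [Group G] [Fintype G] {z : G}

structure Cf (z : G) (π : centralizer ({z} : Set G) →* M) : Prop where
  z2 : orderOf z = 2
  sur : Function.Surjective π
  odd : Odd (Nat.card π.ker)
  one : ∀ u : G, orderOf u = 2 → IsConj z u
  four : ∀ u v : centralizer ({z} : Set G), u * u = 1 → u ≠ 1 → (u : G) ≠ z → u * v = v * u → v * v = 1

def zz (z : G) : centralizer ({z} : Set G) := ⟨z, mem_centralizer_singleton_iff.2 rfl⟩

theorem zz_comm (h : centralizer ({z} : Set G)) : h * zz z = zz z * h :=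
  Subtype.ext (mem_centralizer_singleton_iff.1 h.2)

namespace Cf

variable {π : centralizer ({z} : Set G) →* M} (h : Cf z π)
include h

theorem ker_odd {v} (hv : π v = 1) : Odd (orderOf v) := h.odd.of_dvd_nat (Subgroup.orderOf_dvd_natCard _ hv)

theorem ker_one {v} (hv : π v = 1) (h2 : v * v = 1) : v = 1 := by
  have h1 : orderOf v ∣ 2 := orderOf_dvd_of_pow_eq_one (by rwa [sq])
  rcases (Nat.dvd_prime Nat.prime_two).1 h1 with e | e
  · exact orderOf_eq_one_iff.1 e
  · exact absurd (e ▸ h.ker_odd hv) (by decide)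

theorem zsq : zz z * zz z = 1 := Subtype.ext (by
  change z * z = 1
  rw [← sq, ← h.z2, pow_orderOf_eq_one])

theorem z1 : zz z ≠ 1 := fun e => by
  have := h.z2
  rw [show z = 1 from congrArg Subtype.val e, orderOf_one] at this
  omega

theorem piz : π (zz z) = s0 0 :=
  eq_z (mem_center_iff.2 fun m => by obtain ⟨a, rfl⟩ := h.sur m; rw [← map_mul, zz_comm, map_mul])
    fun e => h.z1 (h.ker_one e h.zsq)

theorem c_two {u} (h2 : u * u = 1) (h1 : u ≠ 1) (hz : u ≠ zz z) : c (π u) = 2 := by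
  refine (c_iff _).2.2.2 ⟨by rw [← map_mul, h2, map_one], fun e => h1 (h.ker_one e h2), fun e => hz ?_⟩
  have := h.ker_one (v := u * zz z) (by rw [map_mul, e, ← h.piz, ← map_mul, h.zsq, map_one]) (by
    rw [mul_assoc, ← mul_assoc (zz z), ← zz_comm, mul_assoc, h.zsq, mul_one, h2])
  rw [mul_eq_one_iff_eq_inv.1 this, inv_eq_of_mul_eq_one_right h.zsq]

theorem inverts {u} (hu : c (π u) = 2) : u * u = 1 ∧ ∀ v, π v = 1 → u * v * u⁻¹ = v⁻¹ := by
  obtain ⟨h2, h1, hz⟩ := (c_iff _).2.2.1 hu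
  obtain ⟨k, hk⟩ := h.ker_odd (v := u * u) (by rw [map_mul, h2])
  set t := u ^ (2 * k + 1) with ht
  have e1 : π t = π u := by rw [ht, map_pow, pow_succ, pow_mul, sq, h2, one_pow, one_mul]
  have e2 : t * t = 1 := by rw [ht, ← (Commute.refl u).mul_pow, ← hk, pow_orderOf_eq_one]
  have fix : ∀ v, π v = 1 → t * v = v * t → v = 1 := fun v hv e => h.ker_one hv (h.four t v e2
    (fun e => h1 (by rw [← e1, e, map_one])) (fun e => hz (by rw [← e1, ← h.piz]; congr 1; exact Subtype.ext e)) e)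
  have nrm : ∀ a v, π v = 1 → π (a * v * a⁻¹) = 1 := fun a v hv => by simp [hv]
  have inv : ∀ v, π v = 1 → t * v * t⁻¹ = v⁻¹ := by
    let f : π.ker → π.ker := fun v => ⟨t * v * t⁻¹ * (v : centralizer ({z} : Set G))⁻¹, mul_mem (nrm t v v.2) (inv_mem v.2)⟩
    have hf : Function.Injective f := fun a b e => by
      have e3 : t * a * t⁻¹ * (a : centralizer ({z} : Set G))⁻¹ = t * b * t⁻¹ * (b : centralizer ({z} : Set G))⁻¹ :=
        congrArg Subtype.val e
      refine Subtype.ext (inv_mul_eq_one.1 (fix _ (mul_mem (inv_mem b.2) a.2) ?_)).symm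
      calc _ = t * b.1⁻¹ * t⁻¹ * (t * a * t⁻¹ * a.1⁻¹) * a * t := by group
        _ = _ := by rw [e3]; group
    intro v hv
    obtain ⟨w, hw⟩ := Finite.injective_iff_surjective.1 hf ⟨v, hv⟩
    rw [← show t * w * t⁻¹ * w.1⁻¹ = v from congrArg Subtype.val hw]
    calc _ = (t * t) * w * (t * t)⁻¹ * (t * w.1⁻¹ * t⁻¹) := by group
      _ = _ := by rw [e2]; group
  have hw : π (t⁻¹ * u) = 1 := by rw [map_mul, map_inv, e1, inv_mul_cancel]
  have cm : t * u = u * t := ((Commute.refl u).pow_left _).eq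
  have : u = t := (inv_mul_eq_one.1 (fix _ hw (by rw [mul_assoc, ← cm]; group))).symm
  exact this ▸ ⟨e2, inv⟩

theorem cent_or_inv (a) : (∀ v, π v = 1 → a * v * a⁻¹ = v) ∨ ∀ v, π v = 1 → a * v * a⁻¹ = v⁻¹ := by
  have key : ∀ a, D (c (π a)) ≠ -1 → ∀ v, π v = 1 → a * v * a⁻¹ = v := fun a ha v hv => by
    obtain ⟨u, w, hu, hw, e⟩ := (prod_c _).resolve_left ha
    obtain ⟨u, rfl⟩ := h.sur u
    have h1 := (h.inverts (u := u⁻¹ * a) (by rw [map_mul, map_inv, e, inv_mul_cancel_left, hw])).2 v hv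
    calc _ = u * (u⁻¹ * a * v * (u⁻¹ * a)⁻¹) * u⁻¹ := by group
      _ = _ := by rw [h1, (h.inverts hu).2 _ (by rw [map_inv, hv, inv_one]), inv_inv]
  by_cases ha : D (c (π a)) = -1
  · obtain ⟨u, hu⟩ := h.sur (s0 1)
    have h1 := (h.inverts (u := u) (hu ▸ (neg_c 1).1))
    refine .inr fun v hv => ?_
    have h2 := key (a * u) (by rw [map_mul, hu]; exact (neg_c _).2 ha) v⁻¹ (by rw [map_inv, hv, inv_one])
    calc _ = a * (u * v⁻¹ * u⁻¹) * a⁻¹ := by rw [h1.2 _ (by rw [map_inv, hv, inv_one]), inv_inv]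
      _ = a * u * v⁻¹ * (a * u)⁻¹ := by group
      _ = _ := h2
  · exact .inl (key a ha)

theorem pow_z {a} (ha : c (π a) ≠ 0 ∧ c (π a) ≠ 2 ∧ c (π a) ≠ 3) : z ∈ zpowers (a : G) := by
  obtain ⟨k, hk⟩ := (((pow_c (π a)).resolve_left ha.1).resolve_left ha.2.1).resolve_left ha.2.2
  obtain ⟨m, hm⟩ := h.ker_odd (v := a ^ k * zz z) (by rw [map_mul, map_pow, hk, ← h.piz, ← map_mul, h.zsq, map_one])
  have h1 := pow_orderOf_eq_one (a ^ k * zz z)
  rw [(show Commute _ _ from zz_comm _).mul_pow, hm, pow_succ (zz z), pow_mul (zz z), sq, h.zsq, one_pow, one_mul,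
    mul_eq_one_iff_eq_inv, inv_eq_of_mul_eq_one_right h.zsq] at h1
  have h2 : ((a : G) ^ k) ^ (2 * m + 1) = z := congrArg Subtype.val h1
  have : ((a : G) ^ k) ^ (2 * m + 1) ∈ zpowers (a : G) := pow_mem (pow_mem (mem_zpowers _) _) _
  rwa [h2] at this

theorem mem_of_conj {t g : G} (h1 : z ∈ zpowers t) (h2 : z ∈ zpowers (g * t * g⁻¹)) :
    g ∈ centralizer ({z} : Set G) := by
  obtain ⟨k, hk⟩ := h2
  have h3 : g⁻¹ * z * g ∈ zpowers t := ⟨k, by
    simp only [conj_zpow] at hk
    simp only [← hk]; group⟩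
  have := Inv.eq_of_two_of_mem_zpowers h3 h1 (by simpa using Inv.two_conj h.z2 g⁻¹) h.z2
  rw [mem_centralizer_singleton_iff, ← mul_right_inj g⁻¹, ← mul_assoc, ← mul_assoc, this]; group

end Cf

noncomputable def th (π : centralizer ({z} : Set G) →* M) (j : Fin 4) : centralizer ({z} : Set G) → ℂ :=
  fun a => L (Θ j (c (π a)))

noncomputable def Th (π : centralizer ({z} : Set G) →* M) (j : Fin 4) : G → ℂ := indFun _ (th π j)

theorem th_gen (π : centralizer ({z} : Set G) →* M) (j : Fin 4) : IsGeneralizedCharacter _ (th π j) :=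
  isGenChar_comp π (gen j)

theorem exists_mult (π : centralizer ({z} : Set G) →* M) :
    ∃ n : Fin 4 → IrrCharacter G → ℤ, ∀ j χ, classInner (Th π j) χ.1 = n j χ := by
  choose n hn using fun j (χ : IrrCharacter G) =>
    classInner_isGenChar_int (IndRep.isGenChar_indFun _ (th_gen π j)) (irr_isGenChar χ)
  exact ⟨n, hn⟩

theorem inner_M (φ ψ : Fin 8 → R) {k : ℤ} (hk : ∑ i, sz i • (φ i * star (ψ i)) = 48 * k) :
    classInner (fun m : M => L (φ (c m))) (fun m => L (ψ (c m))) = k := by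
  rw [classInner_def, card_M]
  simp only [conj_L, ← map_mul]
  rw [← map_sum, sum_c fun i => φ i * star (ψ i), hk, map_mul, map_intCast, map_ofNat]
  push_cast; field_simp

namespace Cf

variable {π : centralizer ({z} : Set G) →* M} (h : Cf z π)
include h

theorem th_supp (j : Fin 4) {a : centralizer ({z} : Set G)} (ha : z ∉ zpowers (a : G)) : th π j a = 0 := by
  have : ∀ j, Θ j 0 = 0 ∧ Θ j 2 = 0 ∧ Θ j 3 = 0 := by decide
  by_contra hn
  refine ha (h.pow_z ⟨?_, ?_, ?_⟩) <;> intro e <;> simp [th, e, this j] at hn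

theorem one_not : z ∉ zpowers (1 : G) := fun e => h.z1 (Subtype.ext (show z = 1 by simpa using e))

theorem gram (i j : Fin 4) {k : ℤ} (hk : ∑ l, sz l • (Θ i l * star (Θ j l)) = 48 * k) :
    classInner (Th π i) (Th π j) = k := by
  rw [Th, Th, inner_indFun_of_TI _ {t | z ∈ zpowers t} (fun g hg t h1 h2 => absurd (h.mem_of_conj h1 h2) hg)
    (isGenChar_classFun (th_gen π j)) (fun x hx => h.th_supp i hx) (fun x hx => h.th_supp j hx)
    (h.th_supp i h.one_not), ← inner_M _ _ hk, ← inner_comp_surjective π h.sur]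
  rfl

theorem inner_one (i : Fin 4) {k : ℤ} (hk : ∑ l, sz l • (Θ i l * star 1) = 48 * k) :
    classInner (Th π i) (oneIrr G).1 = k := by
  rw [Th, inner_indFun_left _ _ (irr_classFun _), ← inner_M _ (fun _ => 1) hk, ← inner_comp_surjective π h.sur]
  simp only [map_one]
  rfl

theorem Th_odd (j : Fin 4) {g : G} (hg : ¬ 2 ∣ orderOf g) : Th π j g = 0 :=
  indFun_eq_zero_of_forall _ _ fun x hx => h.th_supp j fun e => hg (by
    have := orderOf_dvd_of_mem_zpowers e
    rwa [h.z2, show ((⟨_, hx⟩ : centralizer ({z} : Set G)) : G) = MulAut.conj x⁻¹ g by simp,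
      MulEquiv.orderOf_eq] at this)

theorem card_H : Nat.card (centralizer ({z} : Set G)) = Nat.card π.ker * 48 := by
  rw [← π.ker.card_mul_index, index_ker, MonoidHom.range_eq_top.2 h.sur, card_top, card_M]

theorem value {P : Ideal AlgInt} (hP : IsPModular 2 P) {χ : IrrCharacter G} (hχ : χ ∈ principalBlock P G)
    {n : Fin 4 → IrrCharacter G → ℤ} (hn : ∀ j χ, classInner (Th π j) χ.1 = n j χ) :
    χ.1 z = (2 * n 0 χ + 3 * n 1 χ + 3 * n 2 χ - 2 * n 3 χ : ℤ) := by
  have e : ∀ i, 2 * Θ 0 i + 3 * Θ 1 i + 3 * Θ 2 i - 2 * Θ 3 i = if i = 1 then 48 else 0 := by decide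
  have h1 : ∀ a, (2 * th π 0 a + 3 * th π 1 a + 3 * th π 2 a - 2 * th π 3 a) * conj (χ.1 a) =
      L (if c (π a) = 1 then 48 else 0) * χ.1 z := fun a => by
    rw [show 2 * th π 0 a + 3 * th π 1 a + 3 * th π 2 a - 2 * th π 3 a = L (if c (π a) = 1 then 48 else 0) by
      rw [← e]; simp [th, map_ofNat]]
    split_ifs with ha
    · have hv : π (zz z * a) = 1 := by rw [map_mul, (c_iff _).2.1.1 ha, ← h.piz, ← map_mul, h.zsq, map_one]
      have := principal_char_mul_eq hP (u := z) ⟨1, by rw [h.z2, pow_one]⟩ (irr_classFun χ)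
        (blockPart_irr_of_mem hχ) 1 (zz z * a) (by simp) (by rw [one_mul]; exact (h.ker_odd hv).not_two_dvd_nat)
        (Core.le_pPrimeCore (N := π.ker) inferInstance (Nat.coprime_two_right.2 h.odd) hv)
      have z2 : z * z = 1 := congrArg Subtype.val h.zsq
      simp only [OneMemClass.coe_one, one_mul, mul_one, Subgroup.coe_mul, zz, ← mul_assoc, z2] at this
      rw [this, conj_irr_of_mul_self z2]
    · simp
  have h2 := fun j => hn j χ
  simp only [Th, inner_indFun_left _ _ (irr_classFun χ), classInner_def] at h2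
  have h3 := Finset.sum_congr rfl fun a (_ : a ∈ Finset.univ) => h1 a
  rw [← Finset.sum_mul, sum_comp_surjective π h.sur fun m => L (if c m = 1 then 48 else 0), ← map_sum,
    sum_c fun i => if i = 1 then (48 : R) else 0, show ∑ i, sz i • (if i = 1 then (48 : R) else 0) = 48 by decide,
    map_ofNat] at h3
  simp only [add_mul, sub_mul, mul_assoc, Finset.sum_add_distrib, Finset.sum_sub_distrib, ← Finset.mul_sum] at h3
  push_cast
  rw [← h2, ← h2, ← h2, ← h2, h.card_H]
  have := card_ne_zero' π.ker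
  push_cast
  field_simp
  linear_combination -h3

theorem conj_of_c {u} (hu : c (π u) = 2) : IsConj z (u : G) := h.one _ (by
  have := Fact.mk Nat.prime_two
  rw [orderOf_coe]
  exact orderOf_eq_prime (by rw [sq, (h.inverts hu).1]) fun e => ((c_iff _).2.2.1 hu).2.1 (by rw [e, map_one]))

theorem pairs_eq {a : centralizer ({z} : Set G)} (ha : z ∈ zpowers (a : G)) :
    pairs z z a = ∑ u, if c (π u) = 2 ∧ c (π (u⁻¹ * a)) = 2 then 1 else 0 := by
  have := sum_extendByZero_mul _ (fun u => if c (π u) = 2 ∧ c (π (u⁻¹ * a)) = 2 then 1 else 0) fun _ => 1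
  simp only [mul_one] at this
  rw [← this, pairs]
  refine Finset.sum_congr rfl fun x _ => ?_
  rw [classInd_apply, classInd_apply, extendByZero_eq_dite]
  by_cases hc : IsConj z x ∧ IsConj z (x⁻¹ * a)
  · have two : ∀ {y}, IsConj z y → y * y = 1 ∧ y ≠ 1 := fun {y} hy => by
      obtain ⟨g, rfl⟩ := isConj_iff.1 hy
      have := Inv.two_conj h.z2 g
      exact ⟨by rw [← sq, ← this, pow_orderOf_eq_one], fun e => by rw [e, orderOf_one] at this; omega⟩
    obtain ⟨x2, x1⟩ := two hc.1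
    obtain ⟨w2, w1⟩ := two hc.2
    have hx : x ∈ centralizer ({z} : Set G) := h.mem_of_conj ha (by
      rwa [show x * a * x⁻¹ = (a : G)⁻¹ by
        rw [eq_inv_iff_mul_eq_one, ← w2]; nth_rw 1 [← inv_eq_of_mul_eq_one_right x2]; group, zpowers_inv])
    have az : a * a = 1 → a = zz z := fun e => Subtype.ext (Inv.eq_of_two_of_mem_zpowers (mem_zpowers _) ha (by
      have := Fact.mk Nat.prime_two
      exact orderOf_eq_prime (by rw [sq]; exact congrArg Subtype.val e) fun e => h.one_not (e ▸ ha)) h.z2)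
    have w2' : ((⟨x, hx⟩ : centralizer ({z} : Set G))⁻¹ * a) * ((⟨x, hx⟩ : centralizer ({z} : Set G))⁻¹ * a) = 1 :=
      Subtype.ext w2
    have x2' : (⟨x, hx⟩ : centralizer ({z} : Set G)) * ⟨x, hx⟩ = 1 := Subtype.ext x2
    rw [if_pos hc.1, if_pos hc.2, dif_pos hx, mul_one]
    refine (if_pos ⟨h.c_two x2' (fun e => x1 (congrArg Subtype.val e)) fun e => ?_,
      h.c_two w2' (fun e => w1 (congrArg Subtype.val e)) fun e => ?_⟩).symm
    · rw [e, inv_eq_of_mul_eq_one_right h.zsq, mul_assoc, ← mul_assoc a, zz_comm, mul_assoc, ← mul_assoc, h.zsq,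
        one_mul] at w2'
      refine w1 (inv_mul_eq_one.2 ?_)
      rw [az w2']; exact congrArg Subtype.val e
    · have e1 := inv_mul_eq_iff_eq_mul.1 e
      have := az (by rw [e1, mul_assoc, ← mul_assoc (zz z), ← zz_comm, mul_assoc, h.zsq, mul_one, x2'])
      rw [this] at e1
      exact x1 (congrArg Subtype.val (right_eq_mul.1 e1))
  · rw [show (if IsConj z x then (1 : ℂ) else 0) * (if IsConj z (x⁻¹ * a) then 1 else 0) = 0 by
      split_ifs with h1 h2
      exacts [absurd ⟨h1, h2⟩ hc, mul_zero _, zero_mul _, zero_mul _]]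
    split_ifs with h1 h2
    exacts [absurd ⟨h.conj_of_c h2.1, h.conj_of_c h2.2⟩ hc, rfl, rfl]

theorem inner_pairs_Th (j : Fin 4) (hj : ∑ i, pz i • Θ j i = 192) :
    classInner (Th π j) (pairs z z) = 4 * Nat.card π.ker := by
  have h0 : ∀ j, Θ j 2 = 0 := by decide
  have h1 : ∀ a, th π j a * conj (pairs z z a) =
      ∑ u, if c (π u) = 2 ∧ c (π (u⁻¹ * a)) = 2 then th π j a else 0 := fun a => by
    by_cases ha : z ∈ zpowers (a : G)
    · rw [h.pairs_eq ha, map_sum, Finset.mul_sum]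
      exact Finset.sum_congr rfl fun u _ => by split_ifs <;> simp
    · simp [h.th_supp j ha]
  rw [Th, inner_indFun_left _ _ (classFun_pairs z z), classInner_def]
  simp only [h1]
  rw [Finset.sum_comm, Finset.sum_congr rfl (g := fun u => (Nat.card π.ker : ℂ) *
      ∑ w, L (Θ j (if c (π u) = 2 ∧ c w = 2 then c (π u * w) else 2))) fun u _ => by
    rw [← sum_comp_surjective π h.sur]
    refine Fintype.sum_equiv (Equiv.mulLeft u⁻¹) _ _ fun a => ?_
    rw [Equiv.coe_mulLeft, ← map_mul, mul_inv_cancel_left]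
    split_ifs
    exacts [rfl, by rw [h0, map_zero]], ← Finset.mul_sum,
    sum_comp_surjective π h.sur fun u => ∑ w, L (Θ j (if c u = 2 ∧ c w = 2 then c (u * w) else 2))]
  simp only [← map_sum]
  rw [sum_pairs, hj, h.card_H, map_ofNat]
  have := card_ne_zero' π.ker
  push_cast
  field_simp
  norm_num

theorem exists_small [IsSimpleGroup G] (hn : ¬ IsMulCommutative G) {P : Ideal AlgInt} (hP : IsPModular 2 P)
    (ho : Odd (centralizer ({z} : Set G)).index) :
    ∃ χ ∈ principalBlock P G, χ ≠ oneIrr G ∧ charDegree χ.1 < 16 := by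
  obtain ⟨n, hn⟩ := exists_mult π
  have gr : ∀ i j (k : ℤ), ∑ l, sz l • (Θ i l * star (Θ j l)) = 48 * k → ∑ χ, n i χ * n j χ = k :=
    fun i j k hk => by
      have := (classInner_eq_sum_of_mult (indFun_classFun _ _) (hn i) (hn j)).symm.trans (h.gram i j hk)
      exact_mod_cast this
  have on : ∀ i (k : ℤ), ∑ l, sz l • (Θ i l * star 1) = 48 * k → n i (oneIrr G) = k := fun i k hk => by
    have := (hn i _).symm.trans (h.inner_one i hk)
    exact_mod_cast this
  set d : IrrCharacter G → ℤ := fun χ => charDegree χ.1 with hd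
  have d0 : ∀ χ, d χ ≠ 0 := fun χ e => irr_one_ne_zero χ (by
    rw [← irr_degree_cast, show charDegree χ.1 = 0 by simpa [hd] using e, Nat.cast_zero])
  have dc : ∀ χ : IrrCharacter G, χ.1 1 = d χ := fun χ => by rw [← irr_degree_cast]; simp [hd]
  have dg : ∀ j, ∑ χ, n j χ * d χ = 0 := fun j => by
    have := classFun_apply_eq_sum (f := Th π j) (indFun_classFun _ _) 1
    rw [h.Th_odd j (by simp)] at this
    simp only [hn, dc] at this
    exact_mod_cast this.symm
  have db : ∀ j, ∑ χ, n j χ * (if χ ∈ principalBlock P G then d χ else 0) = 0 := fun j => by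
    have := blockPart_congr_regular hP (isV_principal hP) (f := Th π j) (f' := 0) (fun s hs => h.Th_odd j hs)
      (s := 1) (by simp)
    rw [blockPart_eq_sum, blockPart_eq_sum, Finset.sum_filter] at this
    simp only [hn, dc, classInner_def, Pi.zero_apply, zero_mul, Finset.sum_const_zero, mul_zero] at this
    simp only [mul_ite, mul_zero]
    exact_mod_cast this
  obtain ⟨a, b, p, r, S⟩ := shape (n₀ := n 0) (n₁ := n 1) (n₂ := n 2) (n₃ := n 3) d0 (on 0 0 (by decide))
    (on 1 1 (by decide)) (on 2 0 (by decide)) (on 3 1 (by decide)) (gr 0 0 2 (by decide)) (gr 1 1 3 (by decide))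
    (gr 2 2 3 (by decide)) (gr 3 3 4 (by decide)) (gr 1 0 0 (by decide)) (gr 2 0 0 (by decide))
    (gr 3 0 0 (by decide)) (gr 1 2 1 (by decide)) (gr 1 3 2 (by decide)) (gr 3 2 2 (by decide)) (dg 1) (dg 2) (dg 3)
  have nd := S.nd
  simp only [List.nodup_cons, List.mem_cons, List.not_mem_nil, or_false, not_or] at nd
  obtain ⟨⟨oa, ob, op, or⟩, ⟨ab, ap, ar⟩, ⟨bp, br⟩, pr, -⟩ := nd
  have n1 : [oneIrr G, a, b].Nodup := by simp [oa, ob, ab]
  have n2 : [b, p, r].Nodup := by simp [bp, br, pr]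
  have o1 := on 1 1 (by decide)
  have d1 : d (oneIrr G) = 1 := by have : (1 : ℂ) = _ := dc (oneIrr G); exact_mod_cast this.symm
  have e1 := sum_supp n1 S.z1 d
  have e2 := sum_supp n2 S.z2 d
  have f1 := sum_supp n1 S.z1 fun χ => if χ ∈ principalBlock P G then d χ else 0
  have f2 := sum_supp n2 S.z2 fun χ => if χ ∈ principalBlock P G then d χ else 0
  simp only [Int.cast_id, dg, db, List.map, List.sum_cons, List.sum_nil, o1, d1, S.b2,
    if_pos (oneIrr_mem_principalBlock hP)] at e1 e2 f1 f2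
  have nz : ∀ {s : ℤ} (χ), s = 1 ∨ s = -1 → s * d χ ≠ 0 := fun χ hs =>
    mul_ne_zero (by rcases hs with e | e <;> omega) (d0 χ)
  have a0 := nz a S.sa
  have b0 := nz b S.sb
  have p0 := nz p S.sp
  have r0 := nz r S.sr
  obtain ⟨ha, hb⟩ : a ∈ principalBlock P G ∧ b ∈ principalBlock P G := by
    split_ifs at f1 <;> first | constructor <;> assumption | omega
  obtain ⟨hp, hr⟩ : p ∈ principalBlock P G ∧ r ∈ principalBlock P G := by
    rw [if_pos hb] at f2
    split_ifs at f2 <;> first | constructor <;> assumption | omega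
  have va := h.value hP ha hn
  have vb := h.value hP hb hn
  have vp := h.value hP hp hn
  have vr := h.value hP hr hn
  rw [S.z0.1, S.z2 a (by simp [ab, ap, ar]), S.a3] at va
  rw [S.z0.2.1, S.b2, S.b3] at vb
  rw [S.z0.2.2.1, S.z1 p (by simp [(Ne.symm op), (Ne.symm ap), (Ne.symm bp)]), S.p3] at vp
  rw [S.z0.2.2.2, S.z1 r (by simp [(Ne.symm or), (Ne.symm ar), (Ne.symm br)]), S.r3] at vr
  have z2 : z * z = 1 := congrArg Subtype.val h.zsq
  have pe : ∀ j, ∑ i, pz i • Θ j i = 192 → ((centralizer ({z} : Set G)).index : ℂ) *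
      ∑ χ, n j χ * (χ.1 z ^ 2 / d χ) = 192 * Nat.card π.ker ^ 2 := fun j hj => by
    have := h.inner_pairs_Th j hj
    rw [classInner_eq_sum (f := Th π j) (indFun_classFun _ _)] at this
    simp only [inner_pairs, hn, map_mul, map_div₀, conj_irr_of_mul_self z2, dc, map_intCast,
      map_natCast] at this
    rw [← (centralizer ({z} : Set G)).card_mul_index, h.card_H] at this
    have h0 := card_ne_zero' π.ker
    rw [Finset.mul_sum, show (192 : ℂ) * Nat.card π.ker ^ 2 = 48 * Nat.card π.ker * (4 * Nat.card π.ker) by ring,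
      ← this, Finset.mul_sum]
    refine Finset.sum_congr rfl fun χ _ => ?_
    push_cast
    field_simp
  have q1 := pe 1 (by decide)
  have q2 := pe 2 (by decide)
  rw [sum_supp n1 S.z1] at q1
  rw [sum_supp n2 S.z2] at q2
  simp only [List.map, List.sum_cons, List.sum_nil, o1, d1, S.b2, va, vb, vp, vr, coe_oneIrr] at q1 q2
  have dv : ∀ {s : ℤ} (k : ℤ) (χ), s = 1 ∨ s = -1 → (s : ℂ) * (((k * s : ℤ) : ℂ) ^ 2 / d χ) =
      k ^ 2 / (s * d χ : ℤ) := fun k χ hs => by
    have : (d χ : ℂ) ≠ 0 := by exact_mod_cast d0 χ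
    rcases hs with rfl | rfl <;> push_cast <;> field_simp
  rw [show 2 * 0 + 3 * n 1 a + 3 * 0 - 2 * 0 = 3 * n 1 a by ring,
    show 2 * 0 + 3 * n 1 b + 3 * n 1 b - 2 * n 1 b = 4 * n 1 b by ring, dv 3 a S.sa, dv 4 b S.sb] at q1
  rw [show 2 * 0 + 3 * 0 + 3 * n 2 p - 2 * n 2 p = 1 * n 2 p by ring,
    show 2 * 0 + 3 * 0 + 3 * n 2 r - 2 * 0 = 3 * n 2 r by ring,
    show 2 * 0 + 3 * n 1 b + 3 * n 1 b - 2 * n 1 b = 4 * n 1 b by ring, dv 1 p S.sp, dv 4 b S.sb, dv 3 r S.sr] at q2
  have y1 : n 2 p * d p ≠ 1 := fun e => SC3.deg_ne_one ‹_› (Ne.symm op) (by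
    rw [dc]
    have : 0 ≤ d p := Int.natCast_nonneg _
    rcases S.sp with f | f <;> rw [f] at e
    · rw [show d p = 1 by omega, Int.cast_one]
    · omega)
  have := arith (x := -(n 1 b * d b)) (y := n 2 p * d p) (m := 3 * Nat.card π.ker * (centralizer ({z} : Set G)).index)
    (b := Nat.card π.ker ^ 3) (((by decide : Odd (3 : ℤ)).mul h.odd.natCast).mul ho.natCast) h.odd.natCast.pow
    (by omega) (by omega) p0 y1 (by omega) (by
      rw [← Rat.cast_inj (α := ℂ), show (-(n 1 b * d b) : ℤ) = n 1 a * d a + 1 by omega]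
      rw [show n 1 b * d b = -(n 1 a * d a + 1) by omega] at q1
      push_cast at q1 ⊢
      rw [div_neg] at q1
      rw [add_sub_cancel_right]
      linear_combination 3 * (Nat.card π.ker : ℂ) * q1) (by
      rw [← Rat.cast_inj (α := ℂ), show (-(n 1 b * d b) : ℤ) = n 2 p * d p + n 2 r * d r by omega]
      rw [show n 1 b * d b = -(n 2 p * d p + n 2 r * d r) by omega] at q2
      push_cast at q2 ⊢
      rw [div_neg] at q2
      rw [add_sub_cancel_left]
      linear_combination 3 * (Nat.card π.ker : ℂ) * q2)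
  rcases this with e | e
  · refine ⟨b, hb, (Ne.symm ob), ?_⟩
    rcases S.sb with f | f <;> rw [f] at e <;> simp only [hd] at e <;> omega
  · refine ⟨r, hr, (Ne.symm or), ?_⟩
    have : n 2 r * d r = 11 := by omega
    rcases S.sr with f | f <;> rw [f] at this <;> simp only [hd] at this <;> omega

theorem inj [IsSimpleGroup G] (hn : ¬ IsMulCommutative G) (ho : Odd (centralizer ({z} : Set G)).index) :
    Function.Injective π := by
  have := Fact.mk Nat.prime_two
  obtain ⟨P, hP⟩ := exists_isPModular Nat.prime_two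
  obtain ⟨χ, hχ, h1, hd⟩ := h.exists_small hn hP ho
  obtain ⟨S⟩ := (inferInstance : Nonempty (Sylow 2 (centralizer ({z} : Set G))))
  have hS : 16 ≤ Nat.card S := by
    rw [S.card_eq_multiplicity, h.card_H]
    exact Nat.pow_le_pow_right two_pos ((Nat.prime_two.pow_dvd_iff_le_factorization (k := 4)
      (h.card_H ▸ Nat.card_pos.ne')).1 (Dvd.dvd.mul_left (by norm_num) _))
  have two : ∀ s ∈ (S : Subgroup (centralizer ({z} : Set G))), ∃ k, orderOf s = 2 ^ k := fun s hs => by
    simpa using IsPGroup.iff_orderOf.1 S.isPGroup' ⟨s, hs⟩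
  have hA := le_ker_of_lt S π.ker (eq_bot_iff.2 fun v hv => by
    obtain ⟨k, hk⟩ := two v hv.1
    have := h.ker_odd hv.2
    rw [hk] at this
    rcases k with _ | k
    · exact orderOf_eq_one_iff.1 hk
    · exact absurd this (by simp [pow_succ])) (isChar_res _ (irr_isChar χ)) (fun s hs s1 v hv => ?_)
    (irr_degree_cast χ).symm (hd.trans_le hS)
  · refine (injective_iff_map_eq_one π).2 fun v hv => Subtype.ext ?_
    have := (mem_charKer_iff (isChar_res _ (irr_isChar χ))).1 (hA hv)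
    exact mem_bot.1 (charKer_eq_bot_of_simple χ.2 (fun e => h1 (Subtype.ext e)) ▸
      (mem_charKer_iff (irr_isChar χ)).2 this)
  rcases h.cent_or_inv s with e | e
  · obtain ⟨k, hk⟩ := two s hs
    obtain ⟨⟨t, ht⟩, t2⟩ := exists_prime_orderOf_dvd_card' (G := zpowers s) 2 (by
      rw [Nat.card_zpowers, hk]
      exact dvd_pow_self _ fun e => s1 (orderOf_eq_one_iff.1 (by rw [hk, e, pow_zero])))
    rw [orderOf_mk] at t2
    by_cases tz : t = zz z
    · have hz : z ∈ zpowers (s : G) := by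
        obtain ⟨i, hi⟩ := ht
        exact ⟨i, congrArg Subtype.val (hi.trans tz)⟩
      have hC : centralizer ({(s : G)} : Set G) ≤ centralizer ({z} : Set G) := fun g hg => by
        obtain ⟨i, hi⟩ := hz
        rw [mem_centralizer_singleton_iff] at hg ⊢
        exact hi ▸ (show Commute g s from hg).zpow_right i
      have hv' : (v : G) ∈ centralizer ({(s : G)} : Set G) :=
        mem_centralizer_singleton_iff.2 (congrArg Subtype.val (mul_inv_eq_iff_eq_mul.1 (e v hv)).symm)
      have := principal_char_mul_eq hP (u := (s : G)) ⟨k, by rw [orderOf_coe, hk]⟩ (irr_classFun χ)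
        (blockPart_irr_of_mem hχ) 1 ⟨v, hv'⟩ (by simp)
        (by rw [one_mul, ← orderOf_coe, orderOf_coe v]; exact (h.ker_odd hv).not_two_dvd_nat)
        (Core.le_pPrimeCore (N := (π.comp (inclusion hC)).ker) inferInstance (Nat.coprime_two_right.2
          (h.odd.of_dvd_nat (card_comap_dvd_of_injective π.ker _ (inclusion_injective hC)))) hv)
      simpa using this
    · have := (h.inverts (h.c_two (by rw [← sq, ← t2, pow_orderOf_eq_one])
        (fun e => by rw [e, orderOf_one] at t2; omega) tz)).2 v hv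
      obtain ⟨i, rfl⟩ := ht
      rw [((show Commute s v from mul_inv_eq_iff_eq_mul.1 (e v hv)).zpow_left i).eq, mul_inv_cancel_right] at this
      rw [h.ker_one hv (mul_eq_one_iff_eq_inv.2 this), mul_one]
  · obtain ⟨k, hk⟩ := h.ker_odd hv
    have := irr_classFun χ (s * v : centralizer ({z} : Set G)) (v ^ (k + 1) : centralizer ({z} : Set G))
    rw [← this]
    norm_cast
    have e1 := e (v ^ (k + 1))⁻¹ (inv_mem (pow_mem hv _) : _ ∈ π.ker)
    have e2 : v ^ (k + 1) * v ^ (k + 1) = v := by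
      rw [← pow_add, show k + 1 + (k + 1) = 2 * k + 1 + 1 by ring, pow_succ, ← hk, pow_orderOf_eq_one, one_mul]
    generalize v ^ (k + 1) = w at e1 e2
    rw [inv_inv] at e1
    rw [show w * (s * v) * w⁻¹ = s by rw [← e2]; nth_rw 1 [← e1]; group]

end Cf

end Cfsg.Agent.W3
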